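import Cfsg.Agent.SuzSeven.Local
import Cfsg.Agent.SuzThree.Main

/-!
The centraliser and normaliser of a Sylow subgroup of order seven.
-/

set_option autoImplicit false
set_option linter.style.haveILetI false
set_option maxRecDepth 100000

namespace CfsgLib.SuzSeven

open CfsgLib CfsgLib.SuzInvol CfsgLib.SuzThree Subgroup
open CfsgLib.SuzEleven (cX mem_cX)
open Cfsg.Agent.McLU43 (K9)

local notation "PSU4" => Cfsg.PSU 4 K9 3

theorem isoAltFour {A : Type*} [Group A] [Finite A] (Y : Subgroup A) (h12 : Nat.card A = 12) (h3 : Nat.card Y = 3)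
    (hcore : ∀ a ∈ Y, (∀ g : A, g * a * g⁻¹ ∈ Y) → a = 1) : Nonempty (A ≃* alternatingGroup (Fin 4)) := by
  classical
  have hidx : Y.index = 4 := by
    have h := card_mul_index Y
    rw [h3, h12] at h
    omega
  obtain ⟨f⟩ : Nonempty (A ⧸ Y ≃ Fin 4) := ⟨Finite.equivFinOfCardEq (by rw [← index_eq_card, hidx])⟩
  let φ : A →* Equiv.Perm (Fin 4) := f.permCongrHom.toMonoidHom.comp (MulAction.toPermHom A (A ⧸ Y))
  have hφ : Function.Injective φ := by
    refine (injective_iff_map_eq_one φ).2 fun a ha => ?_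
    have h1 : MulAction.toPermHom A (A ⧸ Y) a = 1 := f.permCongrHom.injective (by rw [map_one]; exact ha)
    have h2 : ∀ g : A, g⁻¹ * a * g ∈ Y := fun g => by
      have h := congrArg (fun p : Equiv.Perm (A ⧸ Y) => p (QuotientGroup.mk g)) h1
      simp only [MulAction.toPermHom_apply, MulAction.toPerm_apply, Equiv.Perm.coe_one, id_eq,
        MulAction.Quotient.smul_mk, smul_eq_mul] at h
      rw [mul_assoc]
      exact QuotientGroup.eq.1 h.symm
    exact hcore a (by simpa using h2 1) fun g => by simpa using h2 g⁻¹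
  have hr : φ.range = alternatingGroup (Fin 4) := by
    refine Equiv.Perm.eq_alternatingGroup_of_index_eq_two ?_
    have h := card_mul_index φ.range
    rw [Nat.card_perm, Nat.card_fin, ← Nat.card_congr (MonoidHom.ofInjective hφ).toEquiv, h12] at h
    norm_num [Nat.factorial] at h
    omega
  exact ⟨(MonoidHom.ofInjective hφ).trans (MulEquiv.subgroupCongr hr)⟩

variable {G : Type*} [Group G] [Finite G] {z : G} {D : Dat z} {B : Base D} {y t : G}
variable (T : Three D y) (hS : Seed B y t) {π : cX y →* PSU4} (P : SuzEleven.Pi T π)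
variable {b : hS.H T} (hb : IsSeven T hS b)
include T hS P hb

theorem IsSeven.cent_iso :
    Nonempty (↥(centralizer ({(b : G)} : Set G)) ≃* Multiplicative (ZMod 7) × alternatingGroup (Fin 4)) := by
  classical
  haveI : Fact (Nat.Prime 3) := ⟨Nat.prime_three⟩
  have hbo := hb.ord_coe T hS
  set CB := centralizer ({(b : G)} : Set G) with hCB
  set V := hS.V0 T with hV
  have hyN : zpowers y ≤ normalizer (V : Set G) := by
    rw [zpowers_le, mem_normalizer_iff_map_conj_eq]
    refine eq_of_le_of_card_ge ?_ (le_of_eq (card_map_of_injective (MulAut.conj y).injective).symm)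
    rintro _ ⟨v, hv, rfl⟩
    exact hS.y_norm T hv
  have hy3 : Nat.card (zpowers y) = 3 := by rw [Nat.card_zpowers, orderOf_eq_prime T.three T.ne_one]
  have hdis : zpowers y ⊓ V = ⊥ := eq_bot_of_card_eq _ (Nat.eq_one_of_dvd_coprimes
    (show Nat.Coprime 3 4 by norm_num) (hy3 ▸ card_dvd_of_le inf_le_left)
    ((hS.card_V0 T) ▸ card_dvd_of_le inf_le_right))
  obtain ⟨A, hA⟩ : ∃ A, A = zpowers y ⊔ V := ⟨_, rfl⟩
  have hA12 : Nat.card A = 12 := by
    rw [hA, CfsgLib.Solvable.card_sup_of_disjoint hyN hdis, hy3, hS.card_V0 T]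
  have hAC : A ≤ CB := hA ▸ sup_le (zpowers_le.2 (mem_centralizer_singleton_iff.2 (hb.y_b T hS)))
    (fun v hv => mem_centralizer_singleton_iff.2 (hb.V0_b T hS hv))
  have hyA : zpowers y ≤ A := hA ▸ le_sup_left
  obtain ⟨eA⟩ := isoAltFour ((zpowers y).subgroupOf A) hA12
    (by rw [Nat.card_congr (subgroupOfEquivOfLe hyA).toEquiv, hy3])
    (fun a ha hg => by
      by_contra hne
      have htA : t ∈ A := hA ▸ mem_sup_right (hS.t_mem T)
      have hgen : zpowers (a : G) = zpowers y := eq_of_le_of_card_ge (zpowers_le.2 ha) (by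
        rcases (Nat.dvd_prime Nat.prime_three).1 (show Nat.card (zpowers (a : G)) ∣ 3 by
            rw [← hy3]; exact card_dvd_of_le (zpowers_le.2 (mem_subgroupOf.1 ha)))
          with e | e
        · rw [Nat.card_zpowers, orderOf_eq_one_iff] at e
          exact absurd (Subtype.ext e) hne
        · rw [e, hy3])
      obtain ⟨n, hn⟩ := mem_zpowers_iff.1 (hgen.symm ▸ mem_zpowers y : y ∈ zpowers (a : G))
      have h1 : t * y * t⁻¹ ∈ zpowers y := by
        rw [← hn, ← conj_zpow, hn]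
        exact zpow_mem (mem_subgroupOf.1 (hg ⟨t, htA⟩)) n
      have h2 : (y * t * y⁻¹) * t⁻¹ ∈ zpowers y ⊓ V := by
        refine mem_inf.2 ⟨?_, mul_mem (hS.t'_mem T) (inv_mem (hS.t_mem T))⟩
        rw [show y * t * y⁻¹ * t⁻¹ = y * (t * y * t⁻¹)⁻¹ by group]
        exact mul_mem (mem_zpowers y) (inv_mem h1)
      rw [hdis, mem_bot, mul_inv_eq_one] at h2
      exact (hS.distinct T).1 ((hS.isFour T).fpf t (hS.t_mem T) h2))
  have hbC : zpowers (b : G) ≤ CB := zpowers_le.2 (mem_centralizer_singleton_iff.2 rfl)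
  have hcm : ∀ (c : zpowers (b : G)) (a : A), Commute (inclusion hbC c : CB) (inclusion hAC a : CB) := fun c a => by
    obtain ⟨n, hn⟩ := mem_zpowers_iff.1 c.2
    refine Subtype.ext ?_
    show (c : G) * a = a * c
    rw [← hn]
    exact ((show Commute (a : G) b from mem_centralizer_singleton_iff.1 (hAC a.2)).zpow_right n).eq.symm
  let f : ↥(zpowers (b : G)) × ↥A →* CB := (inclusion hbC).noncommCoprod (inclusion hAC) hcm
  have hinj : Function.Injective f := by
    refine (injective_iff_map_eq_one f).2 fun p hp => ?_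
    have hp' : (p.1 : G) * p.2 = 1 := congrArg Subtype.val hp
    have h1 : (p.1 : G) ∈ zpowers (b : G) ⊓ A :=
      mem_inf.2 ⟨p.1.2, by rw [eq_inv_of_mul_eq_one_left hp']; exact inv_mem p.2.2⟩
    rw [eq_bot_of_card_eq (zpowers (b : G) ⊓ A) (Nat.eq_one_of_dvd_coprimes (show Nat.Coprime 7 12 by norm_num)
      ((Nat.card_zpowers (b : G)).trans hbo ▸ card_dvd_of_le inf_le_left) (hA12 ▸ card_dvd_of_le inf_le_right)),
      mem_bot] at h1
    rw [h1, one_mul] at hp'
    exact Prod.ext (Subtype.ext h1) (Subtype.ext hp')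
  have hbij : Function.Bijective f := (Nat.bijective_iff_injective_and_card f).2 ⟨hinj, by
    rw [Nat.card_prod, Nat.card_zpowers, hbo, hA12, hb.card_cent T hS P]⟩
  have ec : ↥(zpowers (b : G)) ≃* Multiplicative (ZMod 7) :=
    mulEquivOfCyclicCardEq (by rw [Nat.card_zpowers, hbo, Nat.card_congr Multiplicative.toAdd, Nat.card_zmod])
  exact ⟨(MulEquiv.ofBijective f hbij).symm.trans (ec.prodCongr eA)⟩

/-- An element inverting the element of order three and normalising the subgroup of order seven. -/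
theorem IsSeven.exists_inverting_norm :
    ∃ n : G, n * y * n⁻¹ = y⁻¹ ∧ n * b * n⁻¹ ∈ zpowers (b : G) := by
  classical
  haveI : Fact (Nat.Prime 7) := ⟨by norm_num⟩
  have hbo := hb.ord_coe T hS
  haveI hnor : ((zpowers y).subgroupOf (centralizer ((zpowers y : Subgroup G) : Set G))).Normal := ⟨fun n hn g => by
    rw [mem_subgroupOf] at hn ⊢
    have hc := mem_centralizer_iff.1 g.2 _ hn
    show (g : G) * n * (g : G)⁻¹ ∈ zpowers y
    rw [← hc, mul_inv_cancel_right]
    exact hn⟩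
  have hrel : (centralizer ((zpowers y : Subgroup G) : Set G)).relIndex
      (normalizer ((zpowers y : Subgroup G) : Set G)) = 2 :=
    (CfsgLib.SuzThree.main T _ rfl CfsgLib.J2.Perm.F9 CfsgLib.J2.Perm.F9.card).2.2
  obtain ⟨δ, hδN, hδC⟩ := SetLike.not_le_iff_exists.1
    (fun h => by rw [relIndex_eq_one.2 h] at hrel; omega :
      ¬ normalizer ((zpowers y : Subgroup G) : Set G) ≤ centralizer ((zpowers y : Subgroup G) : Set G))
  have hδy : δ * y * δ⁻¹ = y⁻¹ := by
    obtain ⟨e, he⟩ := SuzThree.mem_zpowers_three T ((mem_normalizer_iff.1 hδN y).1 (mem_zpowers y))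
    fin_cases e
    · have he' : δ * y * δ⁻¹ = y ^ 0 := he
      rw [pow_zero, conj_eq_one_iff] at he'
      exact absurd he' T.ne_one
    · refine absurd ?_ hδC
      have hc : δ * y = y * δ := mul_inv_eq_iff_eq_mul.1 (by simpa using he)
      rw [mem_centralizer_iff]
      intro w hw
      obtain ⟨k, rfl⟩ := mem_zpowers_iff.1 hw
      exact ((show Commute δ y from hc).zpow_right k).eq.symm
    · refine he.trans (eq_inv_of_mul_eq_one_left ?_)
      show y ^ 2 * y = 1
      rw [← pow_succ, T.three]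
  have hyb := hb.y_b T hS
  have hbX : (b : G) ∈ cX y := hS.H_le T b.2
  have hb'X : δ * b * δ⁻¹ ∈ cX y := mem_cX.2 (by
    have h1 : δ * y⁻¹ * δ⁻¹ = y := by
      calc δ * y⁻¹ * δ⁻¹ = (δ * y * δ⁻¹)⁻¹ := by group
        _ = y := by rw [hδy, inv_inv]
    have hbi : (b : G) * y⁻¹ = y⁻¹ * b := ((show Commute y (b : G) from hyb).inv_left.eq).symm
    calc δ * b * δ⁻¹ * y = δ * b * δ⁻¹ * (δ * y⁻¹ * δ⁻¹) := by rw [h1]
      _ = δ * ((b : G) * y⁻¹) * δ⁻¹ := by group
      _ = δ * y⁻¹ * δ⁻¹ * (δ * b * δ⁻¹) := by rw [hbi]; group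
      _ = y * (δ * b * δ⁻¹) := by rw [h1])
  have hfac : Nat.card (zpowers (⟨b, hbX⟩ : cX y)) = 7 ^ (Nat.card (cX y)).factorization 7 := by
    rw [Nat.card_zpowers, Subgroup.orderOf_mk, hbo, P.card_cX, show (9797760 : ℕ) = 7 * 1399680 by norm_num,
      Nat.factorization_mul (by norm_num) (by norm_num), Finsupp.add_apply,
      Nat.Prime.factorization_self (by norm_num), Nat.factorization_eq_zero_of_not_dvd (by norm_num)]
    norm_num
  obtain ⟨Q', hQ'⟩ := (IsPGroup.of_card (n := 1) (by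
    rw [Nat.card_zpowers, Subgroup.orderOf_mk, pow_one]
    exact (orderOf_injective (MulAut.conj δ).toMonoidHom (MulAut.conj δ).injective (b : G)).trans hbo) :
    IsPGroup 7 (zpowers (⟨δ * b * δ⁻¹, hb'X⟩ : cX y))).exists_le_sylow
  obtain ⟨c, hc⟩ := MulAction.exists_smul_eq (cX y) Q' (Sylow.ofCard (zpowers (⟨b, hbX⟩ : cX y)) hfac)
  have hmem : c * (⟨δ * b * δ⁻¹, hb'X⟩ : cX y) * c⁻¹ ∈ zpowers (⟨b, hbX⟩ : cX y) := by
    rw [← Sylow.coe_ofCard _ hfac, ← hc, Sylow.coe_subgroup_smul]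
    exact ⟨_, hQ' (mem_zpowers _), rfl⟩
  obtain ⟨k, hk⟩ := mem_zpowers_iff.1 hmem
  refine ⟨(c : G) * δ, ?_, mem_zpowers_iff.2 ⟨k, ?_⟩⟩
  · have h1 : (c : G) * y⁻¹ = y⁻¹ * c := (show Commute (c : G) y from mem_cX.1 c.2).inv_right.eq
    calc (c : G) * δ * y * ((c : G) * δ)⁻¹ = (c : G) * (δ * y * δ⁻¹) * (c : G)⁻¹ := by group
      _ = y⁻¹ := by rw [hδy, h1, mul_inv_cancel_right]
  · have hk' : (b : G) ^ k = (c : G) * (δ * b * δ⁻¹) * (c : G)⁻¹ := congrArg Subtype.val hk
    rw [hk']; group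

theorem IsSeven.card_norm : Nat.card (normalizer ((zpowers (b : G) : Subgroup G) : Set G)) = 504 := by
  classical
  haveI : Fact (Nat.Prime 3) := ⟨Nat.prime_three⟩
  have hbo := hb.ord_coe T hS
  set Zb := zpowers (b : G) with hZb
  have hcen : centralizer (Zb : Set G) = centralizer ({(b : G)} : Set G) := by
    rw [hZb, zpowers_eq_closure, centralizer_closure]
  have hmemN : ∀ g : G, g * b * g⁻¹ ∈ Zb → g ∈ normalizer (Zb : Set G) := by
    intro g hg
    rw [mem_normalizer_iff_map_conj_eq]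
    refine eq_of_le_of_card_ge ?_ (le_of_eq (card_map_of_injective (MulAut.conj g).injective).symm)
    rw [hZb, MonoidHom.map_zpowers, zpowers_le]
    exact hg
  set ρ := normalizerMonoidHom Zb with hρ
  have hker : ∀ g : normalizer (Zb : Set G), ρ g = 1 → (g : G) * b * (g : G)⁻¹ = b := by
    intro g hg
    have h1 : g ∈ ρ.ker := hg
    rw [hρ, normalizerMonoidHom_ker, mem_subgroupOf] at h1
    rw [← mem_centralizer_iff.1 h1 (b : G) (mem_zpowers _), mul_inv_cancel_right]
  haveI : IsCyclic Zb := isCyclic_zpowers _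
  have hZc : Nat.card Zb = 7 := by rw [hZb, Nat.card_zpowers, hbo]
  have hrange : Nat.card ρ.range ∣ 6 := by
    have h := card_subgroup_dvd_card ρ.range
    rwa [IsCyclic.card_mulAut, hZc, Nat.totient_prime (by norm_num)] at h
  have hN : Nat.card (normalizer (Zb : Set G)) = 84 * Nat.card ρ.range := by
    rw [card_eq_card_quotient_mul_card_subgroup ρ.ker, Nat.card_congr (QuotientGroup.quotientKerEquivRange ρ).toEquiv,
      mul_comm, hρ, normalizerMonoidHom_ker, Nat.card_congr (subgroupOfEquivOfLe (centralizer_le_normalizer _)).toEquiv,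
      hcen, hb.card_cent T hS P]
  -- three
  have h3 : 3 ∣ Nat.card ρ.range := by
    obtain ⟨h, hh, hne, ho⟩ := hb.exists_move_seven T hS P
    obtain ⟨k, hk⟩ := mem_zpowers_iff.1 hh
    have hmem := hmemN (h : G) (mem_zpowers_iff.2 ⟨k, congrArg Subtype.val hk⟩)
    have ho' : orderOf (⟨ρ ⟨h, hmem⟩, ⟨_, rfl⟩⟩ : ρ.range) = 3 := by
      rw [← orderOf_coe]
      show orderOf (ρ ⟨h, hmem⟩) = 3
      refine orderOf_eq_prime ?_ fun e => hne (Subtype.ext (mul_inv_eq_iff_eq_mul.1 (hker _ e)))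
      rw [← map_pow, show (⟨(h : G), hmem⟩ : normalizer (Zb : Set G)) ^ 3 = 1 from Subtype.ext (by
        have := congrArg Subtype.val (ho ▸ pow_orderOf_eq_one h : h ^ 3 = 1)
        simpa using this), map_one]
    rw [← ho']; exact orderOf_dvd_natCard _
  -- two
  have h2 : ¬ Nat.card ρ.range ∣ 3 := by
    intro hd
    obtain ⟨n, hny, hnb⟩ := hb.exists_inverting_norm T hS P
    have hpow : (⟨ρ ⟨n, hmemN n hnb⟩, ⟨_, rfl⟩⟩ : ρ.range) ^ 3 = 1 :=
      orderOf_dvd_iff_pow_eq_one.1 ((_root_.orderOf_dvd_natCard _).trans hd)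
    have h1 : ρ (⟨n, hmemN n hnb⟩ ^ 3) = 1 := by
      rw [map_pow]; exact congrArg Subtype.val hpow
    refine hb.no_invert T hS P (hker _ h1) ?_
    show n ^ 3 * y * (n ^ 3)⁻¹ = y⁻¹
    calc n ^ 3 * y * (n ^ 3)⁻¹ = n * (n * (n * y * n⁻¹) * n⁻¹) * n⁻¹ := by
          simp only [pow_succ, pow_zero, one_mul, mul_inv_rev, mul_assoc]
      _ = y⁻¹ := by
          have e1 : n * y⁻¹ * n⁻¹ = y := by
            rw [show n * y⁻¹ * n⁻¹ = (n * y * n⁻¹)⁻¹ by group, hny, inv_inv]
          rw [hny, e1, hny]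
  rw [hN]
  obtain ⟨j, hj⟩ : ∃ j, j = Nat.card ρ.range := ⟨_, rfl⟩
  rw [← hj] at hrange h3 h2 ⊢
  have := Nat.le_of_dvd (by norm_num) hrange
  interval_cases j <;> omega

/-- Every Sylow subgroup for seven. -/
theorem IsSeven.sylow_all (Q : Sylow 7 G) :
    Nonempty (↥(centralizer ((Q : Subgroup G) : Set G)) ≃* Multiplicative (ZMod 7) × alternatingGroup (Fin 4)) ∧
      Nat.card (normalizer ((Q : Subgroup G) : Set G)) = 504 := by
  haveI : Fact (Nat.Prime 7) := ⟨by norm_num⟩
  have hbo := hb.ord_coe T hS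
  set Zb := zpowers (b : G) with hZb
  have hZc : Nat.card Zb = 7 := by rw [hZb, Nat.card_zpowers, hbo]
  obtain ⟨R, hR⟩ := (IsPGroup.of_card (n := 1) (by rw [hZc, pow_one]) : IsPGroup 7 Zb).exists_le_sylow
  have hRZ : (R : Subgroup G) = Zb := by
    refine le_antisymm ?_ hR
    by_contra hne
    haveI := R.isPGroup'.isNilpotent
    have hcond := Group.normalizerCondition_of_isNilpotent (G := (R : Subgroup G))
    have hlt : Zb.subgroupOf R < ⊤ := lt_top_iff_ne_top.2 fun e => hne (subgroupOf_eq_top.1 e)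
    obtain ⟨n, hn, hn'⟩ := SetLike.exists_of_lt (hcond _ hlt)
    have hnN : (n : G) ∈ normalizer (Zb : Set G) := by
      rw [mem_normalizer_iff_map_conj_eq]
      refine eq_of_le_of_card_ge ?_ (le_of_eq (card_map_of_injective (MulAut.conj (n : G)).injective).symm)
      rintro _ ⟨a, ha, rfl⟩
      exact ((mem_normalizer_iff.1 hn ⟨a, hR ha⟩).1 ha :)
    set W := (R : Subgroup G) ⊓ normalizer (Zb : Set G) with hW
    obtain ⟨i, hi⟩ := IsPGroup.iff_card.1 (R.isPGroup'.to_le (inf_le_left : W ≤ _))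
    have hd : Nat.card W ∣ 504 := hb.card_norm T hS P ▸ card_dvd_of_le inf_le_right
    have hle : Nat.card W ≤ 7 := by
      rw [hi] at hd ⊢
      rcases i with _ | _ | i
      · norm_num
      · norm_num
      · exact absurd ((pow_dvd_pow 7 (by omega : 2 ≤ i + 1 + 1)).trans hd) (by norm_num)
    have hWZ : Zb = W := eq_of_le_of_card_ge (le_inf hR le_normalizer) (hle.trans hZc.ge)
    exact hn' (mem_subgroupOf.2 (hWZ ▸ mem_inf.2 ⟨n.2, hnN⟩ : (n : G) ∈ Zb))
  obtain ⟨g, hg⟩ := MulAction.exists_smul_eq G R Q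
  have hQ : (Q : Subgroup G) = Zb.map (MulAut.conj g).toMonoidHom := by
    rw [← hg, Sylow.coe_subgroup_smul, ← hRZ]; rfl
  refine ⟨?_, ?_⟩
  · have hc : centralizer ((Q : Subgroup G) : Set G) =
        (centralizer ({(b : G)} : Set G)).map (MulAut.conj g).toMonoidHom := by
      rw [hQ, hZb, MonoidHom.map_zpowers, zpowers_eq_closure, centralizer_closure]
      ext a
      rw [mem_map_equiv, MulAut.conj_symm_apply, mem_centralizer_singleton_iff, mem_centralizer_singleton_iff]
      show a * (g * b * g⁻¹) = g * b * g⁻¹ * a ↔ _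
      constructor
      · intro e
        calc g⁻¹ * a * g * b = g⁻¹ * (a * (g * b * g⁻¹)) * g := by group
          _ = g⁻¹ * (g * b * g⁻¹ * a) * g := by rw [e]
          _ = b * (g⁻¹ * a * g) := by group
      · intro e
        calc a * (g * b * g⁻¹) = g * (g⁻¹ * a * g * b) * g⁻¹ := by group
          _ = g * ((b : G) * (g⁻¹ * a * g)) * g⁻¹ := by rw [e]
          _ = g * b * g⁻¹ * a := by group
    obtain ⟨e⟩ := hb.cent_iso T hS P
    exact ⟨(MulEquiv.subgroupCongr hc).trans
      (((MulAut.conj g).subgroupMap (centralizer ({(b : G)} : Set G))).symm.trans e)⟩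
  · rw [hQ, ← map_equiv_normalizer_eq, card_map_of_injective (MulAut.conj g).injective]
    exact hb.card_norm T hS P

end CfsgLib.SuzSeven
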