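import Cfsg.Agent.SuzSeven.Rad

/-!
The standard four group normalised by the element of order three and its centraliser inside the centraliser
of the central involution.
-/

set_option autoImplicit false
set_option linter.style.haveILetI false
set_option maxRecDepth 100000
set_option synthInstance.maxSize 4096
set_option synthInstance.maxHeartbeats 200000
set_option maxHeartbeats 1000000

namespace CfsgLib.SuzSeven

open CfsgLib CfsgLib.Quad CfsgLib.SuzInvol CfsgLib.SuzThree Subgroup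

variable {G : Type*} [Group G] [Finite G] {z : G} {D : Dat z} {B : Base D} {y : G}

/-- The fixed lines. -/
def kF : Fin 4 → M6 := ![0, vec 2, vec 8, vec 10]

/-- The seed of the four group. -/
structure Seed (B : Base D) (y t : G) : Prop where
  rep : Rep B t (vec 16) (vec 32)
  prod : t * (y * t * y⁻¹) * (y * (y * t * y⁻¹) * y⁻¹) = 1

theorem rot_facts : vec 16 ∈ wList ∧ vec 32 ∈ wList ∧ red (rot (vec 16)) = vec 32 ∧ red (rot (vec 32)) = vec 48 ∧
    red (rot (vec 48)) = vec 16 ∧ vec 16 + vec 32 = vec 48 ∧ vec 16 + vec 32 + vec 48 = 0 ∧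
    vec 32 + vec 48 + vec 16 = 0 := by decide +kernel

theorem exists_seed (T : Three D y) (B : Base D) : ∃ t, Seed B y t := by
  obtain ⟨t₀, h0⟩ := exists_rep (B := B) rot_facts.1 rot_facts.2.1
  have hys := Three.y_s T B
  have hyz := mem_centralizer_singleton_iff.1 T.mem
  have h1 := h0.conj_y T hys
  rw [rot_facts.2.2.1, rot_facts.2.2.2.1] at h1
  have h2 := h1.conj_y T hys
  rw [rot_facts.2.2.2.1, rot_facts.2.2.2.2.1] at h2
  have h3 := (h0.mul h1).mul h2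
  rw [rot_facts.2.2.2.2.2.2.1, rot_facts.2.2.2.2.2.2.2] at h3
  obtain ⟨v, hvd⟩ : ∃ v, v = t₀ * (y * t₀ * y⁻¹) * (y * (y * t₀ * y⁻¹) * y⁻¹) := ⟨_, rfl⟩
  have hv : B.InV v := hvd ▸ h3.inV_of_zero
  have hr := h0.mul (rep_inV hv)
  rw [add_zero, add_zero] at hr
  refine ⟨t₀ * v, hr, ?_⟩
  have hyv : y * v * y⁻¹ = v := B.fix_V (by rw [hyz, mul_inv_cancel_right]) (by rw [hys, mul_inv_cancel_right]) hv
  have e1 : y * (t₀ * v) * y⁻¹ = y * t₀ * y⁻¹ * v := by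
    calc y * (t₀ * v) * y⁻¹ = y * t₀ * y⁻¹ * (y * v * y⁻¹) := by group
      _ = _ := by rw [hyv]
  have e2 : y * (y * (t₀ * v) * y⁻¹) * y⁻¹ = y * (y * t₀ * y⁻¹) * y⁻¹ * v := by
    rw [e1]
    calc y * (y * t₀ * y⁻¹ * v) * y⁻¹ = y * (y * t₀ * y⁻¹) * y⁻¹ * (y * v * y⁻¹) := by group
      _ = _ := by rw [hyv]
  rw [e2, e1]
  have c1 := h1.comm_inV hv
  calc t₀ * v * (y * t₀ * y⁻¹ * v) * (y * (y * t₀ * y⁻¹) * y⁻¹ * v)
      = t₀ * (v * (y * t₀ * y⁻¹)) * v * (y * (y * t₀ * y⁻¹) * y⁻¹ * v) := by group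
    _ = t₀ * (y * t₀ * y⁻¹ * v) * v * (y * (y * t₀ * y⁻¹) * y⁻¹ * v) := by rw [c1]
    _ = t₀ * (y * t₀ * y⁻¹) * (v * v) * (y * (y * t₀ * y⁻¹) * y⁻¹) * v := by group
    _ = 1 := by rw [inV_sq hv, mul_one, ← hvd, inV_sq hv]

variable {t : G} (T : Three D y) (hS : Seed B y t)
include T hS

theorem Seed.rep' : Rep B (y * t * y⁻¹) (vec 32) (vec 48) := by
  have h1 := hS.rep.conj_y T (Three.y_s T B)
  rwa [rot_facts.2.2.1, rot_facts.2.2.2.1] at h1

theorem Seed.rep'' : Rep B (y * (y * t * y⁻¹) * y⁻¹) (vec 48) (vec 16) := by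
  have h1 := (hS.rep' T).conj_y T (Three.y_s T B)
  rwa [rot_facts.2.2.2.1, rot_facts.2.2.2.2.1] at h1

omit T hS in
theorem bits_seed : (bS (vec 16) (vec 32) = 0 ∧ bT (vec 16) (vec 32) = 0) ∧
    (bS (vec 32) (vec 48) = 0 ∧ bT (vec 32) (vec 48) = 0) ∧ (bS (vec 48) (vec 16) = 0 ∧ bT (vec 48) (vec 16) = 0) ∧
    bS (vec 16 + vec 32) (vec 32 + vec 48) = bS (vec 16) (vec 32) + bS (vec 32) (vec 48) ∧
    bT (vec 16 + vec 32) (vec 32 + vec 48) = bT (vec 16) (vec 32) + bT (vec 32) (vec 48) := by decide +kernel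

theorem Seed.relations :
    t * t = 1 ∧ (y * t * y⁻¹) * (y * t * y⁻¹) = 1 ∧
    t * (y * t * y⁻¹) = (y * t * y⁻¹) * t ∧ y * (y * t * y⁻¹) * y⁻¹ = t * (y * t * y⁻¹) := by
  obtain ⟨a, b, c, d, e⟩ := bits_seed
  have h1 := hS.rep.invol_iff.2 a
  have h2 := (hS.rep' T).invol_iff.2 b
  have h12 := (hS.rep.comm_iff (hS.rep' T)).2 ⟨d, e⟩
  refine ⟨h1, h2, h12, ?_⟩
  rw [eq_inv_of_mul_eq_one_right hS.prod, mul_inv_rev, inv_eq_of_mul_eq_one_right h1,
    inv_eq_of_mul_eq_one_right h2, h12]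

/-- The four group. -/
def Seed.V0 : Subgroup G where
  carrier := {x | x = 1 ∨ x = t ∨ x = y * t * y⁻¹ ∨ x = t * (y * t * y⁻¹)}
  one_mem' := Or.inl rfl
  mul_mem' := by
    obtain ⟨a, b, c, -⟩ := hS.relations T
    generalize y * t * y⁻¹ = u at *
    have hA : ∀ r, t * (t * r) = r := fun r => by rw [← mul_assoc, a, one_mul]
    have hB : ∀ r, u * (u * r) = r := fun r => by rw [← mul_assoc, b, one_mul]
    have hC : ∀ r, u * (t * r) = t * (u * r) := fun r => by rw [← mul_assoc, ← c, mul_assoc]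
    rintro x x' (h | h | h | h) (h' | h' | h' | h') <;> subst h <;> subst h' <;>
      simp only [Set.mem_setOf_eq, mul_assoc, one_mul, mul_one, a, b, hA, hB, hC, ← c, true_or, or_true]
  inv_mem' := by
    obtain ⟨a, b, c, -⟩ := hS.relations T
    generalize y * t * y⁻¹ = u at *
    rintro x (rfl | rfl | rfl | rfl)
    · simp
    · right; left; exact inv_eq_of_mul_eq_one_right a
    · right; right; left; exact inv_eq_of_mul_eq_one_right b
    · right; right; right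
      rw [mul_inv_rev, inv_eq_of_mul_eq_one_right a, inv_eq_of_mul_eq_one_right b, c]

theorem Seed.mem_V0 {x : G} :
    x ∈ hS.V0 T ↔ x = 1 ∨ x = t ∨ x = y * t * y⁻¹ ∨ x = t * (y * t * y⁻¹) := Iff.rfl

theorem Seed.t_mem : t ∈ hS.V0 T := Or.inr (Or.inl rfl)

theorem Seed.t'_mem : y * t * y⁻¹ ∈ hS.V0 T := Or.inr (Or.inr (Or.inl rfl))

theorem Seed.mem_cent {x : G} :
    x ∈ centralizer (hS.V0 T : Set G) ↔ x * t = t * x ∧ x * (y * t * y⁻¹) = y * t * y⁻¹ * x := by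
  rw [mem_centralizer_iff]
  constructor
  · intro h
    exact ⟨(h _ (hS.t_mem T)).symm, (h _ (hS.t'_mem T)).symm⟩
  · rintro ⟨h1, h2⟩ v hv
    rcases (hS.mem_V0 T).1 hv with rfl | rfl | rfl | rfl
    · rw [one_mul, mul_one]
    · exact h1.symm
    · exact h2.symm
    · exact ((Commute.mul_right h1 h2).eq).symm

omit T hS in
theorem u_words : okL [16, 17] = true ∧ okL [32, 33] = true ∧ Adm (vec 17) ∧ red (vec 17) = vec 16 ∧
    Adm (vec 33) ∧ red (vec 33) = vec 32 ∧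
    (∀ n : Fin 64, vec (aN [16, 17] n.val) = uMap (vec 17) (vec n.val)) ∧
    (∀ n : Fin 64, vec (aN [32, 33] n.val) = uMap (vec 33) (vec n.val)) := by decide +kernel

omit T hS in
theorem act_of_rep {x : G} {w v w' : M6} {u : List ℕ} (h : Rep B x w v) (hu : okL u = true) (ha : Adm w')
    (hr : red w' = w) (hm : ∀ n : Fin 64, vec (aN u n.val) = uMap w' (vec n.val)) : actG D x = oW u := by
  obtain ⟨b, a, hb, ha', rfl, hw, -⟩ := h
  rw [actG_mul D hb.2 (SuzInvol.mem_C D ha'.1), actG_Q D ha'.1, mul_one, actG_eq D hb.2]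
  refine Subtype.ext (LinearEquiv.ext fun m => ?_)
  obtain ⟨n, hn, rfl⟩ := exists_code m
  rw [(B.act_P hb).2, oW_apply hu hn, hm ⟨n, hn⟩, adm_eq (B.act_P hb).1 ha (hw.trans hr.symm)]

theorem Seed.act_t : actG D t = oW [16, 17] :=
  act_of_rep hS.rep u_words.1 u_words.2.2.1 u_words.2.2.2.1 u_words.2.2.2.2.2.2.1

theorem Seed.act_t' : actG D (y * t * y⁻¹) = oW [32, 33] :=
  act_of_rep (hS.rep' T) u_words.2.1 u_words.2.2.2.2.1 u_words.2.2.2.2.2.1 u_words.2.2.2.2.2.2.2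

omit T hS in
theorem u_axis : (∀ n : Fin 64, qN (aN [16, 17] n.val ^^^ n.val) = false →
      aN [16, 17] n.val ^^^ n.val ∈ ([0, 1] : List ℕ)) ∧
    (∀ n : Fin 64, bN n.val 1 = true → red (vec (aN [16, 17] n.val ^^^ n.val)) = vec 16) ∧
    (∀ n : Fin 64, bN n.val 1 = true → red (vec (aN [32, 33] n.val ^^^ n.val)) = vec 32) ∧
    (aN [16, 17] 32 ^^^ 32 = 1) ∧ qN 1 = false ∧ bN 4 1 = true ∧ (aN [16, 17] 4 ^^^ 4 = 17) ∧
    (aN [32, 33] 4 ^^^ 4 = 33) ∧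
    (∀ n : Fin 64, red (vec (aN [16, 17] n.val ^^^ n.val)) = 0 → bf (vec n.val) e0 = 0) := by decide +kernel

omit T hS in
/-- The image of a displacement under a commuting map. -/
theorem displace {h : O6} {u : List ℕ} (hu : okL u = true) (hh : h * oW u = oW u * h) {n : ℕ} (hn : n < 64)
    {k : ℕ} (hk : k < 64) (e : h.1 (vec n) = vec k) :
    h.1 (vec (aN u n ^^^ n)) = vec (aN u k ^^^ k) := by
  rw [← vec_add ⟨aN u n, aN_lt hu hn⟩ ⟨n, hn⟩, ← vec_add ⟨aN u k, aN_lt hu hk⟩ ⟨k, hk⟩, map_add, e,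
    ← oW_apply hu hn, ← oW_apply hu hk, ← e]
  show (h * oW u).1 (vec n) + _ = (oW u * h).1 (vec n) + _
  rw [hh]

omit T hS in
theorem bN_of_bf {n k : ℕ} (hn : n < 64) (hk : k < 64) (h : bf (vec n) (vec k) = 1) : bN n k = true := by
  rw [bf_vec ⟨n, hn⟩ ⟨k, hk⟩] at h
  by_contra e
  simp only [Bool.not_eq_true] at e
  rw [e] at h
  exact absurd h (by decide)

omit T hS in
theorem fix_e0 {h : O6} (hh : h * oW [16, 17] = oW [16, 17] * h) : h.1 e0 = e0 := by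
  obtain ⟨k, hk, e⟩ := exists_code (h.1 (vec 32))
  have h1 := displace u_words.1 hh (by norm_num : 32 < 64) hk e.symm
  rw [u_axis.2.2.2.1, vec1] at h1
  have hlt : aN [16, 17] k ^^^ k < 64 := Nat.xor_lt_two_pow (n := 6) (aN_lt u_words.1 hk) hk
  have hq : qN (aN [16, 17] k ^^^ k) = false := by
    have h2 := qf_oGroup h e0
    rw [h1, q_e0, vec_facts.2 ⟨_, hlt⟩] at h2
    by_contra hc
    simp only [Bool.not_eq_false] at hc
    rw [if_pos hc] at h2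
    exact one_ne_zero h2
  have hm := u_axis.1 ⟨k, hk⟩ hq
  simp only [List.mem_cons, List.not_mem_nil, or_false] at hm
  rcases hm with e' | e'
  · rw [e', show vec 0 = 0 by decide +kernel] at h1
    exact absurd (h.1.injective (h1.trans (map_zero _).symm)) base_facts.2.2.2
  · rw [h1, e', vec1]

omit T hS in
theorem red_fix_W {h : O6} (h1 : h * oW [16, 17] = oW [16, 17] * h) (h2 : h * oW [32, 33] = oW [32, 33] * h) :
    red (h.1 (vec 16)) = vec 16 ∧ red (h.1 (vec 32)) = vec 32 := by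
  have he := fix_e0 h1
  obtain ⟨k, hk, e⟩ := exists_code (h.1 (vec 4))
  have hb : bN k 1 = true := by
    refine bN_of_bf hk (by norm_num) ?_
    rw [e, vec1]
    conv_lhs => arg 2; rw [← he]
    rw [bf_oGroup]
    decide +kernel
  constructor
  · have d := displace u_words.1 h1 (by norm_num : 4 < 64) hk e.symm
    rw [u_axis.2.2.2.2.2.2.1] at d
    rw [← u_words.2.2.2.1, red_app he, d, u_axis.2.1 ⟨k, hk⟩ hb, u_words.2.2.2.1]
  · have d := displace u_words.2.1 h2 (by norm_num : 4 < 64) hk e.symm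
    rw [u_axis.2.2.2.2.2.2.2.1] at d
    rw [← u_words.2.2.2.2.2.1, red_app he, d, u_axis.2.2.1 ⟨k, hk⟩ hb, u_words.2.2.2.2.2.1]

omit T hS in
theorem k_facts : (∀ n : Fin 64, qf (vec n.val) = 0 → bf (vec n.val) e0 = 0 → bf (red (vec n.val)) (vec 16) = 0 →
      bf (red (vec n.val)) (vec 32) = 0 → red (vec n.val) ≠ 0 → red (vec n.val) = vec 2 ∨ red (vec n.val) = vec 8) ∧
    (qf (vec 2) = 0 ∧ qf (vec 8) = 0) ∧ (bf (vec 2) e0 = 0 ∧ bf (vec 8) e0 = 0) ∧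
    (bf (vec 16) e0 = 0 ∧ bf (vec 32) e0 = 0) ∧
    (bf (vec 2) (vec 16) = 0 ∧ bf (vec 2) (vec 32) = 0 ∧ bf (vec 8) (vec 16) = 0 ∧ bf (vec 8) (vec 32) = 0) ∧
    (vec 2 ≠ 0 ∧ vec 2 ≠ e0 ∧ vec 8 ≠ 0 ∧ vec 8 ≠ e0 ∧ vec 2 + vec 8 ≠ 0 ∧ vec 2 + vec 8 ≠ e0) ∧
    okL [10] = true ∧ (aN [10] 1 = 1 ∧ aN [10] 2 = 8 ∧ aN [10] 8 = 2 ∧ aN [10] 16 = 16 ∧ aN [10] 32 = 32) ∧
    (∀ n : Fin 64, bf (vec n.val) e0 = 0 → ∃ a b c d f : ZMod 2,
      vec n.val = a • e0 + b • vec 2 + c • vec 8 + d • vec 16 + f • vec 32) ∧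
    (red (vec 2) = vec 2 ∧ red (vec 8) = vec 8 ∧ red (vec 16) = vec 16 ∧ red (vec 32) = vec 32) := by decide +kernel

omit T hS in
theorem eq_of_red_zero {h : O6} (he : h.1 e0 = e0) {m : M6} (e : red (h.1 m) = 0) : m = 0 ∨ m = e0 := by
  rcases red_cases (h.1 m) with e' | e'
  · rw [e] at e'
    exact Or.inl (h.1.injective (e'.trans (map_zero _).symm))
  · rw [e, zero_add] at e'
    exact Or.inr (h.1.injective (e'.trans he.symm))

omit T hS in
theorem red_image {h : O6} (he : h.1 e0 = e0) (hW : red (h.1 (vec 16)) = vec 16 ∧ red (h.1 (vec 32)) = vec 32)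
    {m : M6} (hq : qf m = 0) (hm : bf m e0 = 0) (h16 : bf m (vec 16) = 0) (h32 : bf m (vec 32) = 0)
    (hne : m ≠ 0) (hne' : m ≠ e0) : red (h.1 m) = vec 2 ∨ red (h.1 m) = vec 8 := by
  have hme : ∀ m, bf m e0 = 0 → bf (h.1 m) e0 = 0 := fun m hm => by
    conv_lhs => arg 2; rw [← he]
    rw [bf_oGroup, hm]
  obtain ⟨n, hn, e⟩ := exists_code (h.1 m)
  rw [← e]
  refine k_facts.1 ⟨n, hn⟩ ?_ ?_ ?_ ?_ ?_
  · show qf (vec n) = 0
    rw [e, qf_oGroup, hq]
  · show bf (vec n) e0 = 0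
    rw [e]; exact hme m hm
  · show bf (red (vec n)) (vec 16) = 0
    rw [e, ← hW.1, bf_red (hme m hm) (hme _ k_facts.2.2.2.1.1), bf_oGroup, h16]
  · show bf (red (vec n)) (vec 32) = 0
    rw [e, ← hW.2, bf_red (hme m hm) (hme _ k_facts.2.2.2.1.2), bf_oGroup, h32]
  · show red (vec n) ≠ 0
    rw [e]
    intro e0'
    exact (eq_of_red_zero he e0').elim hne hne'

omit T hS in
theorem radical_form (B : Base D) {h : O6} (hΩ : h ∈ commutator (oGroup q6)) (h1 : h * oW [16, 17] = oW [16, 17] * h)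
    (h2 : h * oW [32, 33] = oW [32, 33] * h) : ∃ w, Adm w ∧ ∀ m, h.1 m = uMap w m := by
  have he := fix_e0 h1
  have hW := red_fix_W h1 h2
  obtain ⟨hdec, ⟨q2, q8⟩, ⟨e2, e8⟩, -, ⟨o1, o2, o3, o4⟩, ⟨n1, n2, n3, n4, n5, n6⟩, hok, ⟨a1, a2, a8, a16, a32⟩,
    hspan, ⟨r2, r8, r16, r32⟩⟩ := k_facts
  have key : ∀ g : O6, g.1 e0 = e0 → red (g.1 (vec 2)) = vec 2 → red (g.1 (vec 8)) = vec 8 →
      red (g.1 (vec 16)) = vec 16 → red (g.1 (vec 32)) = vec 32 →
      ∀ m, bf m e0 = 0 → g.1 m + m = 0 ∨ g.1 m + m = e0 := by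
    intro g ge g2 g8 g16 g32 m hm
    obtain ⟨n, hn, rfl⟩ := exists_code m
    obtain ⟨a, b, c, d, f, e⟩ := hspan ⟨n, hn⟩ hm
    have hr : red (g.1 (vec n) + vec n) = 0 := by
      rw [show vec n = _ from e]
      rcases zmod2_cases a with rfl | rfl <;> rcases zmod2_cases b with rfl | rfl <;>
        rcases zmod2_cases c with rfl | rfl <;> rcases zmod2_cases d with rfl | rfl <;>
        rcases zmod2_cases f with rfl | rfl <;>
        simp only [zero_smul, one_smul, zero_add, add_zero, map_add, map_zero, red_add, red_zero, red_e0, ge, g2,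
          g8, g16, g32, r2, r8, r16, r32, add_self]
    rcases red_cases (g.1 (vec n) + vec n) with e' | e' <;> rw [hr] at e'
    · exact Or.inl e'
    · exact Or.inr (e'.trans (zero_add _))
  have i2 := red_image he hW q2 e2 o1 o2 n1 n2
  have i8 := red_image he hW q8 e8 o3 o4 n3 n4
  have hne : red (h.1 (vec 2)) ≠ red (h.1 (vec 8)) := fun e => by
    have : red (h.1 (vec 2 + vec 8)) = 0 := by rw [map_add, red_add, e, add_self]
    exact (eq_of_red_zero he this).elim n5 n6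
  rcases i2 with x2 | x2 <;> rcases i8 with x8 | x8
  · exact absurd (x2.trans x8.symm) hne
  · exact ⟨_, radical_eq he (key h he x2 x8 hW.1 hW.2)⟩
  · exfalso
    have ap : ∀ {n : ℕ}, n < 64 → (h * oW [10]).1 (vec n) = h.1 (vec (aN [10] n)) := fun {n} hn => by
      show h.1 ((oW [10]).1 (vec n)) = _
      rw [oW_apply hok hn]
    have hge : (h * oW [10]).1 e0 = e0 := by
      rw [← vec1, ap (by norm_num : 1 < 64), a1, vec1, he]
    obtain ⟨hadm, hu⟩ := radical_eq hge (key _ hge (by rw [ap (by norm_num), a2, x8]) (by rw [ap (by norm_num), a8, x2])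
      (by rw [ap (by norm_num), a16, hW.1]) (by rw [ap (by norm_num), a32, hW.2]))
    obtain ⟨b, hb, hbw⟩ := B.wv_surj hadm
    have hg : h * oW [10] = D.act ⟨b, hb.2⟩ :=
      Subtype.ext (LinearEquiv.ext fun m => by rw [(B.act_P hb).2, hbw, hu])
    have hmem : oW [10] ∈ commutator (oGroup q6) := by
      rw [show oW [10] = h⁻¹ * D.act ⟨b, hb.2⟩ by rw [← hg, inv_mul_cancel_left]]
      exact mul_mem (inv_mem hΩ) (D.act_mem _)
    have := (parity_mem hok).1 hmem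
    simp at this
  · exact absurd (x2.trans x8.symm) hne

theorem Seed.rep_of_cent {x : G} (hx : x ∈ centralizer ({z} : Set G)) (hxV : x ∈ centralizer (hS.V0 T : Set G)) :
    ∃ w v, Rep B x w v := by
  obtain ⟨hxt, hxt'⟩ := (hS.mem_cent T).1 hxV
  have h1 : actG D x * oW [16, 17] = oW [16, 17] * actG D x := by
    rw [← hS.act_t T, ← actG_mul D hx hS.rep.mem_C, ← actG_mul D hS.rep.mem_C hx, hxt]
  have h2 : actG D x * oW [32, 33] = oW [32, 33] * actG D x := by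
    rw [← hS.act_t' T, ← actG_mul D hx (hS.rep' T).mem_C, ← actG_mul D (hS.rep' T).mem_C hx, hxt']
  obtain ⟨w, hadm, hu⟩ := radical_form B (actG_mem D) h1 h2
  obtain ⟨b, hb, hbw⟩ := B.wv_surj hadm
  obtain ⟨q, hqd⟩ : ∃ q, q = b⁻¹ * x := ⟨_, rfl⟩
  have hqC : q ∈ centralizer ({z} : Set G) := hqd ▸ mul_mem (inv_mem hb.2) hx
  have hqQ : q ∈ D.Q := by
    refine (actG_one_iff D hqC).1 ?_
    rw [hqd, actG_mul D (inv_mem hb.2) hx, actG_inv D hb.2, inv_mul_eq_one, actG_eq D hb.2]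
    exact Subtype.ext (LinearEquiv.ext fun m => by rw [(B.act_P hb).2, hbw, hu])
  have hrb := (hS.rep.mul (rep_P hb)).mul hS.rep.sq_zero
  rw [add_comm (vec 16), add_assoc, add_self, add_zero, add_zero, add_self] at hrb
  obtain ⟨i, hi, he⟩ := (rep_P hb).eq_mul hrb
  have htq : t * q * t⁻¹ = i⁻¹ * q := by
    calc t * q * t⁻¹ = (t * b * t⁻¹)⁻¹ * (t * x * t⁻¹) := by rw [hqd]; group
      _ = (b * i)⁻¹ * x := by rw [he, ← hxt, mul_inv_cancel_right]
      _ = i⁻¹ * q := by rw [hqd]; group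
  have hπ := congrArg D.π htq
  rw [actG_π D hS.rep.mem_C hqQ, D.π_mul _ (inv_mem hi.1) _ hqQ, π_inv D hi.1, hS.act_t T] at hπ
  obtain ⟨n, hn, en⟩ := exists_code (D.π q)
  rw [← en, oW_apply u_words.1 hn] at hπ
  have hA : bf (D.π q) e0 = 0 := by
    rw [← en]
    refine u_axis.2.2.2.2.2.2.2.2 ⟨n, hn⟩ ?_
    show red (vec (aN [16, 17] n ^^^ n)) = 0
    rw [← vec_add ⟨_, aN_lt u_words.1 hn⟩ ⟨n, hn⟩, hπ, add_assoc, add_self, add_zero]
    exact (inV_mem hi).2.2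
  exact ⟨_, _, b, q, hb, B.mem_A.2 ⟨hqQ, hA⟩, by rw [hqd, mul_inv_cancel_left], rfl, rfl⟩

omit T hS in
theorem cent_bits : (∀ w ∈ wList, ∀ v ∈ wList,
    bS (w + vec 16) (v + vec 32) = bS w v + bS (vec 16) (vec 32) →
    bT (w + vec 16) (v + vec 32) = bT w v + bT (vec 16) (vec 32) →
    bS (w + vec 32) (v + vec 48) = bS w v + bS (vec 32) (vec 48) →
    bT (w + vec 32) (v + vec 48) = bT w v + bT (vec 32) (vec 48) →
    ∃ p ∈ ([(0, 0), (vec 16, vec 32), (vec 32, vec 48), (vec 48, vec 16)] : List (M6 × M6)),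
      (∃ i, kF i = w + p.1) ∧ ∃ j, kF j = v + p.2) ∧
    (∀ w ∈ wList, red (rot w) = w → ∃ i, kF i = w) ∧
    (∀ i, kF i ∈ wList ∧ red (rot (kF i)) = kF i) ∧
    (∀ i j, bS (kF i + vec 16) (kF j + vec 32) = bS (kF i) (kF j) + bS (vec 16) (vec 32) ∧
      bT (kF i + vec 16) (kF j + vec 32) = bT (kF i) (kF j) + bT (vec 16) (vec 32) ∧
      bS (kF i + vec 32) (kF j + vec 48) = bS (kF i) (kF j) + bS (vec 32) (vec 48) ∧
      bT (kF i + vec 32) (kF j + vec 48) = bT (kF i) (kF j) + bT (vec 32) (vec 48)) := by decide +kernel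

/-- The centraliser of the four group and the element of order three inside the centraliser. -/
def Seed.S : Subgroup G := Kc T ⊓ centralizer (hS.V0 T : Set G)

theorem Seed.mem_S {x : G} : x ∈ hS.S T ↔ ∃ i j, Rep B x (kF i) (kF j) := by
  rw [Seed.S, Subgroup.mem_inf]
  constructor
  · rintro ⟨hK, hV⟩
    obtain ⟨hx, hxy⟩ := (mem_Kc T).1 hK
    obtain ⟨w, v, h⟩ := hS.rep_of_cent T hx hV
    have h1 := h.conj_y T (Three.y_s T B)
    rw [← hxy, mul_inv_cancel_right] at h1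
    obtain ⟨e1, e2⟩ := h1.unique h
    obtain ⟨i, rfl⟩ := cent_bits.2.1 w h.mem_list.1 e1
    obtain ⟨j, rfl⟩ := cent_bits.2.1 v h.mem_list.2 e2
    exact ⟨i, j, h⟩
  · rintro ⟨i, j, h⟩
    obtain ⟨c1, c2, c3, c4⟩ := cent_bits.2.2.2 i j
    exact ⟨(mem_Kc T).2 ⟨h.mem_C, h.comm_y T (cent_bits.2.2.1 i).2 (cent_bits.2.2.1 j).2⟩,
      (hS.mem_cent T).2 ⟨(h.comm_iff hS.rep).2 ⟨c1, c2⟩, (h.comm_iff (hS.rep' T)).2 ⟨c3, c4⟩⟩⟩

/-- The centraliser of the four group inside the centraliser. -/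
theorem Seed.cent_split {x : G} (hx : x ∈ centralizer ({z} : Set G)) (hxV : x ∈ centralizer (hS.V0 T : Set G)) :
    ∃ v ∈ hS.V0 T, x * v ∈ hS.S T := by
  obtain ⟨hxt, hxt'⟩ := (hS.mem_cent T).1 hxV
  obtain ⟨w, v, h⟩ := hS.rep_of_cent T hx hxV
  obtain ⟨c1, c2⟩ := (h.comm_iff hS.rep).1 hxt
  obtain ⟨c3, c4⟩ := (h.comm_iff (hS.rep' T)).1 hxt'
  obtain ⟨p, hp, ⟨i, hi⟩, j, hj⟩ := cent_bits.1 w h.mem_list.1 v h.mem_list.2 c1 c2 c3 c4
  have fin : ∀ {T' : G}, T' ∈ hS.V0 T → Rep B T' p.1 p.2 → ∃ v ∈ hS.V0 T, x * v ∈ hS.S T := fun {T'} h1 h2 =>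
    ⟨T', h1, (hS.mem_S T).2 ⟨i, j, by rw [hi, hj]; exact h.mul h2⟩⟩
  simp only [List.mem_cons, List.not_mem_nil, or_false] at hp
  rcases hp with rfl | rfl | rfl | rfl
  · exact fin (one_mem _) (rep_inV inV_one)
  · exact fin (hS.t_mem T) hS.rep
  · exact fin (hS.t'_mem T) (hS.rep' T)
  · exact fin (by rw [(hS.relations T).2.2.2]; exact mul_mem (hS.t_mem T) (hS.t'_mem T)) (hS.rep'' T)

end CfsgLib.SuzSeven
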