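import Cfsg.Agent.SuzSeven.Cent
import Mathlib.Data.Fintype.Perm

/-!
The four groups normalised by the element of order three: one class inside the centraliser, the subgroup
fixing one of them, and the outer involutions.
-/

set_option autoImplicit false
set_option linter.style.haveILetI false
set_option maxRecDepth 100000
set_option synthInstance.maxSize 4096
set_option synthInstance.maxHeartbeats 200000
set_option maxHeartbeats 1000000

namespace CfsgLib.SuzSeven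

open CfsgLib CfsgLib.Quad CfsgLib.SuzInvol CfsgLib.SuzThree Subgroup

variable {G : Type*} [Group G] [Finite G] {z : G} {D : Dat z} {B : Base D} {y : G}

/-- Four groups of the second class on which the element of order three acts without fixed points. -/
structure IsFour (z y : G) (V : Subgroup G) : Prop where
  card : Nat.card V = 4
  sq : ∀ v ∈ V, v * v = 1
  norm : ∀ v ∈ V, y * v * y⁻¹ ∈ V
  fpf : ∀ v ∈ V, y * v * y⁻¹ = v → v = 1
  cls : ∀ v ∈ V, v ≠ 1 → ¬ IsConj z v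

theorem not_conj_of_rep {x : G} {w v : M6} (h : Rep B x w v) (h2 : x * x = 1) (hw : qf w = 1) :
    ¬ IsConj z x := by
  obtain ⟨S⟩ := B.exists_std
  obtain ⟨b, a, hb, ha, rfl, rfl, -⟩ := h
  rw [qf_red (B.act_P hb).1.1] at hw
  obtain ⟨c, -, hc⟩ := S.conj_to_t hb ha h2 hw
  exact fun e => S.not_conj (e.trans (isConj_iff.2 ⟨c, hc⟩).symm)

theorem z_mul_not_conj {x : G} {w v : M6} (h : Rep B x w v) (h2 : x * x = 1) (hw : qf w = 1) :
    ¬ IsConj z (z * x) := by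
  have h' := (rep_inV (inV_z (B := B))).mul h
  rw [zero_add, zero_add] at h'
  refine not_conj_of_rep h' ?_ hw
  calc z * x * (z * x) = z * (x * z) * x := by group
    _ = z * (z * x) * x := by rw [h.comm_inV inV_z]
    _ = 1 := by rw [← mul_assoc z z, D.pre.gen.sq, one_mul, h2]

theorem qf_W : qf (vec 16) = 1 ∧ qf (vec 32) = 1 ∧ qf (vec 48) = 1 := by decide +kernel

variable {t : G} (T : Three D y) (hS : Seed B y t)
include T hS

theorem Seed.rep_cases {v : G} (hv : v ∈ hS.V0 T) (h1 : v ≠ 1) :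
    ∃ p ∈ ([(vec 16, vec 32), (vec 32, vec 48), (vec 48, vec 16)] : List (M6 × M6)),
      qf p.1 = 1 ∧ Rep B v p.1 p.2 ∧ v * v = 1 := by
  obtain ⟨a, b, c, d⟩ := hS.relations T
  rcases (hS.mem_V0 T).1 hv with rfl | rfl | rfl | rfl
  · exact absurd rfl h1
  · exact ⟨_, List.Mem.head _, qf_W.1, hS.rep, a⟩
  · exact ⟨(vec 32, vec 48), List.Mem.tail _ (List.Mem.head _), qf_W.2.1, hS.rep' T, b⟩
  · refine ⟨(vec 48, vec 16), List.Mem.tail _ (List.Mem.tail _ (List.Mem.head _)), qf_W.2.2, by rw [← d]; exact hS.rep'' T, ?_⟩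
    rw [← d]
    exact (hS.rep'' T).invol_iff.2 bits_seed.2.2.1

theorem Seed.distinct : t ≠ 1 ∧ y * t * y⁻¹ ≠ 1 ∧ t * (y * t * y⁻¹) ≠ 1 ∧ t ≠ y * t * y⁻¹ ∧
    t ≠ t * (y * t * y⁻¹) ∧ y * t * y⁻¹ ≠ t * (y * t * y⁻¹) := by
  have hne : vec 16 ≠ 0 ∧ vec 32 ≠ 0 ∧ vec 48 ≠ 0 ∧ vec 16 ≠ vec 32 := by decide +kernel
  have h3 : Rep B (t * (y * t * y⁻¹)) (vec 48) (vec 16) := by rw [← (hS.relations T).2.2.2]; exact hS.rep'' T
  have z0 : Rep B (1 : G) 0 0 := rep_inV inV_one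
  have a1 : t ≠ 1 := fun e => hne.1 (hS.rep.unique (e ▸ z0)).1
  have a2 : y * t * y⁻¹ ≠ 1 := fun e => hne.2.1 ((hS.rep' T).unique (e ▸ z0)).1
  refine ⟨a1, a2, fun e => hne.2.2.1 (h3.unique (e ▸ z0)).1, fun e => hne.2.2.2 ?_, ?_, ?_⟩
  · exact (hS.rep.unique (e.symm ▸ hS.rep' T)).1
  · intro e; exact a2 (mul_eq_left.1 e.symm)
  · intro e; exact a1 (mul_eq_right.1 e.symm)

theorem Seed.card_V0 : Nat.card (hS.V0 T) = 4 := by
  obtain ⟨a1, a2, a3, a4, a5, a6⟩ := hS.distinct T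
  have h : (hS.V0 T : Set G) = {1, t, y * t * y⁻¹, t * (y * t * y⁻¹)} := by
    ext v
    simp only [SetLike.mem_coe, Set.mem_insert_iff, Set.mem_singleton_iff]
    exact hS.mem_V0 T
  rw [← SetLike.coe_sort_coe, Nat.card_coe_set_eq, h, Set.ncard_insert_of_notMem (by simp [a1.symm, a2.symm, a3.symm]),
    Set.ncard_insert_of_notMem (by simp [a4, a5]), Set.ncard_pair a6]

theorem Seed.y_norm {v : G} (hv : v ∈ hS.V0 T) : y * v * y⁻¹ ∈ hS.V0 T := by
  obtain ⟨-, -, -, d⟩ := hS.relations T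
  have hd : y * (y * t * y⁻¹) * y⁻¹ ∈ hS.V0 T := d ▸ Or.inr (Or.inr (Or.inr rfl))
  rcases (hS.mem_V0 T).1 hv with rfl | rfl | rfl | rfl
  · rw [mul_one, mul_inv_cancel]; exact one_mem _
  · exact hS.t'_mem T
  · exact hd
  · rw [show y * (t * (y * t * y⁻¹)) * y⁻¹ = y * t * y⁻¹ * (y * (y * t * y⁻¹) * y⁻¹) by group]
    exact mul_mem (hS.t'_mem T) hd

theorem Seed.isFour : IsFour z y (hS.V0 T) where
  card := hS.card_V0 T
  sq v hv := by
    by_cases h : v = 1
    · rw [h, one_mul]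
    · obtain ⟨p, -, -, -, h2⟩ := hS.rep_cases T hv h; exact h2
  norm v hv := hS.y_norm T hv
  fpf v hv he := by
    by_contra h
    obtain ⟨p, hp, -, hr, -⟩ := hS.rep_cases T hv h
    have h1 := hr.conj_y T (Three.y_s T B)
    rw [he] at h1
    have e := (h1.unique hr).1
    have key : ∀ p ∈ ([(vec 16, vec 32), (vec 32, vec 48), (vec 48, vec 16)] : List (M6 × M6)),
        red (rot p.1) ≠ p.1 := by decide +kernel
    exact key p hp e
  cls v hv h := by
    obtain ⟨p, -, hq, hr, h2⟩ := hS.rep_cases T hv h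
    exact not_conj_of_rep hr h2 hq

theorem Seed.z_mul_cls {v : G} (hv : v ∈ hS.V0 T) (h : v ≠ 1) : ¬ IsConj z (z * v) := by
  obtain ⟨p, -, hq, hr, h2⟩ := hS.rep_cases T hv h
  exact z_mul_not_conj hr h2 hq

theorem Seed.V0_le : hS.V0 T ≤ centralizer ({z} : Set G) := by
  intro v hv
  by_cases h : v = 1
  · rw [h]; exact one_mem _
  · obtain ⟨p, -, -, hr, -⟩ := hS.rep_cases T hv h
    exact hr.mem_C

omit T hS in
theorem conj_pair {h : O6} {a b a' b' : ℕ} (ha : a < 64) (hb : b < 64) (hqa : qN a = true) (hqb : qN b = true)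
    (ha' : a' < 64) (hb' : b' < 64) (hqa' : qN a' = true) (hqb' : qN b' = true)
    (ea : h.1 (vec a) = vec a') (eb : h.1 (vec b) = vec b') : h * oW [a, b] * h⁻¹ = oW [a', b'] := by
  have key : ∀ {d d' : ℕ}, d < 64 → qN d = true → d' < 64 → qN d' = true → h.1 (vec d) = vec d' →
      h * refl q6 (vec d) * h⁻¹ = refl q6 (vec d') := by
    intro d d' hd hq hd' hq' e
    refine Subtype.ext (LinearEquiv.ext fun m => ?_)
    obtain ⟨n, hn, rfl⟩ := exists_code m
    obtain ⟨k, hk, ek⟩ := exists_code ((h⁻¹).1 (vec n))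
    show h.1 ((refl q6 (vec d)).1 ((h⁻¹).1 (vec n))) = (refl q6 (vec d')).1 (vec n)
    rw [← ek, refl_vec d hd hq k hk, refl_vec d' hd' hq' n hn]
    have hn' : h.1 (vec k) = vec n := by rw [ek]; exact h.1.apply_symm_apply _
    have hb : bN k d = bN n d' := by
      have h2 := bf_oGroup h (vec k) (vec d)
      rw [hn', e, bf_vec ⟨n, hn⟩ ⟨d', hd'⟩, bf_vec ⟨k, hk⟩ ⟨d, hd⟩] at h2
      revert h2
      cases bN n d' <;> cases bN k d <;> decide
    rw [tN, tN, hb]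
    split
    · rw [← vec_add ⟨k, hk⟩ ⟨d, hd⟩, ← vec_add ⟨n, hn⟩ ⟨d', hd'⟩, map_add, hn', e]
    · exact hn'
  simp only [oW_cons, oW_nil, mul_one]
  calc h * (refl q6 (vec a) * refl q6 (vec b)) * h⁻¹
      = (h * refl q6 (vec a) * h⁻¹) * (h * refl q6 (vec b) * h⁻¹) := by group
    _ = _ := by rw [key ha hqa ha' hqa' ea, key hb hqb hb' hqb' eb]

omit T hS in
theorem pair_table : ∀ a b : Fin 64, qN a.val = true → qN b.val = true → bN a.val b.val = false → a.val ≠ b.val →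
    sameW ([a.val, b.val] ++ (w0 ++ [a.val, b.val] ++ (w0 ++ w0))) ((w0 ++ w0) ++ [a.val, b.val] ++ w0) = true →
    ∃ i : Fin 108, ∃ u ∈ ([[16, 17], [32, 33], [48, 49]] : List (List ℕ)),
      sameW (el i.val ++ [a.val, b.val]) (u ++ el i.val) = true := by decide +kernel

omit T hS in
theorem turn_table : sameW (w0 ++ w0 ++ [32, 33]) ([16, 17] ++ (w0 ++ w0)) = true ∧
    sameW (w0 ++ [48, 49]) ([16, 17] ++ w0) = true ∧ okL [48, 49] = true ∧
    (∀ n : Fin 64, aN [16, 17] n.val = n.val →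
      n.val ^^^ aN [16, 17] (aN w0 n.val) = aN w0 (aN w0 n.val) → n.val = 0 ∨ n.val = 17) ∧
    4 ^^^ aN [16, 17] 4 = 17 ∧ red (SuzInvol.w2 + e0) = vec 16 ∧ qN 16 = true ∧ qN 17 = true ∧ bN 16 17 = false := by
  decide +kernel

omit T hS in
/-- The final step: an involution over the first element of the four group. -/
theorem lift_eq {x t t' x' x'' : G} {q : G} (hqd : q = x * t⁻¹) (hq : q = 1 ∨ q = z) (hy : y * z = z * y)
    (hx' : x' = y * x * y⁻¹) (ht' : t' = y * t * y⁻¹) (hx'' : x'' = y * x' * y⁻¹)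
    (hp : x * x' = x'') (ht : t * t' = y * t' * y⁻¹) (htz : t * z = z * t) (hzz : z * z = 1) (hz1 : z ≠ 1) :
    x = t := by
  rcases hq with e | e <;> rw [e] at hqd
  · exact mul_inv_eq_one.1 hqd.symm
  · exfalso
    have hx : x = z * t := by rw [hqd]; group
    have hyz : y * z * y⁻¹ = z := by rw [hy, mul_inv_cancel_right]
    have e1 : x' = z * t' := by
      rw [hx', hx, ht']
      calc y * (z * t) * y⁻¹ = y * z * y⁻¹ * (y * t * y⁻¹) := by group
        _ = _ := by rw [hyz]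
    have e2 : x'' = z * (t * t') := by
      rw [hx'', e1, ht]
      calc y * (z * t') * y⁻¹ = y * z * y⁻¹ * (y * t' * y⁻¹) := by group
        _ = _ := by rw [hyz]
    rw [hx, e1, e2, show z * t * (z * t') = z * (t * z) * t' by group, htz, ← mul_assoc z z t, hzz, one_mul] at hp
    exact hz1 (mul_eq_right.1 hp.symm)

/-- All these four groups in the centraliser are conjugate under the centraliser of both elements. -/
theorem Seed.exists_conj {V : Subgroup G} (hV : IsFour z y V) (hle : V ≤ centralizer ({z} : Set G)) :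
    ∃ c ∈ Kc T, (hS.V0 T).map (MulAut.conj c).toMonoidHom = V := by
  classical
  obtain ⟨S1⟩ := B.exists_std
  have hyz := mem_centralizer_singleton_iff.1 T.mem
  have y3 := T.three
  have yinv : y⁻¹ = y * y := by
    rw [inv_eq_iff_mul_eq_one]
    calc y * (y * y) = y ^ 3 := by simp only [pow_succ, pow_zero, one_mul, mul_assoc]
      _ = 1 := y3
  haveI : Nontrivial V := Finite.one_lt_card_iff_nontrivial.1 (by rw [hV.card]; norm_num)
  obtain ⟨⟨x, hx⟩, hxne⟩ := exists_ne (1 : V)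
  have hx1 : x ≠ 1 := fun e => hxne (Subtype.ext e)
  obtain ⟨x', hx'd⟩ : ∃ x', x' = y * x * y⁻¹ := ⟨_, rfl⟩
  obtain ⟨x'', hx''d⟩ : ∃ x'', x'' = y * x' * y⁻¹ := ⟨_, rfl⟩
  have hx' : x' ∈ V := hx'd ▸ hV.norm _ hx
  have hx'' : x'' ∈ V := hx''d ▸ hV.norm _ hx'
  have hprod : ∀ {v : G}, v ∈ V → v ≠ 1 → v * (y * v * y⁻¹) = y * (y * v * y⁻¹) * y⁻¹ := by
    intro v hv hv1
    set v' := y * v * y⁻¹ with hv'
    set v'' := y * v' * y⁻¹ with hv''
    have m1 : v' ∈ V := hV.norm _ hv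
    have m2 : v'' ∈ V := hV.norm _ m1
    have n1 : v' ≠ 1 := fun e => hv1 (conj_eq_one_iff.1 e)
    have n2 : v'' ≠ 1 := fun e => n1 (conj_eq_one_iff.1 e)
    have n3 : v ≠ v' := fun e => hv1 (hV.fpf v hv e.symm)
    have n4 : v' ≠ v'' := fun e => n1 (hV.fpf v' m1 e.symm)
    have n5 : v ≠ v'' := fun e => by
      have e' : y * v * y⁻¹ = y * v'' * y⁻¹ := by rw [← e]
      have e3 : y * v'' * y⁻¹ = v := by
        calc y * v'' * y⁻¹ = y ^ 3 * v * (y ^ 3)⁻¹ := by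
              rw [hv'', hv']; simp only [pow_succ, pow_zero, one_mul, mul_inv_rev, mul_assoc]
          _ = v := by rw [y3]; group
      exact n3 (e'.trans e3).symm
    have hset : (V : Set G) = {1, v, v', v''} := by
      refine (Set.eq_of_subset_of_ncard_le ?_ ?_).symm
      · intro a ha
        simp only [Set.mem_insert_iff, Set.mem_singleton_iff] at ha
        rcases ha with rfl | rfl | rfl | rfl
        exacts [one_mem _, hv, m1, m2]
      · rw [← Nat.card_coe_set_eq, SetLike.coe_sort_coe, hV.card,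
          Set.ncard_insert_of_notMem (by simp [hv1.symm, n1.symm, n2.symm]),
          Set.ncard_insert_of_notMem (by simp [n3, n5]), Set.ncard_pair n4]
    have hm : v * v' ∈ (V : Set G) := mul_mem hv m1
    rw [hset] at hm
    simp only [Set.mem_insert_iff, Set.mem_singleton_iff] at hm
    rcases hm with e | e | e | e
    · exact absurd (mul_left_cancel (e.trans (hV.sq v hv).symm)).symm n3
    · exact absurd (mul_eq_left.1 e) n1
    · exact absurd (mul_eq_right.1 e) hv1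
    · exact e
  have hxC := hle hx
  have hxQ : x ∉ D.Q := by
    intro h
    refine hV.cls x hx hx1 ?_
    have hxz : x ≠ z := fun e => hV.cls x hx hx1 (e ▸ IsConj.refl z)
    obtain ⟨c, -, hc⟩ := exists_conj_C D B.sQ h (by rw [B.πs]; exact q_e0) ((D.sq_iff x h).1 (hV.sq x hx))
      (by rw [B.πs]; exact base_facts.2.2.2) (fun e => ((D.π_eq_zero x h).1 e).elim hx1 hxz)
    exact (isConj_iff.2 ⟨B.g, B.gz⟩).trans (isConj_iff.2 ⟨c, hc⟩)
  obtain ⟨c1, hc1, hc1e⟩ : ∃ c ∈ centralizer ({z} : Set G), c * S1.t * c⁻¹ = x :=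
    (S1.classify hxC hxQ (hV.sq x hx)).resolve_left
      fun h => hV.cls x hx hx1 (B.isConj_of_sing h (hV.sq x hx) hx1)
  have hact1 : actG D S1.t = oW [16, 17] :=
    act_of_rep (B := B) (w := red (SuzInvol.w2 + e0)) (v := red v2) ⟨S1.b, S1.a, S1.hb, S1.ha, rfl, by rw [S1.wb],
      by rw [S1.πa]⟩ u_words.1 u_words.2.2.1 (by rw [u_words.2.2.2.1, turn_table.2.2.2.2.2.1])
      u_words.2.2.2.2.2.2.1
  obtain ⟨a, ha, ea⟩ := exists_code ((actG D c1).1 (vec 16))
  obtain ⟨b, hb, eb⟩ := exists_code ((actG D c1).1 (vec 17))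
  obtain ⟨q16, q17, b1617⟩ := turn_table.2.2.2.2.2.2
  have hqa : qN a = true := by
    have h := qf_oGroup (actG D c1) (vec 16)
    rw [← ea, vec_facts.2 ⟨a, ha⟩, vec_facts.2 ⟨16, by norm_num⟩] at h
    revert h
    simp only [q16]
    cases qN a <;> decide
  have hqb : qN b = true := by
    have h := qf_oGroup (actG D c1) (vec 17)
    rw [← eb, vec_facts.2 ⟨b, hb⟩, vec_facts.2 ⟨17, by norm_num⟩] at h
    revert h
    simp only [q17]
    cases qN b <;> decide
  have hab : bN a b = false := by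
    have h := bf_oGroup (actG D c1) (vec 16) (vec 17)
    rw [← ea, ← eb, bf_vec ⟨a, ha⟩ ⟨b, hb⟩, bf_vec ⟨16, by norm_num⟩ ⟨17, by norm_num⟩] at h
    revert h
    simp only [b1617]
    cases bN a b <;> decide
  have hactx : actG D x = oW [a, b] := by
    rw [← hc1e, actG_mul D (mul_mem hc1 S1.t_mem) (inv_mem hc1), actG_mul D hc1 S1.t_mem, actG_inv D hc1, hact1]
    exact conj_pair (by norm_num) (by norm_num) q16 q17 ha hb hqa hqb ea.symm eb.symm
  have okab : okL [a, b] = true := by simp [okL, ha, hb, hqa, hqb]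
  have ok0 := okL_small.1
  have oks : ∀ {u v : List ℕ}, okL u = true → okL v = true → okL (u ++ v) = true := fun hu hv => by
    rw [okL_append, hu, hv]; rfl
  have hC' : x' ∈ centralizer ({z} : Set G) := hle hx'
  have hC'' : x'' ∈ centralizer ({z} : Set G) := hle hx''
  have acty : actG D y⁻¹ = oW (w0 ++ w0) := by rw [yinv, actG_mul D T.mem T.mem, T.act, oW_append]
  have ax' : actG D x' = oW (w0 ++ [a, b] ++ (w0 ++ w0)) := by
    rw [hx'd, actG_mul D (mul_mem T.mem hxC) (inv_mem T.mem), actG_mul D T.mem hxC, T.act, hactx, acty]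
    simp only [oW_append]
  have hsame : sameW ([a, b] ++ (w0 ++ [a, b] ++ (w0 ++ w0))) ((w0 ++ w0) ++ [a, b] ++ w0) = true := by
    refine eq_of_sameW (oks okab (oks (oks ok0 okab) (oks ok0 ok0))) (oks (oks (oks ok0 ok0) okab) ok0) ?_
    rw [oW_append, ← hactx, ← ax', ← actG_mul D hxC hC', hx'd, hprod hx hx1,
      show y * (y * x * y⁻¹) * y⁻¹ = (y * y) * x * (y * y)⁻¹ by group, ← yinv, inv_inv,
      actG_mul D (mul_mem (inv_mem T.mem) hxC) T.mem, actG_mul D (inv_mem T.mem) hxC, T.act, hactx, acty]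
    simp only [oW_append]
  have hne : a ≠ b := fun e => by
    have h := (actG D c1).1.injective (ea.symm.trans ((congrArg vec e).trans eb))
    exact absurd (vec_inj (by norm_num) (by norm_num) h) (by norm_num)
  obtain ⟨i, u, hu, hiu⟩ := pair_table ⟨a, ha⟩ ⟨b, hb⟩ hqa hqb hab hne hsame
  obtain ⟨c0, hc0, ec0⟩ := T.exists_el i
  obtain ⟨hc0C, hc0y⟩ := (mem_Kc T).1 hc0
  have oku : okL u = true := by
    simp only [List.mem_cons, List.not_mem_nil, or_false] at hu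
    rcases hu with rfl | rfl | rfl
    exacts [u_words.1, u_words.2.1, turn_table.2.2.1]
  have hx0 : actG D (c0 * x * c0⁻¹) = oW u := by
    rw [actG_mul D (mul_mem hc0C hxC) (inv_mem hc0C), actG_mul D hc0C hxC, actG_inv D hc0C, ec0, hactx,
      mul_inv_eq_iff_eq_mul, ← oW_append, ← oW_append]
    exact oW_eq (oks (el_facts i).1 okab) (oks oku (el_facts i).1) hiu
  -- turn the element into the one over the first word
  obtain ⟨e, he, hke⟩ : ∃ e ∈ Kc T, actG D (e * x * e⁻¹) = oW [16, 17] := by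
    have mk : ∀ {k : G} {kw : List ℕ}, k ∈ Kc T → okL kw = true → actG D k = oW kw →
        sameW (kw ++ u) ([16, 17] ++ kw) = true → ∃ e ∈ Kc T, actG D (e * x * e⁻¹) = oW [16, 17] := by
      intro k kw hk hkw ek hs
      have hkC := ((mem_Kc T).1 hk).1
      refine ⟨k * c0, mul_mem hk hc0, ?_⟩
      rw [show k * c0 * x * (k * c0)⁻¹ = k * (c0 * x * c0⁻¹) * k⁻¹ by group,
        actG_mul D (mul_mem hkC (mul_mem (mul_mem hc0C hxC) (inv_mem hc0C))) (inv_mem hkC),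
        actG_mul D hkC (mul_mem (mul_mem hc0C hxC) (inv_mem hc0C)), actG_inv D hkC, hx0, ek,
        mul_inv_eq_iff_eq_mul, ← oW_append, ← oW_append]
      exact oW_eq (oks hkw oku) (oks u_words.1 hkw) hs
    simp only [List.mem_cons, List.not_mem_nil, or_false] at hu
    rcases hu with rfl | rfl | rfl
    · exact ⟨c0, hc0, hx0⟩
    · exact mk (inv_mem T.y_Kc) (oks ok0 ok0) acty turn_table.1
    · exact mk T.y_Kc ok0 T.act turn_table.2.1
  obtain ⟨heC, hey⟩ := (mem_Kc T).1 he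
  have hye : ∀ v : G, y * (e * v * e⁻¹) * y⁻¹ = e * (y * v * y⁻¹) * e⁻¹ := fun v => by
    calc y * (e * v * e⁻¹) * y⁻¹ = (y * e) * v * (y * e)⁻¹ := by group
      _ = (e * y) * v * (e * y)⁻¹ := by rw [hey]
      _ = _ := by group
  obtain ⟨x1, hx1d⟩ : ∃ x1, x1 = e * x * e⁻¹ := ⟨_, rfl⟩
  rw [← hx1d] at hke
  have hx1C : x1 ∈ centralizer ({z} : Set G) := hx1d ▸ mul_mem (mul_mem heC hxC) (inv_mem heC)
  have hp1 : x1 * (y * x1 * y⁻¹) = y * (y * x1 * y⁻¹) * y⁻¹ := by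
    rw [hx1d, hye, hye, ← hprod hx hx1]
    group
  have hsq1 : x1 * x1 = 1 := by
    rw [hx1d, show e * x * e⁻¹ * (e * x * e⁻¹) = e * (x * x) * e⁻¹ by group, hV.sq x hx]; group
  obtain ⟨r1, -, r12, rt''⟩ := hS.relations T
  have htC := hS.rep.mem_C
  have htz : t * z = z * t := hS.rep.comm_inV inV_z
  have hyz' : y * z = z * y := hyz
  obtain ⟨q, hqd⟩ : ∃ q, q = x1 * t⁻¹ := ⟨_, rfl⟩
  have hqQ : q ∈ D.Q := by
    have hqC : q ∈ centralizer ({z} : Set G) := hqd ▸ mul_mem hx1C (inv_mem htC)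
    rw [← actG_one_iff D hqC, hqd, actG_mul D hx1C (inv_mem htC), actG_inv D htC, hS.act_t T, hke, mul_inv_cancel]
  have hxq : x1 = q * t := by rw [hqd]; group
  have tinv : t⁻¹ = t := inv_eq_of_mul_eq_one_right r1
  have m1 : t * q * t⁻¹ ∈ D.Q := conj_mem_Q D htC hqQ
  have hq' : y * q * y⁻¹ ∈ D.Q := conj_mem_Q D T.mem hqQ
  have hq'' : y * (y * q * y⁻¹) * y⁻¹ ∈ D.Q := conj_mem_Q D T.mem hq'
  have e1 : q * (t * q * t⁻¹) = 1 := by
    rw [← hsq1, hxq, tinv]; group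
  have e2 : q * (t * (y * q * y⁻¹) * t⁻¹) = y * (y * q * y⁻¹) * y⁻¹ := by
    have h1 : y * x1 * y⁻¹ = (y * q * y⁻¹) * (y * t * y⁻¹) := by rw [hxq]; group
    have h2 : y * (y * x1 * y⁻¹) * y⁻¹ = y * (y * q * y⁻¹) * y⁻¹ * (t * (y * t * y⁻¹)) := by
      rw [h1, show y * (y * q * y⁻¹ * (y * t * y⁻¹)) * y⁻¹ =
        y * (y * q * y⁻¹) * y⁻¹ * (y * (y * t * y⁻¹) * y⁻¹) by group, rt'']
    rw [h2, h1] at hp1
    refine mul_right_cancel (b := t * (y * t * y⁻¹)) (Eq.trans ?_ hp1)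
    rw [hxq]; group
  obtain ⟨n, hn, en⟩ := exists_code (D.π q)
  have hfix : aN [16, 17] n = n := by
    have h := congrArg D.π e1
    rw [D.π_mul _ hqQ _ m1, π_one, actG_π D htC hqQ, hS.act_t T, ← en, oW_apply u_words.1 hn] at h
    refine vec_inj (aN_lt u_words.1 hn) hn ?_
    calc vec (aN [16, 17] n) = vec n + (vec n + vec (aN [16, 17] n)) := by rw [← add_assoc, add_self, zero_add]
      _ = vec n := by rw [h, add_zero]
  have hn1 : aN w0 n < 64 := aN_lt ok0 hn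
  have hn2 : aN w0 (aN w0 n) < 64 := aN_lt ok0 hn1
  have hn3 : aN [16, 17] (aN w0 n) < 64 := aN_lt u_words.1 hn1
  have hcoc : n ^^^ aN [16, 17] (aN w0 n) = aN w0 (aN w0 n) := by
    have h := congrArg D.π e2
    rw [D.π_mul _ hqQ _ (conj_mem_Q D htC hq'), actG_π D htC hq', hS.act_t T, actG_π D T.mem hqQ,
      actG_π D T.mem hq', actG_π D T.mem hqQ, T.act, ← en, oW_apply ok0 hn, oW_apply u_words.1 hn1,
      oW_apply ok0 hn1, vec_add ⟨n, hn⟩ ⟨_, hn3⟩] at h
    exact vec_inj (Nat.xor_lt_two_pow (n := 6) hn hn3) hn2 h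
  obtain ⟨f, hf, hfe⟩ : ∃ f ∈ Kc T, f * t * f⁻¹ = x1 := by
    rcases turn_table.2.2.2.1 ⟨n, hn⟩ hfix hcoc with e' | e'
    · refine ⟨1, one_mem _, ?_⟩
      rw [one_mul, inv_one, mul_one]
      refine (lift_eq hqd ((D.π_eq_zero q hqQ).1 ?_) hyz' rfl rfl rfl hp1 rt''.symm htz D.pre.gen.sq
        D.pre.gen.ne_one).symm
      rw [← en, show n = 0 from e']; decide +kernel
    · obtain ⟨f, hfQ, ef⟩ := D.π_surj (vec 4)
      have hfK : f ∈ Kc T := (T.fixed_lt hfQ (by norm_num) ef).2 (by norm_num)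
      obtain ⟨hfC, hfy⟩ := (mem_Kc T).1 hfK
      refine ⟨f, hfK, ?_⟩
      have hfz : f * z = z * f := mem_centralizer_singleton_iff.1 hfC
      have hyf : ∀ v : G, y * (f * v * f⁻¹) * y⁻¹ = f * (y * v * y⁻¹) * f⁻¹ := fun v => by
        calc y * (f * v * f⁻¹) * y⁻¹ = (y * f) * v * (y * f)⁻¹ := by group
          _ = (f * y) * v * (f * y)⁻¹ := by rw [hfy]
          _ = _ := by group
      obtain ⟨r, hrd⟩ : ∃ r, r = f * (t * f⁻¹ * t⁻¹) := ⟨_, rfl⟩
      have hm2 : t * f⁻¹ * t⁻¹ ∈ D.Q := conj_mem_Q D htC (inv_mem hfQ)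
      have hrQ : r ∈ D.Q := hrd ▸ mul_mem hfQ hm2
      have er : D.π r = D.π q := by
        rw [hrd, D.π_mul _ hfQ _ hm2, actG_π D htC (inv_mem hfQ), π_inv D hfQ, hS.act_t T, ef,
          oW_apply u_words.1 (by norm_num : 4 < 64),
          vec_add ⟨4, by norm_num⟩ ⟨_, aN_lt u_words.1 (by norm_num : 4 < 64)⟩, ← en]
        show vec (4 ^^^ aN [16, 17] 4) = vec n
        rw [turn_table.2.2.2.2.1, show n = 17 from e']
      have hxf : x1 * (f * t * f⁻¹)⁻¹ = q * r⁻¹ := by rw [hxq, hrd]; group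
      refine (lift_eq rfl ((D.π_eq_zero (x1 * (f * t * f⁻¹)⁻¹) (hxf ▸ mul_mem hqQ (inv_mem hrQ))).1 ?_) hyz' rfl
        (t := f * t * f⁻¹) rfl rfl hp1 ?_ ?_ D.pre.gen.sq D.pre.gen.ne_one).symm
      · rw [hxf, D.π_mul _ hqQ _ (inv_mem hrQ), π_inv D hrQ, er, add_self]
      · rw [hyf, hyf, rt'']; group
      · calc f * t * f⁻¹ * z = f * t * (f⁻¹ * z * f) * f⁻¹ := by group
          _ = f * (t * z) * f⁻¹ := by rw [show f⁻¹ * z * f = z from by rw [mul_assoc, ← hfz]; group]; group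
          _ = (f * z) * t * f⁻¹ := by rw [htz]; group
          _ = z * (f * t * f⁻¹) := by rw [hfz]; group
  obtain ⟨hfC, hfy⟩ := (mem_Kc T).1 hf
  refine ⟨e⁻¹ * f, mul_mem (inv_mem he) hf, ?_⟩
  have hcy : (e⁻¹ * f) * y = y * (e⁻¹ * f) := ((mem_Kc T).1 (mul_mem (inv_mem he) hf)).2
  obtain ⟨c, hcd⟩ : ∃ c, c = e⁻¹ * f := ⟨_, rfl⟩
  rw [← hcd] at hcy ⊢
  have hct : c * t * c⁻¹ = x := by
    rw [hcd, show e⁻¹ * f * t * (e⁻¹ * f)⁻¹ = e⁻¹ * (f * t * f⁻¹) * e by group, hfe, hx1d]; group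
  have hct' : c * (y * t * y⁻¹) * c⁻¹ = y * x * y⁻¹ := by
    rw [← hct, show c * (y * t * y⁻¹) * c⁻¹ = (c * y) * t * (c * y)⁻¹ by group, hcy]; group
  refine Subgroup.eq_of_le_of_card_ge ?_ ?_
  · rintro _ ⟨v, hv, rfl⟩
    show c * v * c⁻¹ ∈ V
    rcases (hS.mem_V0 T).1 hv with rfl | rfl | rfl | rfl
    · rw [mul_one, mul_inv_cancel]; exact one_mem _
    · exact hct ▸ hx
    · exact hct' ▸ hV.norm _ hx
    · rw [show c * (t * (y * t * y⁻¹)) * c⁻¹ = c * t * c⁻¹ * (c * (y * t * y⁻¹) * c⁻¹) by group, hct, hct']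
      exact mul_mem hx (hV.norm _ hx)
  · rw [hV.card, Subgroup.card_map_of_injective (MulAut.conj c).injective, hS.card_V0 T]

end CfsgLib.SuzSeven
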