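import Cfsg.Agent.SuzSeven.Plane

/-!
A group with a central four group and a complementary subgroup with one class of involutions and no large
subgroup of odd order is the product of the two.
-/

set_option autoImplicit false
set_option linter.style.haveILetI false

namespace CfsgLib.SuzSeven

open Subgroup

theorem split_top {L : Type*} [Group L] [Finite L] {V H : Subgroup L} {z : L} {c : ℕ} (hc : 0 < c)
    (hcen : ∀ v ∈ V, ∀ x : L, v * x = x * v) (hsq : ∀ v ∈ V, v * v = 1) (hVH : V ⊓ H = ⊥) (hz : z ∈ H)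
    (hzz : z * z = 1) (hz1 : z ≠ 1)
    (hle : ∀ x : L, x * z = z * x → ∃ v ∈ V, ∃ h ∈ H, x = v * h)
    (hC : Nat.card (centralizer ({z} : Set L)) ≤ c * Nat.card V)
    (hone : ∀ x ∈ H, x * x = 1 → x ≠ 1 → ∃ h ∈ H, h * z * h⁻¹ = x)
    (hn1 : ∀ v ∈ V, ¬ IsConj z v) (hn2 : ∀ v ∈ V, v ≠ 1 → ¬ IsConj z (z * v))
    (hcl : c * Nat.card {x : H // x * x = 1 ∧ x ≠ 1} = Nat.card H)
    (hodd : ∀ D : Subgroup L, D ≤ H → Odd (Nat.card D) → ¬ Nat.card H ≤ c * Nat.card D) :
    ∀ x : L, ∃ v ∈ V, ∃ h ∈ H, x = v * h := by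
  classical
  haveI := Fintype.ofFinite L
  let M : Subgroup L :=
  { carrier := {x | ∃ v ∈ V, ∃ h ∈ H, x = v * h}
    one_mem' := ⟨1, one_mem _, 1, one_mem _, (one_mul 1).symm⟩
    mul_mem' := by
      rintro _ _ ⟨v, hv, h, hh, rfl⟩ ⟨v', hv', h', hh', rfl⟩
      refine ⟨v * v', mul_mem hv hv', h * h', mul_mem hh hh', ?_⟩
      calc v * h * (v' * h') = v * (h * v') * h' := by group
        _ = v * (v' * h) * h' := by rw [hcen v' hv' h]
        _ = _ := by group
    inv_mem' := by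
      rintro _ ⟨v, hv, h, hh, rfl⟩
      exact ⟨v⁻¹, inv_mem hv, h⁻¹, inv_mem hh, by rw [mul_inv_rev, hcen _ (inv_mem hv)]⟩ }
  have hM : ∀ x, x ∈ M ↔ ∃ v ∈ V, ∃ h ∈ H, x = v * h := fun x => Iff.rfl
  suffices h : M = ⊤ by exact fun x => (hM x).1 (h ▸ mem_top x)
  have hVM : V ≤ M := fun v hv => ⟨v, hv, 1, one_mem _, (mul_one v).symm⟩
  have hHM : H ≤ M := fun h hh => ⟨1, one_mem _, h, hh, (one_mul h).symm⟩
  have huniq : ∀ {v h v' h' : L}, v ∈ V → h ∈ H → v' ∈ V → h' ∈ H → v * h = v' * h' → v = v' ∧ h = h' := by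
    intro v h v' h' hv hh hv' hh' e
    have h1 : v'⁻¹ * v ∈ V ⊓ H := mem_inf.2 ⟨mul_mem (inv_mem hv') hv, by
      rw [show v'⁻¹ * v = v'⁻¹ * (v * h) * h⁻¹ by group, e, show v'⁻¹ * (v' * h') * h⁻¹ = h' * h⁻¹ by group]
      exact mul_mem hh' (inv_mem hh)⟩
    rw [hVH, mem_bot, inv_mul_eq_one] at h1
    subst h1
    exact ⟨rfl, mul_left_cancel e⟩
  have hMcard : Nat.card M = Nat.card V * Nat.card H := by
    rw [← Nat.card_prod]
    refine (Nat.card_eq_of_bijective (fun p : V × H => (⟨(p.1 : L) * p.2, _, p.1.2, _, p.2.2, rfl⟩ : M)) ⟨?_, ?_⟩).symm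
    · rintro ⟨v, h⟩ ⟨v', h'⟩ e
      obtain ⟨e1, e2⟩ := huniq v.2 h.2 v'.2 h'.2 (congrArg Subtype.val e)
      exact Prod.ext (Subtype.ext e1) (Subtype.ext e2)
    · rintro ⟨x, v, hv, h, hh, rfl⟩
      exact ⟨(⟨v, hv⟩, ⟨h, hh⟩), rfl⟩
  -- conjugates of the involution in the product lie in the factor
  have hin : ∀ x ∈ M, IsConj z x → x ∈ H := by
    rintro _ ⟨v, hv, h, hh, rfl⟩ hx
    by_cases hv1 : v = 1
    · rw [hv1, one_mul]; exact hh
    exfalso
    obtain ⟨g, hg⟩ := isConj_iff.1 hx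
    have hsq' : v * h * (v * h) = 1 := by
      rw [← hg, show g * z * g⁻¹ * (g * z * g⁻¹) = g * (z * z) * g⁻¹ by group, hzz]; group
    have hh2 : h * h = 1 := by
      have h1 : v * h * (v * h) = v * v * (h * h) := by
        calc v * h * (v * h) = v * (h * v) * h := by group
          _ = v * (v * h) * h := by rw [hcen v hv h]
          _ = _ := by group
      rw [h1, hsq v hv, one_mul] at hsq'
      exact hsq'
    by_cases hh1 : h = 1
    · rw [hh1, mul_one] at hx
      exact hn1 v hv hx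
    obtain ⟨k, -, hk⟩ := hone h hh hh2 hh1
    refine hn2 v hv hv1 (hx.trans (isConj_iff.2 ⟨k, ?_⟩).symm)
    calc k * (z * v) * k⁻¹ = k * z * (v * k⁻¹) := by group
      _ = k * z * (k⁻¹ * v) := by rw [hcen v hv]
      _ = k * z * k⁻¹ * v := by group
      _ = v * h := by rw [hk, hcen v hv]
  -- an involution of the factor is centralised only inside the product
  have hcent : ∀ d ∈ H, d * d = 1 → d ≠ 1 → ∀ g : L, g * d = d * g → g ∈ M := by
    intro d hd hd2 hd1 g hg
    obtain ⟨k, hk, hkd⟩ := hone d hd hd2 hd1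
    have h1 := (hM _).2 (hle (k⁻¹ * g * k) (by
      rw [← hkd] at hg
      calc k⁻¹ * g * k * z = k⁻¹ * (g * (k * z * k⁻¹)) * k := by group
        _ = k⁻¹ * (k * z * k⁻¹ * g) * k := by rw [hg]
        _ = z * (k⁻¹ * g * k) := by group))
    have h2 := mul_mem (mul_mem (hHM hk) h1) (inv_mem (hHM hk))
    rwa [show k * (k⁻¹ * g * k) * k⁻¹ = g by group] at h2
  by_contra hne
  -- the fibres over the cosets
  set U : Finset L := Finset.univ.filter fun u : L => IsConj z u with hU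
  set f : L → L ⧸ M := QuotientGroup.mk with hf
  obtain ⟨r, hr⟩ : ∃ r, r = Nat.card {x : H // x * x = 1 ∧ x ≠ 1} := ⟨_, rfl⟩
  rw [← hr] at hcl
  have hfirst : (U.filter fun u => f u = f 1).card ≤ r := by
    rw [hr, Nat.card_eq_fintype_card, ← Fintype.card_coe]
    refine Fintype.card_le_of_injective (fun u => ⟨⟨u.1, ?_⟩, ?_⟩) ?_
    · have hu := u.2
      simp only [Finset.mem_filter, hU, Finset.mem_univ, true_and, hf] at hu
      refine hin _ ?_ hu.1
      have := QuotientGroup.eq.1 hu.2.symm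
      simpa using this
    · have hu := u.2
      simp only [Finset.mem_filter, hU, Finset.mem_univ, true_and, hf] at hu
      obtain ⟨g, hg⟩ := isConj_iff.1 hu.1
      refine ⟨Subtype.ext ?_, fun e => hz1 ?_⟩
      · show u.1 * u.1 = 1
        rw [← hg, show g * z * g⁻¹ * (g * z * g⁻¹) = g * (z * z) * g⁻¹ by group, hzz]; group
      · have e' : u.1 = 1 := congrArg Subtype.val e
        rw [← hg, conj_eq_one_iff] at e'
        exact e'
    · intro a b e
      exact Subtype.ext (congrArg (fun t => (t.1.1 : L)) e)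
  obtain ⟨q, hq, hbig⟩ : ∃ q : L ⧸ M, q ≠ f 1 ∧ r ≤ (U.filter fun u => f u = q).card := by
    by_contra hall
    push_neg at hall
    have hsum := Finset.card_eq_sum_card_fiberwise (s := U) (t := Finset.univ) (f := f)
      (fun u _ => Finset.mem_coe.2 (Finset.mem_univ _))
    have hcard := card_class (M := L) z
    have hUc : U.card = Nat.card {y // IsConj z y} := by
      rw [Nat.card_eq_fintype_card, Fintype.card_subtype]
    have hlt : ∑ q : L ⧸ M, (U.filter fun u => f u = q).card < ∑ _q : L ⧸ M, r := by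
      obtain ⟨g, hg⟩ : ∃ g, g ∉ M := by
        by_contra hh
        push_neg at hh
        exact hne (eq_top_iff.2 fun x _ => hh x)
      refine Finset.sum_lt_sum (fun q _ => ?_) ⟨f g, Finset.mem_univ _, hall _ ?_⟩
      · by_cases e : q = f 1
        · rw [e]; exact hfirst
        · exact (hall q e).le
      · intro e
        exact hg (by simpa [hf] using QuotientGroup.eq.1 e.symm)
    rw [← hsum, Finset.sum_const, Finset.card_univ, ← Nat.card_eq_fintype_card, ← index_eq_card,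
      smul_eq_mul, hUc] at hlt
    have h1 := card_mul_index M
    rw [hMcard] at h1
    have hpos : 0 < Nat.card (centralizer ({z} : Set L)) := Nat.card_pos
    have h2 : Nat.card {y // IsConj z y} * Nat.card (centralizer ({z} : Set L)) <
        M.index * r * (c * Nat.card V) :=
      lt_of_lt_of_le (Nat.mul_lt_mul_of_pos_right hlt hpos) (Nat.mul_le_mul_left _ hC)
    rw [hcard, show M.index * r * (c * Nat.card V) = Nat.card V * (c * r) * M.index by ring, hcl, h1] at h2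
    exact lt_irrefl _ h2
  have hr0 : 0 < r := by
    rcases Nat.eq_zero_or_pos r with e | e
    · rw [e, mul_zero] at hcl
      exact absurd hcl.symm (Nat.card_pos (α := H)).ne'
    · exact e
  obtain ⟨u₀, hu₀⟩ := Finset.card_pos.1 (lt_of_lt_of_le hr0 hbig)
  simp only [Finset.mem_filter, hU, Finset.mem_univ, true_and] at hu₀
  obtain ⟨hu₀c, hu₀q⟩ := hu₀
  have hu₀M : u₀ ∉ M := fun h => hq (by
    rw [← hu₀q]; simp only [hf]; rw [QuotientGroup.eq]; simpa using h)
  have hu₀2 : u₀ * u₀ = 1 := by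
    obtain ⟨g, rfl⟩ := isConj_iff.1 hu₀c
    rw [show g * z * g⁻¹ * (g * z * g⁻¹) = g * (z * z) * g⁻¹ by group, hzz]; group
  have hu₀i : u₀⁻¹ = u₀ := inv_eq_of_mul_eq_one_right hu₀2
  set D : Subgroup L := H ⊓ H.comap (MulAut.conj u₀).toMonoidHom with hD
  have hDmem : ∀ x, x ∈ D ↔ x ∈ H ∧ u₀ * x * u₀⁻¹ ∈ H := fun x => Iff.rfl
  have hDinv : ∀ x ∈ D, u₀ * x * u₀⁻¹ ∈ D := by
    intro x hx
    refine (hDmem _).2 ⟨((hDmem x).1 hx).2, ?_⟩
    rw [hu₀i, show u₀ * (u₀ * x * u₀) * u₀ = (u₀ * u₀) * x * (u₀ * u₀) by group, hu₀2, one_mul, mul_one]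
    exact ((hDmem x).1 hx).1
  refine hodd D inf_le_left ?_ ?_
  · -- odd order
    by_contra hev
    rw [Nat.not_odd_iff_even] at hev
    haveI : Fact (Nat.Prime 2) := ⟨Nat.prime_two⟩
    obtain ⟨⟨d, hd⟩, hd2⟩ := exists_prime_orderOf_dvd_card' (G := D) 2 hev.two_dvd
    rw [Subgroup.orderOf_mk] at hd2
    have hdd : d * d = 1 := by rw [← pow_two, ← hd2, pow_orderOf_eq_one]
    have hd1 : d ≠ 1 := fun e => by rw [e, orderOf_one] at hd2; omega
    obtain ⟨d', hd'⟩ : ∃ d', d' = u₀ * d * u₀⁻¹ := ⟨_, rfl⟩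
    have hd'D : d' ∈ D := hd' ▸ hDinv d hd
    have hdd' : d' * d' = 1 := by
      rw [hd', show u₀ * d * u₀⁻¹ * (u₀ * d * u₀⁻¹) = u₀ * (d * d) * u₀⁻¹ by group, hdd]; group
    obtain ⟨p, hp⟩ : ∃ p, p = d' * d := ⟨_, rfl⟩
    have hdp : d * p * d⁻¹ = p⁻¹ := by
      rw [hp, mul_inv_rev, inv_eq_of_mul_eq_one_right hdd, inv_eq_of_mul_eq_one_right hdd']
      calc d * (d' * d) * d = d * d' * (d * d) := by group
        _ = d * d' := by rw [hdd, mul_one]
    have hup : u₀ * p * u₀⁻¹ = p⁻¹ := by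
      rw [hp, mul_inv_rev, inv_eq_of_mul_eq_one_right hdd, inv_eq_of_mul_eq_one_right hdd', hd', hu₀i]
      calc u₀ * (u₀ * d * u₀ * d) * u₀ = (u₀ * u₀) * (d * (u₀ * d * u₀)) := by group
        _ = _ := by rw [hu₀2, one_mul]
    rcases Nat.even_or_odd (orderOf p) with ⟨k, hk⟩ | ⟨k, hk⟩
    · -- a central involution
      have hpos := orderOf_pos p
      have hx2 : p ^ k * p ^ k = 1 := by rw [← pow_add, ← hk, pow_orderOf_eq_one]
      have hx1 : p ^ k ≠ 1 := pow_ne_one_of_lt_orderOf (by omega) (by omega)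
      refine hu₀M (hcent (p ^ k) (((hDmem _).1 (pow_mem (hp ▸ mul_mem hd'D hd) k)).1) hx2 hx1 u₀ ?_)
      have := conj_pow (i := k) (a := u₀) (b := p)
      rw [hup, inv_pow, inv_eq_of_mul_eq_one_right hx2] at this
      calc u₀ * p ^ k = u₀ * p ^ k * u₀⁻¹ * u₀ := by group
        _ = p ^ k * u₀ := by rw [← this]
    · have hpD : p ∈ D := hp ▸ mul_mem hd'D hd
      have hw : p ^ (k + 1) * d * (p ^ (k + 1))⁻¹ = d' := by
        have h1 : d * (p ^ (k + 1))⁻¹ = p ^ (k + 1) * d := by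
          have := conj_pow (i := k + 1) (a := d) (b := p)
          rw [hdp, inv_pow] at this
          calc d * (p ^ (k + 1))⁻¹ = d * (d * p ^ (k + 1) * d⁻¹) := by rw [this]
            _ = (d * d) * p ^ (k + 1) * d⁻¹ := by group
            _ = p ^ (k + 1) * d := by rw [hdd, one_mul, inv_eq_of_mul_eq_one_right hdd]
        rw [mul_assoc, h1, ← mul_assoc, ← pow_add, show k + 1 + (k + 1) = orderOf p + 1 by omega, pow_add,
          pow_orderOf_eq_one, one_mul, pow_one, hp, mul_assoc, hdd, mul_one]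
      have h2 := hcent d ((hDmem d).1 hd).1 hdd hd1 ((p ^ (k + 1))⁻¹ * u₀) (by
        calc (p ^ (k + 1))⁻¹ * u₀ * d = (p ^ (k + 1))⁻¹ * (u₀ * d * u₀⁻¹) * u₀ := by group
          _ = (p ^ (k + 1))⁻¹ * (p ^ (k + 1) * d * (p ^ (k + 1))⁻¹) * u₀ := by rw [← hd', hw]
          _ = d * ((p ^ (k + 1))⁻¹ * u₀) := by group)
      refine hu₀M ?_
      have h3 := mul_mem (hHM ((hDmem _).1 (pow_mem hpD (k + 1))).1) h2
      rwa [show p ^ (k + 1) * ((p ^ (k + 1))⁻¹ * u₀) = u₀ by group] at h3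
  · rw [← hcl]
    refine Nat.mul_le_mul_left _ (hbig.trans ?_)
    have hdec : ∀ u : {u // u ∈ U.filter fun u => f u = q}, ∃ v ∈ V, ∃ h ∈ D, (u : L) = u₀ * (v * h) := by
      rintro ⟨u, hu⟩
      simp only [Finset.mem_filter, hU, Finset.mem_univ, true_and] at hu
      obtain ⟨v, hv, h, hh, e⟩ := (hM _).1 (QuotientGroup.eq.1 (hu₀q.trans hu.2.symm : f u₀ = f u))
      have e' : u = u₀ * (v * h) := by rw [← e]; group
      refine ⟨v, hv, h, (hDmem h).2 ⟨hh, ?_⟩, e'⟩
      have hu2 : u * u = 1 := by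
        obtain ⟨g, rfl⟩ := isConj_iff.1 hu.1
        rw [show g * z * g⁻¹ * (g * z * g⁻¹) = g * (z * z) * g⁻¹ by group, hzz]; group
      have h1 : u₀ * (v * h) * u₀⁻¹ = (v * h)⁻¹ := by
        rw [hu₀i]
        refine eq_inv_of_mul_eq_one_left ?_
        calc u₀ * (v * h) * u₀ * (v * h) = u₀ * (v * h) * (u₀ * (v * h)) := by group
          _ = 1 := by rw [← e', hu2]
      have h2 : v * (u₀ * h * u₀⁻¹) = v * h⁻¹ := by
        calc v * (u₀ * h * u₀⁻¹) = (v * u₀) * h * u₀⁻¹ := by group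
          _ = (u₀ * v) * h * u₀⁻¹ := by rw [hcen v hv]
          _ = u₀ * (v * h) * u₀⁻¹ := by group
          _ = (v * h)⁻¹ := h1
          _ = v * h⁻¹ := by rw [mul_inv_rev, inv_eq_of_mul_eq_one_right (hsq v hv), ← hcen v hv]
      rw [mul_left_cancel h2]
      exact inv_mem hh
    choose v hv h hh hdec using hdec
    rw [← Fintype.card_coe, ← Nat.card_eq_fintype_card]
    refine Nat.card_le_card_of_injective (fun u => (⟨h u, hh u⟩ : D)) ?_
    intro a b e
    have e' : h a = h b := congrArg Subtype.val e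
    obtain ⟨w, hwd⟩ : ∃ w, w = (v a)⁻¹ * v b := ⟨_, rfl⟩
    have hw : w ∈ V := hwd ▸ mul_mem (inv_mem (hv a)) (hv b)
    have hab : (b : L) = (a : L) * w := by
      rw [hdec b, hdec a, ← e', mul_assoc, mul_assoc (v a), ← hcen w hw (h a), hwd]
      group
    by_cases hw1 : w = 1
    · rw [hw1, mul_one] at hab; exact Subtype.ext hab.symm
    exfalso
    have ha := a.2
    have hb := b.2
    simp only [Finset.mem_filter, hU, Finset.mem_univ, true_and] at ha hb
    obtain ⟨g, hg⟩ := isConj_iff.1 ha.1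
    refine hn2 w hw hw1 (hb.1.trans (isConj_iff.2 ⟨g, ?_⟩).symm)
    calc g * (z * w) * g⁻¹ = g * z * (w * g⁻¹) := by group
      _ = g * z * (g⁻¹ * w) := by rw [hcen w hw]
      _ = (g * z * g⁻¹) * w := by group
      _ = b := by rw [hg, hab]

end CfsgLib.SuzSeven
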