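import Cfsg.Agent.SuzSeven.UEnum

/-!
Centralisers of elements of order seven and five in the four-dimensional unitary group over nine elements.
-/

set_option autoImplicit false
set_option maxRecDepth 100000
set_option linter.style.haveILetI false

namespace CfsgLib.SuzSeven

open CfsgLib.U43Type CfsgLib.U43Type.Mats Matrix CfsgLib.Coset
open Cfsg.Agent.McLU43 (K9 dec fadd fmul fadd_lt fmul_lt dec_add dec_mul dec_inj dec_zero dec_one)
open CfsgLib.SuzEleven (card_PSU4)

local notation "SU4" => Cfsg.SU 4 K9 3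
local notation "PSU4" => Cfsg.PSU 4 K9 3

theorem toM_powC (M : Nat) : ∀ n : Nat, toM (powC M n) = toM M ^ n
  | 0 => by rw [powC, toM_one, pow_zero]
  | n + 1 => by rw [powC, toM_mC, toM_powC M n, pow_succ']

theorem toM_cC (M : Nat) {c : Fin 4 → Nat} (hc : ∀ j, c j < 9) :
    toM (cC M c) = dec (c 0) • (1 : Matrix (Fin 4) (Fin 4) K9) + dec (c 1) • toM M + dec (c 2) • (toM M * toM M) +
      dec (c 3) • (toM M * (toM M * toM M)) := by
  ext1 i k
  have hlt : ∀ n, cEnt M c n < 9 := fun n => fadd_lt _ _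
  have he : ent (cC M c) i.val k.val = cEnt M c (4 * i.val + k.val) := by
    rw [ent, cC, ent_sum (fun n => cEnt M c n) hlt 16 _ (by omega)]
  rw [← toM_one, ← toM_mC, ← toM_mC]
  simp only [Matrix.add_apply, Matrix.smul_apply, smul_eq_mul, toM, Matrix.of_apply, he, cEnt]
  rw [dec_add (fadd_lt _ _) (fmul_lt _ _), dec_add (fadd_lt _ _) (fmul_lt _ _), dec_add (fmul_lt _ _) (fmul_lt _ _),
    dec_mul (hc _) (Nat.mod_lt _ (by norm_num)), dec_mul (hc _) (Nat.mod_lt _ (by norm_num)),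
    dec_mul (hc _) (Nat.mod_lt _ (by norm_num)), dec_mul (hc _) (Nat.mod_lt _ (by norm_num))]
  rfl

theorem uOK_of {X : Nat} {g : SU4} (h : (g.1 : Matrix (Fin 4) (Fin 4) K9) = toM X) : uOK X = true := by
  simp only [uOK, List.all_eq_true, List.mem_range, beq_iff_eq]
  intro k hk m hm
  have hg := g.2 (Pi.single ⟨k, hk⟩ 1) (Pi.single ⟨m, hm⟩ 1)
  simp only [Cfsg.hermForm, Matrix.mulVec_single_one, Fin.sum_univ_four] at hg
  have hcol : ∀ i j : Fin 4, (Cfsg.slToMat 4 K9 g.1) i j = dec (ent X i.val j.val) := by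
    intro i j
    show (g.1 : Matrix (Fin 4) (Fin 4) K9) i j = _
    rw [h]; rfl
  have he : ∀ a b : Nat, ent X a b < 9 := fun _ _ => ent_lt _ _ _
  refine dec_inj (fadd_lt _ _) (by split <;> norm_num) ?_
  simp only [dec_add, dec_mul, fadd_lt, fmul_lt, he]
  have h3 : ∀ x : K9, x ^ 3 = x * (x * x) := fun x => by ring
  simp only [Matrix.col_apply, hcol, h3] at hg
  refine hg.trans ?_
  have key : ∀ k m : Fin 4, ((Pi.single k 1 : Fin 4 → K9) 0 * (Pi.single m 1 : Fin 4 → K9) 0 ^ 3 +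
      (Pi.single k 1 : Fin 4 → K9) 1 * (Pi.single m 1 : Fin 4 → K9) 1 ^ 3 +
      (Pi.single k 1 : Fin 4 → K9) 2 * (Pi.single m 1 : Fin 4 → K9) 2 ^ 3 +
      (Pi.single k 1 : Fin 4 → K9) 3 * (Pi.single m 1 : Fin 4 → K9) 3 ^ 3) =
      dec (if k.val == m.val then 1 else 0) := by decide +kernel
  have hkey := key ⟨k, hk⟩ ⟨m, hm⟩
  simp only [h3, beq_iff_eq] at hkey
  exact hkey

/-- The centraliser in the projective group of a word with a cyclic vector. -/
theorem centralizer_word {w : List Nat} {p K L : Nat} (hp : p.Prime) (hp2 : p ≠ 2)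
    (h1 : powC (codeW w) p = oneC) (hcyc : cycOK (codeW w) K L = true)
    (henum : ∀ a b c d : Fin 9, uOK (cC (codeW w) ![a.val, b.val, c.val, d.val]) = true →
      det4 (toM (cC (codeW w) ![a.val, b.val, c.val, d.val])) = 1 →
      ((List.range p).any fun e => isScal (mC (powC (codeW w) e)
        (cC (codeW w) ![a.val, b.val, c.val, d.val]))) = true)
    {x : PSU4} (hx : x * toP (ev LS w) = toP (ev LS w) * x) : x ∈ Subgroup.zpowers (toP (ev LS w)) := by
  obtain ⟨X, rfl⟩ := QuotientGroup.mk'_surjective (Subgroup.center SU4) x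
  change toP X * toP (ev LS w) = toP (ev LS w) * toP X at hx
  set Mw := ev LS w with hMw
  have hpow : Mw ^ p = 1 := by
    refine Subtype.ext (Subtype.ext ?_)
    rw [SubmonoidClass.coe_pow, Matrix.SpecialLinearGroup.coe_pow, hMw, ev_code, ← toM_powC, h1, toM_one]
    rfl
  obtain ⟨ζ, hζ, hXM⟩ : ∃ ζ ∈ Subgroup.center SU4, X * Mw * X⁻¹ = Mw * ζ := by
    refine ⟨Mw⁻¹ * (X * Mw * X⁻¹), ?_, by group⟩
    rw [← QuotientGroup.eq_one_iff]
    show toP (Mw⁻¹ * (X * Mw * X⁻¹)) = 1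
    rw [map_mul, map_mul, map_mul, map_inv, map_inv, hx]
    group
  have hζp : ζ ^ p = 1 := by
    have h2 : (X * Mw * X⁻¹) ^ p = Mw ^ p * ζ ^ p := by
      rw [hXM]; exact (show Commute Mw ζ from (Subgroup.mem_center_iff.1 hζ Mw)).mul_pow p
    rw [conj_pow, hpow, one_mul, mul_one, mul_inv_cancel] at h2
    exact h2.symm
  have hζ1 : ζ = 1 := by
    obtain ⟨a, ha⟩ := (CfsgLib.Unitary.mem_center_SU_iff CfsgLib.J2.Perm.hF (by norm_num)).1 hζ
    have ha4 : a ^ 4 = 1 := by
      have hd : ((ζ.1 : Matrix (Fin 4) (Fin 4) K9)).det = 1 := ζ.1.2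
      rw [ha, Matrix.det_smul, Matrix.det_one, Fintype.card_fin, mul_one] at hd
      exact hd
    have hζ4 : ζ ^ 4 = 1 := by
      refine Subtype.ext (Subtype.ext ?_)
      rw [SubmonoidClass.coe_pow, Matrix.SpecialLinearGroup.coe_pow, ha, smul_pow, one_pow, ha4, one_smul]
      rfl
    have hco : Nat.Coprime p 4 := by
      rw [show 4 = 2 ^ 2 from rfl]
      exact Nat.Coprime.pow_right 2 ((Nat.coprime_primes hp Nat.prime_two).2 hp2)
    exact (pow_gcd_eq_one.2 ⟨hζp, hζ4⟩ : ζ ^ Nat.gcd p 4 = 1) |> fun h => by rwa [hco.gcd_eq_one, pow_one] at h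
  rw [hζ1, mul_one, mul_inv_eq_iff_eq_mul] at hXM
  set M : Matrix (Fin 4) (Fin 4) K9 := toM (codeW w) with hM
  set A : Matrix (Fin 4) (Fin 4) K9 := (X.1 : Matrix (Fin 4) (Fin 4) K9) with hA
  have hAM : A * M = M * A := by
    have h := congrArg (fun t : SU4 => (t.1 : Matrix (Fin 4) (Fin 4) K9)) hXM
    simpa only [Subgroup.coe_mul, Matrix.SpecialLinearGroup.coe_mul, hMw, ev_code] using h
  simp only [cycOK, Bool.and_eq_true, beq_iff_eq, List.all_eq_true, List.mem_range] at hcyc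
  obtain ⟨hKL, hK⟩ := hcyc
  have hKcol : ∀ i j : Fin 4, toM K i j = (M ^ j.val) i 0 := by
    intro i j
    rw [hM, ← toM_powC]
    show dec (ent K i.val j.val) = dec (ent _ i.val 0)
    rw [hK i.val i.isLt j.val j.isLt]
  have hKL' : toM K * toM L = 1 := by rw [← toM_mC, hKL, toM_one]
  let c : Fin 4 → Fin 9 := fun j =>
    Classical.choose (CfsgLib.SuzEleven.dec_surj ((toM L *ᵥ fun i => A i 0) j))
  have hc : ∀ j, dec (c j).val = (toM L *ᵥ fun i => A i 0) j :=
    fun j => Classical.choose_spec (CfsgLib.SuzEleven.dec_surj ((toM L *ᵥ fun i => A i 0) j))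
  set Y := cC (codeW w) ![(c 0).val, (c 1).val, (c 2).val, (c 3).val] with hY
  have hYM : toM Y = dec (c 0).val • (1 : Matrix (Fin 4) (Fin 4) K9) + dec (c 1).val • M +
      dec (c 2).val • (M * M) + dec (c 3).val • (M * (M * M)) := by
    rw [hY, toM_cC _ (fun j => by fin_cases j <;> exact Fin.isLt _)]
    rfl
  have hcol : ∀ i, toM Y i 0 = A i 0 := by
    intro i
    have h1' : (toM K *ᵥ (toM L *ᵥ fun i => A i 0)) i = A i 0 := by
      rw [Matrix.mulVec_mulVec, hKL', Matrix.one_mulVec]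
    rw [← h1', Matrix.mulVec, dotProduct, Fin.sum_univ_four, hKcol, hKcol, hKcol, hKcol, ← hc, ← hc, ← hc, ← hc,
      hYM]
    simp only [Matrix.add_apply, Matrix.smul_apply, smul_eq_mul, pow_succ', pow_zero, mul_one,
      show ((0 : Fin 4) : ℕ) = 0 from rfl, show ((1 : Fin 4) : ℕ) = 1 from rfl,
      show ((2 : Fin 4) : ℕ) = 2 from rfl, show ((3 : Fin 4) : ℕ) = 3 from rfl]
    ring
  have hcomm : ∀ (Z : Matrix (Fin 4) (Fin 4) K9), Z * M = M * Z → ∀ i j : Fin 4,
      (Z * toM K) i j = (M ^ j.val *ᵥ fun l => Z l 0) i := by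
    intro Z hZ i j
    have h2 : Z * M ^ j.val = M ^ j.val * Z := (show Commute Z M from hZ).pow_right _
    rw [show (M ^ j.val *ᵥ fun l => Z l 0) i = (M ^ j.val * Z) i 0 from rfl, ← h2, Matrix.mul_apply,
      Matrix.mul_apply]
    simp only [hKcol]
  have hYM' : toM Y * M = M * toM Y := by
    rw [hYM]
    simp only [add_mul, mul_add, Matrix.smul_mul, Matrix.mul_smul, one_mul, mul_one, Matrix.mul_assoc]
  have hAY : A = toM Y := by
    have h2 : A * toM K = toM Y * toM K := by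
      ext1 i j
      rw [hcomm A hAM, hcomm _ hYM', funext hcol]
    have h3 := congrArg (· * toM L) h2
    simpa only [Matrix.mul_assoc, hKL', mul_one] using h3
  have hdet : det4 (toM Y) = 1 := by
    rw [← hAY, det4, ← Cfsg.Agent.McLU43.det_four]
    exact X.1.2
  have he := henum _ _ _ _ (uOK_of hAY) hdet
  simp only [List.any_eq_true, List.mem_range] at he
  obtain ⟨e, -, he⟩ := he
  have hcen : Mw ^ e * X ∈ Subgroup.center SU4 := by
    simp only [isScal, List.any_eq_true, List.mem_range, beq_iff_eq] at he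
    obtain ⟨s, hs, hse⟩ := he
    refine Subgroup.mem_center_iff.2 fun g => Subtype.ext (Subtype.ext ?_)
    have hm : ((Mw ^ e * X).1 : Matrix (Fin 4) (Fin 4) K9) = dec s • 1 := by
      rw [Subgroup.coe_mul, Matrix.SpecialLinearGroup.coe_mul, SubmonoidClass.coe_pow,
        Matrix.SpecialLinearGroup.coe_pow, hMw, ev_code, ← toM_powC, ← hA, hAY, ← toM_mC, hse,
        toM_scC ⟨s, hs⟩]
    show (g.1 : Matrix (Fin 4) (Fin 4) K9) * ((Mw ^ e * X).1 : Matrix (Fin 4) (Fin 4) K9) =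
      ((Mw ^ e * X).1 : Matrix (Fin 4) (Fin 4) K9) * (g.1 : Matrix (Fin 4) (Fin 4) K9)
    rw [hm, Matrix.mul_smul, Matrix.smul_mul, mul_one, one_mul]
  have h2 : toP (Mw ^ e * X) = 1 := (QuotientGroup.eq_one_iff _).2 hcen
  rw [map_mul, map_pow] at h2
  show toP X ∈ _
  rw [eq_inv_of_mul_eq_one_right h2]
  exact inv_mem (Subgroup.pow_mem _ (Subgroup.mem_zpowers _) _)

/-- The centraliser of an element of order seven or five. -/
theorem centralizer_prime {b x : PSU4} (hb : orderOf b = 7 ∨ orderOf b = 5) (hx : x * b = b * x) :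
    x ∈ Subgroup.zpowers b := by
  haveI : Finite PSU4 := Nat.finite_of_card_ne_zero (by rw [card_PSU4]; norm_num)
  obtain ⟨w, p, hp, hp2, hbp, hcard, hw1, hwn, hcent⟩ : ∃ (w : List Nat) (p : ℕ), p.Prime ∧ p ≠ 2 ∧
      orderOf b = p ∧ (3265920 : ℕ).factorization p = 1 ∧ powC (codeW w) p = oneC ∧ noncentral w 0 = true ∧
      ∀ x : PSU4, x * toP (ev LS w) = toP (ev LS w) * x → x ∈ Subgroup.zpowers (toP (ev LS w)) := by
    rcases hb with h | h
    · exact ⟨seven, 7, by norm_num, by norm_num, h, by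
        rw [show (3265920 : ℕ) = 7 ^ 1 * 466560 by norm_num, Nat.factorization_mul (by norm_num) (by norm_num)]
        simp [Nat.factorization_eq_zero_of_not_dvd (by norm_num : ¬ 7 ∣ 466560),
          (by norm_num : Nat.Prime 7).factorization_self],
        seven_ok.1, seven_ok.2.1,
        fun x => centralizer_word (by norm_num) (by norm_num) seven_ok.1 seven_ok.2.2 seven_enum⟩
    · exact ⟨five, 5, by norm_num, by norm_num, h, by
        rw [show (3265920 : ℕ) = 5 ^ 1 * 653184 by norm_num, Nat.factorization_mul (by norm_num) (by norm_num)]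
        simp [Nat.factorization_eq_zero_of_not_dvd (by norm_num : ¬ 5 ∣ 653184),
          (by norm_num : Nat.Prime 5).factorization_self],
        five_ok.1, five_ok.2.1,
        fun x => centralizer_word (by norm_num) (by norm_num) five_ok.1 five_ok.2.2 five_enum⟩
  haveI : Fact p.Prime := ⟨hp⟩
  set c := toP (ev LS w) with hc
  have hcp : c ^ p = 1 := by
    rw [hc, ← map_pow]
    refine (congrArg toP ?_).trans (map_one _)
    refine Subtype.ext (Subtype.ext ?_)
    rw [SubmonoidClass.coe_pow, Matrix.SpecialLinearGroup.coe_pow, ev_code, ← toM_powC, hw1, toM_one]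
    rfl
  have hc1 : c ≠ 1 := by
    rw [hc, ← ev_LP]
    exact LP_ne hwn
  have hoc : orderOf c = p := orderOf_eq_prime hcp hc1
  have mk : ∀ {u : PSU4}, orderOf u = p → ∃ P : Sylow p PSU4, (P : Subgroup PSU4) = Subgroup.zpowers u :=
    fun {u} hu => ⟨Sylow.ofCard (Subgroup.zpowers u) (by rw [Nat.card_zpowers, hu, card_PSU4, hcard, pow_one]), rfl⟩
  obtain ⟨P, hP⟩ := mk hbp
  obtain ⟨P', hP'⟩ := mk hoc
  obtain ⟨g, hg⟩ := MulAction.exists_smul_eq PSU4 P P'
  have hgb : g * b * g⁻¹ ∈ Subgroup.zpowers c := by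
    rw [← hP', ← hg, Sylow.coe_subgroup_smul]
    exact Subgroup.mem_map_of_mem (MulAut.conj g).toMonoidHom (hP ▸ Subgroup.mem_zpowers b)
  have hgen : Subgroup.zpowers (g * b * g⁻¹) = Subgroup.zpowers c := by
    refine Subgroup.eq_of_le_of_card_ge (Subgroup.zpowers_le.2 hgb) ?_
    rw [Nat.card_zpowers, Nat.card_zpowers, hoc,
      show g * b * g⁻¹ = MulAut.conj g b from rfl, MulEquiv.orderOf_eq, hbp]
  have hcb : c ∈ Subgroup.zpowers (g * b * g⁻¹) := hgen ▸ Subgroup.mem_zpowers c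
  have hxc : g * x * g⁻¹ * c = c * (g * x * g⁻¹) := by
    obtain ⟨n, hn⟩ := Subgroup.mem_zpowers_iff.1 hcb
    have h1 : Commute (g * x * g⁻¹) (g * b * g⁻¹) := by
      show g * x * g⁻¹ * (g * b * g⁻¹) = g * b * g⁻¹ * (g * x * g⁻¹)
      rw [show g * x * g⁻¹ * (g * b * g⁻¹) = g * (x * b) * g⁻¹ by group, hx]; group
    exact hn ▸ (h1.zpow_right n).eq
  have h := hcent _ hxc
  rw [← hgen] at h
  obtain ⟨n, hn⟩ := Subgroup.mem_zpowers_iff.1 h
  refine Subgroup.mem_zpowers_iff.2 ⟨n, ?_⟩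
  rw [conj_zpow] at hn
  exact mul_left_cancel (mul_right_cancel hn)

end CfsgLib.SuzSeven
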