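import Cfsg.Agent.SuzSeven.Outer
import Cfsg.Agent.SuzSeven.Split
import Cfsg.Agent.SuzSeven.UFacts
import Cfsg.Agent.SuzEleven.Elem

/-!
The centraliser of the four group in the centraliser of the element of order three.
-/

set_option autoImplicit false
set_option linter.style.haveILetI false
set_option maxRecDepth 100000

namespace CfsgLib.SuzSeven

open CfsgLib CfsgLib.SuzInvol CfsgLib.SuzThree Subgroup
open CfsgLib.SuzEleven (cX mem_cX card_PSU4)
open Cfsg.Agent.McLU43 (K9)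

local notation "PSU4" => Cfsg.PSU 4 K9 3

/-- The normaliser of a self-centralising Sylow subgroup of order seven. -/
theorem seven_norm {K : Type*} [Group K] [Finite K] {r : ℕ} (hK : Nat.card K = 7 * r) (h7 : ¬ 7 ∣ r)
    (hcent : ∀ b x : K, orderOf b = 7 → x * b = b * x → x ∈ zpowers b) (P : Sylow 7 K) :
    Nat.card P = 7 ∧ ∃ e n : ℕ, e ∣ 6 ∧ Nat.card (normalizer ((P : Subgroup K) : Set K)) = 7 * e ∧
      n * e = r ∧ n % 7 = 1 := by
  haveI : Fact (Nat.Prime 7) := ⟨by norm_num⟩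
  have hr : r ≠ 0 := fun e => h7 (e ▸ dvd_zero 7)
  have hP : Nat.card P = 7 := by
    rw [P.card_eq_multiplicity, hK, Nat.factorization_mul (by norm_num) hr, Finsupp.add_apply,
      Nat.Prime.factorization_self (by norm_num), Nat.factorization_eq_zero_of_not_dvd h7]
    norm_num
  refine ⟨hP, ?_⟩
  obtain ⟨⟨b, hb⟩, hb7⟩ := exists_prime_orderOf_dvd_card' (G := (P : Subgroup K)) 7 (dvd_of_eq hP.symm)
  rw [Subgroup.orderOf_mk] at hb7
  have hPb : zpowers b = (P : Subgroup K) :=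
    eq_of_le_of_card_ge (zpowers_le.2 hb) (by rw [Nat.card_zpowers, hb7]; exact hP.le)
  have hPC : (P : Subgroup K) ≤ centralizer ((P : Subgroup K) : Set K) := by
    rw [← hPb, zpowers_eq_closure, centralizer_closure, closure_le]
    simp [mem_centralizer_singleton_iff]
  set N := normalizer ((P : Subgroup K) : Set K) with hN
  set φ := normalizerMonoidHom (P : Subgroup K) with hφ
  have hker : Nat.card φ.ker = 7 := by
    rw [hφ, normalizerMonoidHom_ker, Nat.card_congr (subgroupOfEquivOfLe (centralizer_le_normalizer _)).toEquiv]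
    refine le_antisymm ?_ (hP.ge.trans (Nat.le_of_dvd Nat.card_pos (card_dvd_of_le hPC)))
    refine le_trans (Nat.le_of_dvd Nat.card_pos (card_dvd_of_le fun x hx => ?_)) hP.le
    rw [← hPb]
    exact hcent b x hb7 (mem_centralizer_iff.1 hx b hb).symm
  haveI : IsCyclic (P : Subgroup K) := isCyclic_of_prime_card hP
  have hrange : Nat.card φ.range ∣ 6 := by
    have h := card_subgroup_dvd_card φ.range
    rwa [IsCyclic.card_mulAut, hP, Nat.totient_prime (by norm_num)] at h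
  have hNcard : Nat.card N = 7 * Nat.card φ.range := by
    rw [card_eq_card_quotient_mul_card_subgroup φ.ker, hker,
      Nat.card_congr (QuotientGroup.quotientKerEquivRange φ).toEquiv, mul_comm]
  refine ⟨_, Nat.card (Sylow 7 K), hrange, hNcard, ?_, card_sylow_modEq_one 7 K⟩
  have h := card_mul_index N
  rw [show N.index = Nat.card (Sylow 7 K) from P.card_eq_index_normalizer.symm, hNcard, hK] at h
  rw [mul_comm]
  exact Nat.eq_of_mul_eq_mul_left (by norm_num : 0 < 7) (by rw [← mul_assoc, h])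

variable {G : Type*} [Group G] [Finite G] {z : G} {D : Dat z} {B : Base D} {y t : G}

omit [Finite G] in
theorem pow_y_comm {x : G} (hx : x ∈ cX y) (k : ℕ) : x * y ^ k = y ^ k * x :=
  ((show Commute x y from mem_cX.1 hx).pow_right k).eq

omit [Finite G] in
theorem IsFour.conj {V : Subgroup G} (hV : IsFour z y V) {c : G} (hc : c * y * c⁻¹ = y ∨ c * y * c⁻¹ = y⁻¹) :
    IsFour z y (V.map (MulAut.conj c).toMonoidHom) := by
  have hinv : ∀ v ∈ V, y⁻¹ * v * y ∈ V ∧ (y⁻¹ * v * y = v → v = 1) := by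
    intro v hv
    haveI : Finite V := Nat.finite_of_card_ne_zero (by rw [hV.card]; norm_num)
    let f : V → V := fun v => ⟨y * v * y⁻¹, hV.norm v v.2⟩
    have hf : Function.Injective f := fun a b e =>
      Subtype.ext (by simpa [f] using congrArg Subtype.val e)
    obtain ⟨w, hw⟩ := Finite.injective_iff_surjective.1 hf ⟨v, hv⟩
    have hw' : y * (w : G) * y⁻¹ = v := congrArg Subtype.val hw
    refine ⟨?_, fun e => hV.fpf v hv ?_⟩
    · convert w.2 using 1
      rw [← hw']; group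
    · calc y * v * y⁻¹ = y * (y⁻¹ * v * y) * y⁻¹ := by rw [e]
        _ = v := by group
  have key : ∀ v, y * (c * v * c⁻¹) * y⁻¹ = c * ((c⁻¹ * y * c) * v * (c⁻¹ * y * c)⁻¹) * c⁻¹ := fun v => by group
  have hcy : c⁻¹ * y * c = y ∨ c⁻¹ * y * c = y⁻¹ := by
    rcases hc with e | e
    · left
      calc c⁻¹ * y * c = c⁻¹ * (c * y * c⁻¹) * c := by rw [e]
        _ = y := by group
    · right
      calc c⁻¹ * y * c = (c⁻¹ * (c * y * c⁻¹) * c)⁻¹ := by rw [e]; group
        _ = y⁻¹ := by group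
  have hstep : ∀ v ∈ V, (c⁻¹ * y * c) * v * (c⁻¹ * y * c)⁻¹ ∈ V ∧
      ((c⁻¹ * y * c) * v * (c⁻¹ * y * c)⁻¹ = v → v = 1) := by
    intro v hv
    rcases hcy with e | e <;> rw [e]
    · exact ⟨hV.norm v hv, hV.fpf v hv⟩
    · rw [inv_inv]; exact hinv v hv
  refine ⟨by rw [card_map_of_injective (MulAut.conj c).injective, hV.card], ?_, ?_, ?_, ?_⟩
  · rintro _ ⟨v, hv, rfl⟩
    show (MulAut.conj c) v * (MulAut.conj c) v = 1
    rw [← map_mul, hV.sq v hv, map_one]
  · rintro _ ⟨v, hv, rfl⟩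
    exact ⟨_, (hstep v hv).1, (key v).symm⟩
  · rintro _ ⟨v, hv, rfl⟩ e
    have e' : y * (c * v * c⁻¹) * y⁻¹ = c * v * c⁻¹ := e
    rw [key] at e'
    show c * v * c⁻¹ = 1
    rw [(hstep v hv).2 (mul_left_cancel (mul_right_cancel e')), mul_one, mul_inv_cancel]
  · rintro _ ⟨v, hv, rfl⟩ h1 h2
    have hv1 : v ≠ 1 := fun e => h1 (by rw [e]; exact map_one _)
    exact hV.cls v hv hv1 (h2.trans (isConj_iff.2 ⟨c, rfl⟩).symm)

variable (T : Three D y) (hS : Seed B y t)
include T hS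

/-- The centraliser of the four group and the element of order three. -/
def Seed.H : Subgroup G := cX y ⊓ centralizer (hS.V0 T : Set G)

theorem Seed.mem_H {x : G} : x ∈ hS.H T ↔ x * y = y * x ∧ x ∈ centralizer (hS.V0 T : Set G) :=
  mem_inf.trans (and_congr_left' mem_cX)

theorem Seed.V0_comm {v w : G} (hv : v ∈ hS.V0 T) (hw : w ∈ hS.V0 T) : v * w = w * v := by
  have h := hS.isFour T
  have e1 := inv_eq_of_mul_eq_one_right (h.sq v hv)
  have e2 := inv_eq_of_mul_eq_one_right (h.sq w hw)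
  have e3 := inv_eq_of_mul_eq_one_right (h.sq _ (mul_mem hv hw))
  rw [mul_inv_rev, e1, e2] at e3
  exact e3.symm

theorem Seed.S_le_H : hS.S T ≤ hS.H T := fun _ hx =>
  (hS.mem_H T).2 ⟨((mem_Kc T).1 hx.1).2, hx.2⟩

theorem Seed.z_H : z ∈ hS.H T :=
  (hS.mem_H T).2 ⟨(mem_centralizer_singleton_iff.1 T.mem).symm,
    mem_centralizer_iff.2 fun v hv => mem_centralizer_singleton_iff.1 (hS.V0_le T hv)⟩

theorem Seed.V0_inf_H : hS.V0 T ⊓ hS.H T = ⊥ := by
  refine le_bot_iff.1 fun v hv => mem_bot.2 ((hS.isFour T).fpf v hv.1 ?_)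
  rw [← ((hS.mem_H T).1 hv.2).1, mul_inv_cancel_right]

theorem Seed.y_not : y ∉ centralizer (hS.V0 T : Set G) := fun h => by
  refine (hS.distinct T).1 ((hS.isFour T).fpf t (hS.t_mem T) ?_)
  rw [← mem_centralizer_iff.1 h t (hS.t_mem T), mul_inv_cancel_right]

theorem Seed.pow_not {k : Fin 3} (h : y ^ k.val ∈ centralizer (hS.V0 T : Set G)) : k = 0 := by
  fin_cases k
  · rfl
  · exact absurd (by simpa using h) (hS.y_not T)
  · refine absurd ?_ (hS.y_not T)
    have h2 := mul_mem h h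
    rw [← pow_add] at h2
    rwa [show (2 + 2 : ℕ) = 3 + 1 from rfl, pow_add, T.three, one_mul, pow_one] at h2

variable {π : cX y →* PSU4} (P : SuzEleven.Pi T π)
include P

/-- An involution of the centraliser of a four group moves to the central involution with the group. -/
theorem Seed.move {V : Subgroup G} (hV : IsFour z y V) {x : G} (hx : x ∈ cX y) (hx2 : x * x = 1) (hx1 : x ≠ 1)
    (hxV : ∀ v ∈ V, x * v = v * x) :
    ∃ c ∈ cX y, c * z * c⁻¹ = x ∧ (hS.V0 T).map (MulAut.conj c).toMonoidHom = V := by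
  obtain ⟨c0, hc0, e0⟩ := P.cls x hx hx2 hx1
  have hV' := hV.conj (c := c0) (Or.inl (by rw [mem_cX.1 hc0, mul_inv_cancel_right]))
  obtain ⟨c1, hc1, e1⟩ := hS.exists_conj T hV' (by
    rintro _ ⟨v, hv, rfl⟩
    rw [mem_centralizer_singleton_iff, ← e0]
    show c0 * v * c0⁻¹ * (c0 * x * c0⁻¹) = c0 * x * c0⁻¹ * (c0 * v * c0⁻¹)
    calc c0 * v * c0⁻¹ * (c0 * x * c0⁻¹) = c0 * (v * x) * c0⁻¹ := by group
      _ = c0 * (x * v) * c0⁻¹ := by rw [hxV v hv]
      _ = _ := by group)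
  obtain ⟨hc1z, hc1y⟩ := (mem_Kc T).1 hc1
  refine ⟨c0⁻¹ * c1, mul_mem (inv_mem hc0) (mem_cX.2 hc1y), ?_, ?_⟩
  · calc c0⁻¹ * c1 * z * (c0⁻¹ * c1)⁻¹ = c0⁻¹ * (c1 * z) * c1⁻¹ * c0 := by group
      _ = c0⁻¹ * (z * c1) * c1⁻¹ * c0 := by rw [mem_centralizer_singleton_iff.1 hc1z]
      _ = c0⁻¹ * (c0 * x * c0⁻¹) * c0 := by rw [e0]; group
      _ = x := by group
  · calc (hS.V0 T).map (MulAut.conj (c0⁻¹ * c1)).toMonoidHom
        = ((hS.V0 T).map (MulAut.conj c1).toMonoidHom).map (MulAut.conj c0⁻¹).toMonoidHom := by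
          rw [Subgroup.map_map]; congr 1; ext a; simp [mul_assoc]
      _ = V := by
          rw [e1, Subgroup.map_map]; ext a; simp [mul_assoc]

omit P in
/-- The stabiliser of the four group in the centraliser of the element of order three. -/
theorem Seed.norm_split {c : G} (hc : c ∈ cX y) (hcV : ∀ v ∈ hS.V0 T, c * v * c⁻¹ ∈ hS.V0 T) :
    ∃ k : ℕ, (y ^ k)⁻¹ * c ∈ hS.H T := by
  obtain ⟨a, b, c', d⟩ := hS.relations T
  obtain ⟨k, hk⟩ : ∃ k : ℕ, c * t * c⁻¹ = y ^ k * t * (y ^ k)⁻¹ := by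
    rcases (hS.mem_V0 T).1 (hcV t (hS.t_mem T)) with e | e | e | e
    · exact absurd (conj_eq_one_iff.1 e) (hS.distinct T).1
    · exact ⟨0, by rw [e, pow_zero, one_mul, inv_one, mul_one]⟩
    · exact ⟨1, by rw [e, pow_one]⟩
    · refine ⟨2, ?_⟩
      rw [e, ← d, pow_succ, pow_one]
      group
  have hyk : (y ^ k)⁻¹ * c ∈ cX y :=
    mul_mem (inv_mem (pow_mem (mem_cX.2 rfl) k)) hc
  refine ⟨k, (hS.mem_H T).2 ⟨mem_cX.1 hyk, (hS.mem_cent T).2 ?_⟩⟩
  obtain ⟨h, hh⟩ : ∃ h, h = (y ^ k)⁻¹ * c := ⟨_, rfl⟩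
  rw [← hh]
  have h1 : h * t = t * h := by
    calc h * t = (y ^ k)⁻¹ * (c * t * c⁻¹) * c := by rw [hh]; group
      _ = t * h := by rw [hk, hh]; group
  refine ⟨h1, ?_⟩
  have hy : h * y = y * h := hh ▸ mem_cX.1 hyk
  calc h * (y * t * y⁻¹) = (h * y) * t * y⁻¹ := by group
    _ = y * (h * t) * y⁻¹ := by rw [hy]; group
    _ = y * t * (h * y⁻¹) := by rw [h1]; group
    _ = y * t * (y⁻¹ * h) := by rw [(show Commute h y from hy).inv_right.eq]
    _ = y * t * y⁻¹ * h := by group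

/-- All involutions are conjugate. -/
theorem Seed.one_class {x : G} (hx : x ∈ hS.H T) (hx2 : x * x = 1) (hx1 : x ≠ 1) :
    ∃ h ∈ hS.H T, h * z * h⁻¹ = x := by
  obtain ⟨hxy, hxV⟩ := (hS.mem_H T).1 hx
  obtain ⟨c, hc, hcz, hcV⟩ := hS.move T P (hS.isFour T) (mem_cX.2 hxy) hx2 hx1
    (fun v hv => (mem_centralizer_iff.1 hxV v hv).symm)
  obtain ⟨k, hk⟩ := hS.norm_split T hc (fun v hv => by rw [← hcV]; exact ⟨v, hv, rfl⟩)
  refine ⟨_, hk, ?_⟩
  calc (y ^ k)⁻¹ * c * z * ((y ^ k)⁻¹ * c)⁻¹ = (y ^ k)⁻¹ * (c * z * c⁻¹) * y ^ k := by group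
    _ = (y ^ k)⁻¹ * (x * y ^ k) := by rw [hcz, mul_assoc]
    _ = x := by rw [pow_y_comm (mem_cX.2 hxy) k]; group

omit P in
theorem Seed.H_le : hS.H T ≤ cX y := inf_le_left

/-- The projection restricted to the centraliser of the four group is injective. -/
theorem Seed.π_inj : Function.Injective (π.comp (inclusion (hS.H_le T))) := by
  refine (injective_iff_map_eq_one _).2 fun x hx => ?_
  obtain ⟨e, he⟩ := SuzThree.mem_zpowers_three T ((P.ker _).1 hx)
  have he' : (x : G) = y ^ e.val := he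
  have h0 := hS.pow_not T (k := e) (he' ▸ x.2.2)
  exact Subtype.ext (by rw [he', h0, Fin.val_zero, pow_zero]; rfl)

theorem Seed.orderOf_π (b : hS.H T) : orderOf (π ⟨b, hS.H_le T b.2⟩) = orderOf b :=
  orderOf_injective (π.comp (inclusion (hS.H_le T))) (hS.π_inj T P) b

theorem Seed.cent_prime {b x : hS.H T} (hb : orderOf b = 7 ∨ orderOf b = 5) (hx : x * b = b * x) :
    x ∈ zpowers b := by
  have h := centralizer_prime (b := π.comp (inclusion (hS.H_le T)) b) (x := π.comp (inclusion (hS.H_le T)) x)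
    (by rw [orderOf_injective _ (hS.π_inj T P)]; exact hb) (by rw [← map_mul, hx, map_mul])
  obtain ⟨n, hn⟩ := mem_zpowers_iff.1 h
  exact mem_zpowers_iff.2 ⟨n, hS.π_inj T P (by rw [map_zpow, hn])⟩

/-- The configuration. -/
theorem Seed.conf : Conf (K := hS.H T) ⟨z, hS.z_H T⟩ ((hS.S T).subgroupOf (hS.H T))
    ((Ek B 1).subgroupOf (hS.H T)) ((Ek B 2).subgroupOf (hS.H T)) ((Zv B).subgroupOf (hS.H T)) := by
  have hE1 : (Ek B 1) ≤ hS.S T := Ek_le_S (l := 1) (List.Mem.head _) T hS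
  have hE2 : (Ek B 2) ≤ hS.S T := Ek_le_S (l := 2) (List.Mem.tail _ (List.Mem.head _)) T hS
  have hSH := hS.S_le_H T
  have hc : ∀ {A : Subgroup G}, A ≤ hS.H T → Nat.card (A.subgroupOf (hS.H T)) = Nat.card A :=
    fun hA => Nat.card_congr (subgroupOfEquivOfLe hA).toEquiv
  have hnorm : ∀ l, Ek B l ≤ hS.S T → ∀ s ∈ hS.S T, ∀ e ∈ Ek B l, s * e * s⁻¹ ∈ Ek B l := by
    intro l _ s hs e he
    obtain ⟨i, j, hr⟩ := (hS.mem_S T).1 hs
    obtain ⟨a, b, hr'⟩ := he
    have h := (hr.mul hr').mul hr.sq_zero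
    refine ⟨a, b, ?_⟩
    convert h using 1 <;>
      · rw [add_comm (kF _) (eF l _), add_assoc, add_self, add_zero]
  refine ⟨?_, by rw [hc hSH, hS.card_S T], by rw [hc (hE1.trans hSH), card_Ek (List.Mem.head _)],
    by rw [hc (hE2.trans hSH), card_Ek (List.Mem.tail _ (List.Mem.head _))],
    by rw [hc (((Zv_le_Ek 1).trans hE1).trans hSH), card_Zv],
    fun e he => Subtype.ext (Ek_sq (List.Mem.head _) he),
    fun e he => Subtype.ext (Ek_sq (List.Mem.tail _ (List.Mem.head _)) he),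
    fun _ h => hE1 h, fun _ h => hE2 h, ?_, (z_Zv (B := B) : z ∈ Zv B), fun e => D.pre.gen.ne_one (congrArg Subtype.val e), ?_, ?_, ?_,
    fun s hs e he => hnorm 1 hE1 s hs e he, fun s hs e he => hnorm 2 hE2 s hs e he, ?_⟩
  · ext x
    rw [mem_centralizer_singleton_iff, mem_subgroupOf, Seed.S, mem_inf, mem_Kc T]
    constructor
    · intro e
      exact ⟨⟨mem_centralizer_singleton_iff.2 (congrArg Subtype.val e), ((hS.mem_H T).1 x.2).1⟩,
        ((hS.mem_H T).1 x.2).2⟩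
    · rintro ⟨⟨e, -⟩, -⟩
      exact Subtype.ext (mem_centralizer_singleton_iff.1 e)
  · rw [← Ek_inf]; ext x; simp [mem_subgroupOf]
  · intro x hx hxx
    exact hS.involution T hx (congrArg Subtype.val hxx)
  · intro e he x hx hxZ hcm
    exact Ek_cross (List.Mem.head _) he hx hxZ (congrArg Subtype.val hcm)
  · intro i hi x hx
    exact Subtype.ext (hS.Zv_central T hi hx)
  · intro x hx2 hx1
    obtain ⟨h, hh, e⟩ := hS.one_class T P x.2 (congrArg Subtype.val hx2) (fun e => hx1 (Subtype.ext e))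
    exact isConj_iff.2 ⟨⟨h, hh⟩, Subtype.ext e⟩

theorem Seed.h53 (a b : hS.H T) (ha : orderOf a = 5) (hb : orderOf b = 3) : a * b ≠ b * a := fun e => by
  have h := hS.cent_prime T P (Or.inr ha) e.symm
  have := orderOf_dvd_natCard (⟨b, h⟩ : zpowers a)
  rw [Subgroup.orderOf_mk, Nat.card_zpowers, ha, hb] at this
  norm_num at this

theorem Seed.card_H : Nat.card (hS.H T) = 20160 ∧
    ∃ P : Sylow 7 (hS.H T), Nat.card P = 7 ∧ Nat.card (normalizer ((P : Subgroup (hS.H T)) : Set (hS.H T))) = 21 := by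
  obtain ⟨C, m, hm, hcard⟩ : ∃ (_ : True) (m : ℕ), m % 16 = 5 ∧ Nat.card (hS.H T) = 960 * m :=
    ⟨trivial, _, (hS.conf T P).index_mod, (hS.conf T P).card_eq⟩
  have hdvd : 960 * m ∣ 960 * 3402 := by
    rw [← hcard, show 960 * 3402 = 3265920 from rfl, ← card_PSU4]
    exact card_dvd_of_injective _ (hS.π_inj T P)
  have hm' : m ∣ 3402 := Nat.dvd_of_mul_dvd_mul_left (by norm_num) hdvd
  have key : ∀ i : Fin 213, 3402 % (16 * i.val + 5) = 0 → i.val = 1 ∨ i.val = 106 := by decide +kernel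
  have hle := Nat.le_of_dvd (by norm_num) hm'
  have hm2 : m = 21 ∨ m = 1701 := by
    obtain ⟨i, rfl⟩ : ∃ i, m = 16 * i + 5 := ⟨m / 16, by omega⟩
    rcases key ⟨i, by omega⟩ (Nat.mod_eq_zero_of_dvd hm') with e | e <;> simp only at e <;> omega
  obtain ⟨Q⟩ : Nonempty (Sylow 7 (hS.H T)) := inferInstance
  have hcent : ∀ b x : hS.H T, orderOf b = 7 → x * b = b * x → x ∈ zpowers b :=
    fun b x hb hx => hS.cent_prime T P (Or.inl hb) hx
  rcases hm2 with rfl | rfl
  · obtain ⟨hQ, e, n, he, hN, hne, hn⟩ := seven_norm (r := 2880) (by rw [hcard]) (by norm_num) hcent Q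
    refine ⟨by rw [hcard], Q, hQ, ?_⟩
    have := Nat.le_of_dvd (by norm_num) he
    interval_cases e <;> omega
  · obtain ⟨hQ, e, n, he, hN, hne, hn⟩ := seven_norm (r := 233280) (by rw [hcard]) (by norm_num) hcent Q
    have := Nat.le_of_dvd (by norm_num) he
    interval_cases e <;> omega

end CfsgLib.SuzSeven
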