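import Cfsg.Agent.SuzSeven.Seven
import Cfsg.Agent.Char.FrobeniusKernel

/-!
Nothing centralising the element of order seven inverts the element of order three.
-/

set_option autoImplicit false
set_option linter.style.haveILetI false
set_option maxRecDepth 100000

namespace CfsgLib.SuzSeven

open CfsgLib CfsgLib.SuzInvol CfsgLib.SuzThree Subgroup
open CfsgLib.SuzEleven (cX mem_cX)
open Cfsg.Agent.McLU43 (K9)

local notation "PSU4" => Cfsg.PSU 4 K9 3

/-- A group of order divisible by two and seven, with small normaliser of a subgroup of order seven, cannot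
have all involution centralisers two-groups with a single involution. -/
theorem no_single {R : Type*} [Group R] [Finite R] {x b : R} (hx2 : x * x = 1) (hx1 : x ≠ 1) (hb : orderOf b = 7)
    (hsyl : ¬ 7 ^ 2 ∣ Nat.card R)
    (hodd : Odd (Nat.card (normalizer ((zpowers b : Subgroup R) : Set R))))
    (h2 : IsPGroup 2 (centralizer ({x} : Set R))) (huniq : ∀ a : R, a * a = 1 → a ≠ 1 → a * x = x * a → a = x) :
    False := by
  haveI : Fact (Nat.Prime 2) := ⟨Nat.prime_two⟩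
  haveI : Fact (Nat.Prime 7) := ⟨by norm_num⟩
  set C := centralizer ({x} : Set R) with hC
  have hpow : ∀ h ∈ C, h ≠ 1 → ∃ k : ℕ, h ^ k = x := by
    intro h hh h1
    obtain ⟨k, hk⟩ := h2 ⟨h, hh⟩
    have hk' : h ^ 2 ^ k = 1 := congrArg Subtype.val hk
    clear hk
    induction k with
    | zero => rw [pow_zero, pow_one] at hk'; exact absurd hk' h1
    | succ k ih =>
      by_cases he : h ^ 2 ^ k = 1
      · exact ih he
      · refine ⟨2 ^ k, huniq _ (by rw [← pow_add, ← two_mul, ← pow_succ', hk']) he ?_⟩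
        exact ((show Commute h x from mem_centralizer_singleton_iff.1 hh).pow_left _).eq
  have hTI : ∀ g : R, g ∉ C → ∀ h ∈ C, g * h * g⁻¹ ∈ C → h = 1 := by
    intro g hg h hh hgh
    by_contra h1
    obtain ⟨k, hk⟩ := hpow h hh h1
    refine hg (mem_centralizer_singleton_iff.2 (mul_inv_eq_iff_eq_mul.1 (huniq (g * x * g⁻¹) ?_ ?_ ?_)))
    · rw [show g * x * g⁻¹ * (g * x * g⁻¹) = g * (x * x) * g⁻¹ by group, hx2]; group
    · exact fun e => hx1 (conj_eq_one_iff.1 e)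
    · have hc : Commute ((g * h * g⁻¹) ^ k) x :=
        (show Commute (g * h * g⁻¹) x from mem_centralizer_singleton_iff.1 hgh).pow_left k
      rw [conj_pow, hk] at hc
      exact hc.eq
  obtain ⟨K, hKn, hKC, hKC', hcompl, -⟩ := CfsgLib.Char.exists_frobenius_kernel C hTI
  have hcard := hcompl.card_mul_card
  obtain ⟨n, hn⟩ := IsPGroup.iff_card.1 h2
  have hidx : K.index = 2 ^ n := by
    have := card_mul_index K
    rw [← hcard, hn] at this
    exact Nat.eq_of_mul_eq_mul_left Nat.card_pos this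
  have hbK : b ∈ K := by
    haveI := hKn
    have h1 : (QuotientGroup.mk b : R ⧸ K) ^ 7 = 1 := by
      rw [← QuotientGroup.mk_pow, ← hb, pow_orderOf_eq_one, QuotientGroup.mk_one]
    have h3 : (QuotientGroup.mk b : R ⧸ K) ^ (2 ^ n) = 1 := by rw [← hidx, index_eq_card]; exact pow_card_eq_one'
    have hco : Nat.gcd 7 (2 ^ n) = 1 := Nat.Coprime.pow_right n (by norm_num)
    have := pow_gcd_eq_one.2 ⟨h1, h3⟩
    rw [hco, pow_one, QuotientGroup.eq_one_iff] at this
    exact this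
  have hle : zpowers b ≤ K := zpowers_le.2 hbK
  have h7 : (Nat.card K).factorization 7 = 1 := by
    have hd : 7 ∣ Nat.card K := by
      rw [← hb, ← Nat.card_zpowers]; exact card_dvd_of_le hle
    refine le_antisymm ?_ ((Nat.Prime.dvd_iff_one_le_factorization (by norm_num) Nat.card_pos.ne').1 hd)
    by_contra hlt
    exact hsyl (((pow_dvd_pow 7 (by omega : 2 ≤ (Nat.card K).factorization 7)).trans (Nat.ordProj_dvd _ _)).trans
      (card_subgroup_dvd_card K))
  haveI := hKn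
  let P : Sylow 7 K := Sylow.ofCard ((zpowers b).subgroupOf K) (by
    rw [Nat.card_congr (subgroupOfEquivOfLe hle).toEquiv, Nat.card_zpowers, hb, h7, pow_one])
  have htop := Sylow.normalizer_sup_eq_top P
  have hmap : ((P : Subgroup K).map K.subtype) = zpowers b := by
    rw [Sylow.coe_ofCard, subgroupOf_map_subtype, inf_eq_left.2 hle]
  rw [hmap] at htop
  set N := normalizer ((zpowers b : Subgroup R) : Set R) with hN
  have hxN : ∃ a ∈ N, ∃ k ∈ K, a * k = x := by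
    have := (Subgroup.mul_normal N K) ▸ (htop ▸ mem_top x : x ∈ ((N ⊔ K : Subgroup R) : Set R))
    obtain ⟨a, ha, k, hk, e⟩ := Set.mem_mul.1 this
    exact ⟨a, ha, k, hk, e⟩
  obtain ⟨a, ha, k, hk, rfl⟩ := hxN
  have hxK : a * k ∉ K := fun h => hx1 (mem_bot.1 (hKC ▸ mem_inf.2 ⟨h, mem_centralizer_singleton_iff.2 rfl⟩))
  refine hxK (mul_mem ?_ hk)
  obtain ⟨j, hj⟩ := hodd
  have h1 : (QuotientGroup.mk a : R ⧸ K) ^ 2 = 1 := by
    rw [show (QuotientGroup.mk a : R ⧸ K) = QuotientGroup.mk (a * k) by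
      rw [QuotientGroup.mk_mul, (QuotientGroup.eq_one_iff k).2 hk, mul_one], pow_two, ← QuotientGroup.mk_mul, hx2,
      QuotientGroup.mk_one]
  have h3 : (QuotientGroup.mk a : R ⧸ K) ^ Nat.card N = 1 := by
    rw [← QuotientGroup.mk_pow,
      show a ^ Nat.card N = 1 from congrArg Subtype.val (pow_card_eq_one' (x := (⟨a, ha⟩ : N))), QuotientGroup.mk_one]
  have := pow_gcd_eq_one.2 ⟨h1, h3⟩
  rw [show Nat.gcd 2 (Nat.card N) = 1 by
    rw [hj, Nat.gcd_comm]; exact Nat.Coprime.symm (by rw [Nat.coprime_two_left]; exact ⟨j, rfl⟩), pow_one,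
    QuotientGroup.eq_one_iff] at this
  exact this

variable {G : Type*} [Group G] [Finite G] {z : G} {D : Dat z} {B : Base D} {y t : G}
variable (T : Three D y) (hS : Seed B y t) {π : cX y →* PSU4} (P : SuzEleven.Pi T π)
variable {b : hS.H T} (hb : IsSeven T hS b)
include T hS P hb

theorem IsSeven.no_invert {g : G} (hgb : g * b * g⁻¹ = b) : g * y * g⁻¹ ≠ y⁻¹ := by
  intro hgy
  haveI : Fact (Nat.Prime 2) := ⟨Nat.prime_two⟩
  -- an involution
  obtain ⟨a, c, hc, hac⟩ := Nat.exists_eq_two_pow_mul_odd (orderOf_pos g).ne'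
  obtain ⟨σ, hσd⟩ : ∃ σ, σ = g ^ c := ⟨_, rfl⟩
  have hσb : σ * b * σ⁻¹ = b := by
    have h1 : Commute g (b : G) := mul_inv_eq_iff_eq_mul.1 hgb
    rw [hσd, (h1.pow_left c).eq, mul_inv_cancel_right]
  have hσy : σ * y * σ⁻¹ = y⁻¹ := by
    obtain ⟨j, rfl⟩ := hc
    have hstep : ∀ n : ℕ, g ^ (2 * n) * y * (g ^ (2 * n))⁻¹ = y := by
      intro n
      induction n with
      | zero => simp
      | succ n ih =>
        calc g ^ (2 * (n + 1)) * y * (g ^ (2 * (n + 1)))⁻¹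
            = g * (g * (g ^ (2 * n) * y * (g ^ (2 * n))⁻¹) * g⁻¹) * g⁻¹ := by
              rw [show 2 * (n + 1) = 2 * n + 1 + 1 by ring, pow_succ', pow_succ']; group
          _ = g * y⁻¹ * g⁻¹ := by rw [ih, hgy]
          _ = (g * y * g⁻¹)⁻¹ := by group
          _ = y := by rw [hgy, inv_inv]
    rw [hσd, pow_succ', show g * g ^ (2 * j) * y * (g * g ^ (2 * j))⁻¹ = g * (g ^ (2 * j) * y * (g ^ (2 * j))⁻¹) * g⁻¹
      by group, hstep, hgy]
  have hσo : σ ^ 2 ^ a = 1 := by rw [hσd, ← pow_mul, mul_comm, ← hac, pow_orderOf_eq_one]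
  have hσ2 : σ * σ = 1 := by
    have hX : σ * σ ∈ cX y := mem_cX.2 (by
      have e1 : σ * y⁻¹ * σ⁻¹ = y := by
        calc σ * y⁻¹ * σ⁻¹ = (σ * y * σ⁻¹)⁻¹ := by group
          _ = y := by rw [hσy, inv_inv]
      calc σ * σ * y = σ * (σ * y * σ⁻¹) * σ⁻¹ * (σ * σ) := by group
        _ = y * (σ * σ) := by rw [hσy, e1])
    obtain ⟨k, hk, e, he⟩ := hb.cent_cX T hS P hX (by
      have h1 : Commute σ (b : G) := mul_inv_eq_iff_eq_mul.1 hσb
      exact (h1.mul_left h1).eq)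
    have h21 : (σ * σ) ^ 21 = 1 := by
      have hc7 : k ^ 7 = 1 := by
        obtain ⟨n, rfl⟩ := mem_zpowers_iff.1 hk
        rw [← zpow_natCast, ← zpow_mul, mul_comm, zpow_mul, zpow_natCast,
          show (b : G) ^ 7 = 1 by rw [← hb.ord_coe T hS]; exact pow_orderOf_eq_one _, one_zpow]
      have hkX : k ∈ cX y := zpowers_le.2 (hS.H_le T b.2) hk
      have hcm : Commute k (y ^ e.val) := pow_y_comm hkX e.val
      rw [he, hcm.mul_pow, show 21 = 7 * 3 from rfl, pow_mul, hc7, one_pow, ← pow_mul, show e.val * (7 * 3) = 3 * (e.val * 7) by ring,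
        pow_mul, T.three, one_pow, one_mul]
    have h2a : (σ * σ) ^ 2 ^ a = 1 := by rw [← pow_two, ← pow_mul, mul_comm, pow_mul, hσo, one_pow]
    have := pow_gcd_eq_one.2 ⟨h21, h2a⟩
    rwa [show Nat.gcd 21 (2 ^ a) = 1 from Nat.Coprime.pow_right a (by norm_num), pow_one] at this
  clear hσd hσo hac hgb hgy
  have σinv : σ⁻¹ = σ := inv_eq_of_mul_eq_one_right hσ2
  have hσ1 : σ ≠ 1 := fun e => by
    rw [e, one_mul, inv_one, mul_one] at hσy
    have h2 : y ^ 2 = 1 := by rw [pow_two]; nth_rewrite 2 [hσy]; exact mul_inv_cancel y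
    have h3 := T.three
    rw [pow_succ, h2, one_mul] at h3
    exact T.ne_one h3
  have hσy' : σ * y = y⁻¹ * σ := by rw [← hσy]; group
  have hσX : ∀ {x : G}, x ∈ cX y → σ * x * σ⁻¹ ∈ cX y := fun {x} hx => mem_cX.2 (by
    have hyi : x * y⁻¹ = y⁻¹ * x := ((show Commute x y from mem_cX.1 hx).inv_right).eq
    calc σ * x * σ⁻¹ * y = σ * x * (σ⁻¹ * y * σ) * σ⁻¹ := by group
      _ = σ * x * y⁻¹ * σ⁻¹ := by rw [σinv, hσy', mul_assoc y⁻¹, hσ2, mul_one]
      _ = σ * (x * y⁻¹) * σ⁻¹ := by group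
      _ = (σ * y⁻¹ * σ⁻¹) * (σ * x * σ⁻¹) := by rw [hyi]; group
      _ = (σ * y * σ⁻¹)⁻¹ * (σ * x * σ⁻¹) := by group
      _ = y * (σ * x * σ⁻¹) := by rw [hσy, inv_inv])
  -- the four group is normalised
  have hσV : ∀ v ∈ hS.V0 T, σ * v * σ⁻¹ ∈ hS.V0 T := by
    have hV' := (hS.isFour T).conj (c := σ) (Or.inr hσy)
    obtain ⟨c, hc, hcz, hcV⟩ := hS.move T P hV' (hσX (hS.H_le T (hS.z_H T)))
      (by rw [show σ * z * σ⁻¹ * (σ * z * σ⁻¹) = σ * (z * z) * σ⁻¹ by group, D.pre.gen.sq]; group)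
      (fun e => D.pre.gen.ne_one (conj_eq_one_iff.1 e))
      (by
        rintro _ ⟨v, hv, rfl⟩
        show σ * z * σ⁻¹ * (σ * v * σ⁻¹) = σ * v * σ⁻¹ * (σ * z * σ⁻¹)
        calc σ * z * σ⁻¹ * (σ * v * σ⁻¹) = σ * (z * v) * σ⁻¹ := by group
          _ = σ * (v * z) * σ⁻¹ := by rw [mem_centralizer_iff.1 (hS.z_H T).2 v hv]
          _ = _ := by group)
    have hb' : c⁻¹ * b * c ∈ hS.H T := by
      refine (hS.mem_H T).2 ⟨mem_cX.1 (mul_mem (mul_mem (inv_mem hc) (hS.H_le T b.2)) hc), mem_centralizer_iff.2 ?_⟩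
      intro v hv
      obtain ⟨w, hw, hwv⟩ : c * v * c⁻¹ ∈ (hS.V0 T).map (MulAut.conj σ).toMonoidHom := hcV ▸ ⟨v, hv, rfl⟩
      have hbw : (b : G) * (σ * w * σ⁻¹) = σ * w * σ⁻¹ * b := by
        have h1 : σ⁻¹ * b * σ = b := by
          conv_lhs => rw [← hσb]
          group
        calc (b : G) * (σ * w * σ⁻¹) = σ * ((σ⁻¹ * b * σ) * w) * σ⁻¹ := by group
          _ = σ * (w * (σ⁻¹ * b * σ)) * σ⁻¹ := by rw [h1, ← mem_centralizer_iff.1 b.2.2 w hw]
          _ = _ := by group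
      have hwv' : σ * w * σ⁻¹ = c * v * c⁻¹ := hwv
      rw [hwv'] at hbw
      calc v * (c⁻¹ * b * c) = c⁻¹ * ((c * v * c⁻¹) * b) * c := by group
        _ = c⁻¹ * (b * (c * v * c⁻¹)) * c := by rw [hbw]
        _ = c⁻¹ * b * c * v := by group
    obtain ⟨h, hh⟩ := hb.conj_into T hS (b' := ⟨_, hb'⟩) (by
      rw [Subgroup.orderOf_mk]
      refine Eq.trans ?_ (hb.ord_coe T hS)
      exact orderOf_injective (MulAut.conj c⁻¹).toMonoidHom (MulAut.conj c⁻¹).injective (b : G) |> fun e => by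
        rw [← e]; congr 1; simp)
    have hmem : ((h : G) * c⁻¹) * b * ((h : G) * c⁻¹)⁻¹ ∈ zpowers (b : G) := by
      obtain ⟨n, hn⟩ := mem_zpowers_iff.1 hh
      refine mem_zpowers_iff.2 ⟨n, ?_⟩
      have hn' : (b : G) ^ n = (h : G) * (c⁻¹ * b * c) * (h : G)⁻¹ := congrArg Subtype.val hn
      rw [hn']; group
    have hnV := fun {v} (hv : v ∈ hS.V0 T) =>
      hS.norm_V0_of_seven T P hb (mul_mem (hS.H_le T h.2) (inv_mem hc)) hmem hv
    have hcinv : ∀ v ∈ hS.V0 T, c⁻¹ * v * c ∈ hS.V0 T := by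
      intro v hv
      have h1 := hnV hv
      have h2 := mem_centralizer_iff.1 h.2.2 _ h1
      have h3 : c⁻¹ * v * c = (h : G)⁻¹ * ((h : G) * c⁻¹ * v * ((h : G) * c⁻¹)⁻¹) * h := by group
      rw [h3, mul_assoc, h2, inv_mul_cancel_left]
      exact h1
    intro v hv
    obtain ⟨w, hw, hwv⟩ : σ * v * σ⁻¹ ∈ (hS.V0 T).map (MulAut.conj c).toMonoidHom := hcV.symm ▸ ⟨v, hv, rfl⟩
    haveI : Finite (hS.V0 T) := inferInstance
    let f : hS.V0 T → hS.V0 T := fun v => ⟨c⁻¹ * v * c, hcinv v v.2⟩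
    have hf : Function.Injective f := fun u u' e => Subtype.ext (by simpa [f] using congrArg Subtype.val e)
    obtain ⟨u, hu⟩ := Finite.injective_iff_surjective.1 hf ⟨w, hw⟩
    have hu' : c⁻¹ * (u : G) * c = w := congrArg Subtype.val hu
    rw [← hwv]
    show c * w * c⁻¹ ∈ hS.V0 T
    rw [← hu', show c * (c⁻¹ * (u : G) * c) * c⁻¹ = u by group]
    exact u.2
  have hσH : ∀ {x : G}, x ∈ hS.H T → σ * x * σ⁻¹ ∈ hS.H T := fun {x} hx => by
    refine (hS.mem_H T).2 ⟨mem_cX.1 (hσX (hS.H_le T hx)), mem_centralizer_iff.2 fun v hv => ?_⟩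
    have h1 := mem_centralizer_iff.1 hx.2 _ (hσV v hv)
    rw [σinv] at h1 ⊢
    calc v * (σ * x * σ) = σ * ((σ * v * σ) * x) * σ := by
          rw [show σ * ((σ * v * σ) * x) * σ = σ * σ * (v * (σ * x * σ)) by group, hσ2, one_mul]
      _ = σ * (x * (σ * v * σ)) * σ := by rw [h1]
      _ = σ * x * σ * v * (σ * σ) := by group
      _ = σ * x * σ * v := by rw [hσ2, mul_one]
  -- a fixed involution
  obtain ⟨x, hxH, hx2, hx1, hxσ⟩ : ∃ x ∈ hS.H T, x * x = 1 ∧ x ≠ 1 ∧ σ * x = x * σ := by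
    classical
    set I := {x : hS.H T // x * x = 1 ∧ x ≠ 1} with hI
    haveI := Fintype.ofFinite I
    have hodd : Odd (Nat.card I) := (hS.conf T P).class_odd
    let f : Equiv.Perm I := Function.Involutive.toPerm (fun x => ⟨⟨σ * (x.1 : G) * σ⁻¹, hσH x.1.2⟩,
      ⟨Subtype.ext (by
        show σ * (x.1 : G) * σ⁻¹ * (σ * (x.1 : G) * σ⁻¹) = 1
        rw [show σ * (x.1 : G) * σ⁻¹ * (σ * (x.1 : G) * σ⁻¹) = σ * ((x.1 : G) * x.1) * σ⁻¹ by group,
          show (x.1 : G) * x.1 = 1 from congrArg Subtype.val x.2.1]; group),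
        fun e => x.2.2 (Subtype.ext (conj_eq_one_iff.1 (congrArg Subtype.val e :)))⟩⟩) (fun x => by
      refine Subtype.ext (Subtype.ext ?_)
      show σ * (σ * (x.1 : G) * σ⁻¹) * σ⁻¹ = x.1
      rw [σinv, show σ * (σ * (x.1 : G) * σ) * σ = σ * σ * x.1 * (σ * σ) by group, hσ2, one_mul, mul_one])
    obtain ⟨x, hx⟩ : ∃ x, f x = x := by
      by_contra hall
      push_neg at hall
      have h2dvd := Equiv.Perm.two_dvd_card_support (σ := f) (by
        ext x; exact congrArg (fun t => ((t : I).1 : G)) (Function.Involutive.toPerm_involutive _ x) |> fun e => e)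
      rw [show f.support = Finset.univ by ext x; simp [hall x], Finset.card_univ, ← Nat.card_eq_fintype_card] at h2dvd
      exact absurd h2dvd hodd.not_two_dvd_nat
    refine ⟨x.1, x.1.2, congrArg Subtype.val x.2.1, fun e => x.2.2 (Subtype.ext e), ?_⟩
    exact mul_inv_eq_iff_eq_mul.1 (congrArg (fun t : I => (t.1 : G)) hx)
  -- the subgroup
  set R : Subgroup G := hS.H T ⊓ centralizer ({σ} : Set G) with hR
  have hbR : (b : G) ∈ R := ⟨b.2, mem_centralizer_singleton_iff.2 (mul_inv_eq_iff_eq_mul.1 hσb).symm⟩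
  have hxR : x ∈ R := ⟨hxH, mem_centralizer_singleton_iff.2 hxσ.symm⟩
  obtain ⟨h, hh, hhx⟩ := hS.one_class T P hxH hx2 hx1
  have hRH : R ≤ hS.H T := inf_le_left
  refine no_single (R := R) (x := ⟨x, hxR⟩) (b := ⟨b, hbR⟩) (Subtype.ext hx2) (fun e => hx1 (congrArg Subtype.val e))
    (by rw [Subgroup.orderOf_mk]; exact hb.ord_coe T hS) ?_ ?_ ?_ ?_
  · intro hd
    have := hd.trans (card_dvd_of_le hRH)
    rw [hb.card_H] at this
    norm_num at this
  · set NR := normalizer ((zpowers (⟨b, hbR⟩ : R) : Subgroup R) : Set R)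
    have hinj : Nat.card NR ∣ 21 := by
      rw [← hb.ncard]
      refine card_dvd_of_injective (((inclusion hRH).comp NR.subtype).codRestrict _ ?_) ?_
      · intro n
        have := le_normalizer_map (inclusion hRH) ⟨n, n.2, rfl⟩
        rwa [MonoidHom.map_zpowers] at this
      · intro u u' e
        exact Subtype.ext (Subtype.ext (congrArg (fun t => ((t.1 : hS.H T) : G)) e :))
    exact (show Odd 21 by decide).of_dvd_nat hinj
  · refine IsPGroup.of_injective (IsPGroup.of_card (n := 6) (by rw [hS.card_S T]; rfl) : IsPGroup 2 (hS.S T))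
      (((MulAut.conj h⁻¹).toMonoidHom.comp (R.subtype.comp (centralizer ({(⟨x, hxR⟩ : R)} : Set R)).subtype)).codRestrict _
        ?_) ?_
    · intro u
      have hu := congrArg Subtype.val (mem_centralizer_singleton_iff.1 u.2)
      have huy := ((hS.mem_H T).1 (hRH u.1.2))
      have hH : h⁻¹ * (u.1 : G) * h⁻¹⁻¹ ∈ hS.H T :=
        mul_mem (mul_mem (inv_mem hh) (hRH u.1.2)) (inv_mem (inv_mem hh))
      refine mem_inf.2 ⟨(mem_Kc T).2 ⟨mem_centralizer_singleton_iff.2 ?_, ((hS.mem_H T).1 hH).1⟩, hH.2⟩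
      show h⁻¹ * (u.1 : G) * h⁻¹⁻¹ * z = z * (h⁻¹ * (u.1 : G) * h⁻¹⁻¹)
      calc h⁻¹ * (u.1 : G) * h⁻¹⁻¹ * z = h⁻¹ * ((u.1 : G) * (h * z * h⁻¹)) * h := by group
        _ = h⁻¹ * (h * z * h⁻¹ * u.1) * h := by rw [hhx]; exact congrArg (fun t => h⁻¹ * t * h) hu
        _ = _ := by group
    · intro u u' e
      exact Subtype.ext (Subtype.ext ((MulAut.conj h⁻¹).injective (congrArg Subtype.val e :)))
  · rintro ⟨a, ha⟩ ha2 ha1 hax
    refine Subtype.ext ?_
    show a = x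
    obtain ⟨haH, haσ⟩ := ha
    have haσ' : a * σ = σ * a := mem_centralizer_singleton_iff.1 haσ
    have hax' : a * x = x * a := congrArg Subtype.val hax
    set a' := h⁻¹ * a * h with ha'
    set σ' := h⁻¹ * σ * h with hσ'
    have hhy : h * y = y * h := ((hS.mem_H T).1 hh).1
    have hhi : h⁻¹ * y * h = y := by rw [mul_assoc, ← hhy, inv_mul_cancel_left]
    have hσ'z : σ' ∈ centralizer ({z} : Set G) := mem_centralizer_singleton_iff.2 (by
      calc h⁻¹ * σ * h * z = h⁻¹ * (σ * (h * z * h⁻¹)) * h := by group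
        _ = h⁻¹ * (h * z * h⁻¹ * σ) * h := by rw [hhx, hxσ]
        _ = z * (h⁻¹ * σ * h) := by group)
    have e1 := hS.outer T hσ'z
      (by rw [hσ', show h⁻¹ * σ * h * (h⁻¹ * σ * h) = h⁻¹ * (σ * σ) * h by group, hσ2]; group)
      (by
        have hhy' : h * y * h⁻¹ = y := by rw [hhy, mul_inv_cancel_right]
        calc σ' * y * σ'⁻¹ = h⁻¹ * (σ * (h * y * h⁻¹) * σ⁻¹) * h := by rw [hσ']; group
          _ = h⁻¹ * y⁻¹ * h := by rw [hhy', hσy]
          _ = (h⁻¹ * y * h)⁻¹ := by group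
          _ = y⁻¹ := by rw [hhi])
      (fun v hv => by
        have h1 : h * v * h⁻¹ = v := by rw [← mem_centralizer_iff.1 hh.2 v hv, mul_inv_cancel_right]
        have h2 := hσV v hv
        rw [show σ' * v * σ'⁻¹ = h⁻¹ * (σ * (h * v * h⁻¹) * σ⁻¹) * h by rw [hσ']; group,
          h1, mul_assoc, mem_centralizer_iff.1 hh.2 _ h2, inv_mul_cancel_left]
        exact h2)
      (x := a') ?_ ?_ ?_ ?_
    · calc a = h * a' * h⁻¹ := by rw [ha']; group
        _ = x := by rw [e1, hhx]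
    · have hH : a' ∈ hS.H T := mul_mem (mul_mem (inv_mem hh) haH) hh
      refine mem_inf.2 ⟨(mem_Kc T).2 ⟨mem_centralizer_singleton_iff.2 ?_, ((hS.mem_H T).1 hH).1⟩, hH.2⟩
      calc h⁻¹ * a * h * z = h⁻¹ * (a * (h * z * h⁻¹)) * h := by group
        _ = h⁻¹ * (h * z * h⁻¹ * a) * h := by rw [hhx, hax']
        _ = z * (h⁻¹ * a * h) := by group
    · rw [ha', show h⁻¹ * a * h * (h⁻¹ * a * h) = h⁻¹ * (a * a) * h by group,
        show a * a = 1 from congrArg Subtype.val ha2]; group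
    · intro e
      refine ha1 (Subtype.ext ?_)
      show a = 1
      calc a = h * a' * h⁻¹ := by rw [ha']; group
        _ = 1 := by rw [e]; group
    · calc σ' * a' = h⁻¹ * (σ * a) * h := by rw [hσ', ha']; group
        _ = h⁻¹ * (a * σ) * h := by rw [haσ']
        _ = a' * σ' := by rw [hσ', ha']; group

end CfsgLib.SuzSeven
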