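import Cfsg.Agent.SuzSeven.Invert
import Cfsg.Agent.SelfThree.Tools

/-!
The centraliser of the element of order seven has order 84.
-/

set_option autoImplicit false
set_option linter.style.haveILetI false
set_option maxRecDepth 100000

namespace CfsgLib.SuzSeven

open CfsgLib CfsgLib.SuzInvol CfsgLib.SuzThree Subgroup
open CfsgLib.SuzEleven (cX mem_cX)
open Cfsg.Agent.McLU43 (K9)

local notation "PSU4" => Cfsg.PSU 4 K9 3

variable {G : Type*} [Group G] [Finite G] {z : G} {D : Dat z} {B : Base D} {y t : G}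
variable (T : Three D y) (hS : Seed B y t) {π : cX y →* PSU4} (P : SuzEleven.Pi T π)
variable {b : hS.H T} (hb : IsSeven T hS b)
include T hS hb

theorem IsSeven.pow_seven {c : G} (hc : c ∈ zpowers (b : G)) : c ^ 7 = 1 := by
  obtain ⟨n, rfl⟩ := mem_zpowers_iff.1 hc
  rw [← zpow_natCast, ← zpow_mul, mul_comm, zpow_mul, zpow_natCast, ← hb.ord_coe T hS, pow_orderOf_eq_one,
    one_zpow]

/-- Congruent elements of order prime to seven are equal. -/
theorem IsSeven.lift_eq7 {a a' c : G} {n : ℕ} (hn : Nat.Coprime n 7) (ha : a ^ n = 1) (ha' : a' ^ n = 1)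
    (hc : c ∈ zpowers (b : G)) (hab : a * b = b * a) (e : a' = a * c) : a' = a := by
  obtain ⟨j, hj⟩ := mem_zpowers_iff.1 hc
  have hac : Commute a c := hj ▸ (show Commute a (b : G) from hab).zpow_right j
  have h1 : c ^ n = 1 := by rw [e, hac.mul_pow, ha, one_mul] at ha'; exact ha'
  have := pow_gcd_eq_one.2 ⟨h1, hb.pow_seven T hS hc⟩
  rw [hn.gcd_eq_one, pow_one] at this
  rw [e, this, mul_one]

theorem IsSeven.y_b : y * b = b * y := ((hS.mem_H T).1 b.2).1.symm

theorem IsSeven.V0_b {v : G} (hv : v ∈ hS.V0 T) : v * b = b * v := mem_centralizer_iff.1 b.2.2 v hv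

include P

theorem IsSeven.card_cent : Nat.card (centralizer ({(b : G)} : Set G)) = 84 := by
  classical
  set CB := centralizer ({(b : G)} : Set G) with hCB
  set Bs := (zpowers (b : G)).subgroupOf CB with hBs
  have hble : zpowers (b : G) ≤ CB := zpowers_le.2 (mem_centralizer_singleton_iff.2 rfl)
  haveI hBn : Bs.Normal := ⟨fun n hn g => by
    rw [hBs, mem_subgroupOf] at hn ⊢
    obtain ⟨k, hk⟩ := mem_zpowers_iff.1 hn
    have hg : Commute (g : G) (n : G) := hk ▸ (show Commute (g : G) b from mem_centralizer_singleton_iff.1 g.2).zpow_right k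
    show (g : G) * n * (g : G)⁻¹ ∈ zpowers (b : G)
    rw [hg.eq, mul_inv_cancel_right]
    exact hn⟩
  have hBcard : Nat.card Bs = 7 := by
    rw [hBs, Nat.card_congr (subgroupOfEquivOfLe hble).toEquiv, Nat.card_zpowers, hb.ord_coe T hS]
  set q := QuotientGroup.mk' Bs with hq
  have hqeq : ∀ a a' : CB, q a = q a' → ∃ c ∈ zpowers (b : G), (a' : G) = a * c := fun a a' e => by
    have h : a⁻¹ * a' ∈ Bs := QuotientGroup.eq.1 e
    exact ⟨(a : G)⁻¹ * a', mem_subgroupOf.1 h, by group⟩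
  have hcomm : ∀ a : CB, (a : G) * b = b * a := fun a => mem_centralizer_singleton_iff.1 a.2
  have hyb := hb.y_b T hS
  set y' : CB := ⟨y, mem_centralizer_singleton_iff.2 hyb⟩ with hy'
  have hy3 : y ^ 3 = 1 := T.three
  haveI : Fact (Nat.Prime 3) := ⟨Nat.prime_three⟩
  haveI : Fact (Nat.Prime 2) := ⟨Nat.prime_two⟩
  have hyord : orderOf (q y') = 3 := by
    refine orderOf_eq_prime (by rw [← map_pow, show y' ^ 3 = 1 from Subtype.ext hy3, map_one]) fun e => ?_
    have h1 : y ∈ zpowers (b : G) := (QuotientGroup.eq_one_iff y').1 e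
    exact T.ne_one (hb.lift_eq7 T hS (a := 1) (n := 3) (by norm_num) (one_pow 3) hy3 h1
      (by rw [one_mul, mul_one]) (one_mul y).symm)
  have hlift3 : ∀ x : CB, ∀ w : G, w ^ 3 = 1 → w * b = b * w → (∀ hw : w ∈ CB, q (x * y' * x⁻¹) = q ⟨w, hw⟩) →
      (x : G) * y * (x : G)⁻¹ = w := by
    intro x w hw3 hwb e
    obtain ⟨c, hc, e'⟩ := hqeq ⟨w, mem_centralizer_singleton_iff.2 hwb⟩ _ (e _).symm
    exact hb.lift_eq7 T hS (n := 3) (by norm_num) hw3 (by rw [conj_pow, hy3]; group) hc hwb e'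
  have hSC : CfsgLib.SelfThree.SC (q y') := by
    refine ⟨hyord, le_antisymm (fun k hk => ?_) (zpowers_le.2 (mem_centralizer_singleton_iff.2 rfl))⟩
    obtain ⟨x, rfl⟩ := QuotientGroup.mk'_surjective Bs k
    have h := mem_centralizer_singleton_iff.1 hk
    have hxy : (x : G) * y = y * x := mul_inv_eq_iff_eq_mul.1 (hlift3 x y hy3 hyb fun _ => by
      rw [map_mul, map_mul, map_inv, h, mul_inv_cancel_right])
    obtain ⟨c, hc, e, he⟩ := hb.cent_cX T hS P (mem_cX.2 hxy) (hcomm x)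
    refine mem_zpowers_iff.2 ⟨(e.val : ℤ), ?_⟩
    rw [zpow_natCast, ← map_pow]
    refine QuotientGroup.eq.2 ?_
    show (((y' : CB) : G) ^ e.val)⁻¹ * (x : G) ∈ zpowers (b : G)
    have hcy : Commute c (y ^ e.val) := pow_y_comm (zpowers_le.2 (hS.H_le T b.2) hc) e.val
    rw [he, hcy.eq, inv_mul_cancel_left]
    exact hc
  have hN3 : Nat.card (normalizer ((zpowers (q y') : Subgroup (CB ⧸ Bs)) : Set (CB ⧸ Bs))) = 3 := by
    refine le_antisymm ?_ ?_
    · refine le_trans (Nat.le_of_dvd Nat.card_pos (card_dvd_of_le fun k hk => ?_)) hSC.card_zpowers.le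
      rw [← hSC.cent]
      rcases hSC.mem_cases ((mem_normalizer_iff.1 hk (q y')).1 (mem_zpowers _)) with e | e | e
      · exact absurd (conj_eq_one_iff.1 e) hSC.ne_one
      · exact mem_centralizer_singleton_iff.2 (mul_inv_eq_iff_eq_mul.1 e)
      · exfalso
        obtain ⟨x, rfl⟩ := QuotientGroup.mk'_surjective Bs k
        have h1 : (x : G) * b * (x : G)⁻¹ = b := by rw [hcomm x, mul_inv_cancel_right]
        refine hb.no_invert T hS P h1 (hlift3 x y⁻¹ (by rw [inv_pow, hy3, inv_one])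
          (show Commute y (b : G) from hyb).inv_left.eq fun hw => ?_)
        rw [map_mul, map_mul, map_inv, e, ← map_inv]
        rfl
    · rw [← hSC.card_zpowers]; exact Nat.le_of_dvd Nat.card_pos (card_dvd_of_le le_normalizer)
  obtain ⟨N, hNn, hcardK, hN3'⟩ := hSC.burnside hN3
  haveI := hNn
  have hInv : CfsgLib.SelfThree.Inv (q y') N := ⟨hN3', by rw [normalizer_eq_top_iff.2 hNn]; exact mem_top _⟩
  have hnil := hSC.isNilpotent hInv
  have hindex : N.index = 3 := by
    have h1 := card_mul_index N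
    rw [hcardK, mul_comm 3] at h1
    exact Nat.eq_of_mul_eq_mul_left Nat.card_pos h1
  have hVC : hS.V0 T ≤ CB := fun v hv => mem_centralizer_singleton_iff.2 (hb.V0_b T hS hv)
  set W := ((hS.V0 T).subgroupOf CB).map q with hW
  have hWN : W ≤ N := by
    rintro _ ⟨v, hv, rfl⟩
    have h1 : (QuotientGroup.mk (q v) : (CB ⧸ Bs) ⧸ N) ^ 2 = 1 := by
      rw [← QuotientGroup.mk_pow, ← map_pow, show v ^ 2 = 1 from Subtype.ext (by
        rw [pow_two]; exact (hS.isFour T).sq _ hv), map_one, QuotientGroup.mk_one]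
    have h2 : (QuotientGroup.mk (q v) : (CB ⧸ Bs) ⧸ N) ^ 3 = 1 := by
      rw [← hindex, index_eq_card]; exact pow_card_eq_one'
    have := pow_gcd_eq_one.2 ⟨h1, h2⟩
    rw [show Nat.gcd 2 3 = 1 from rfl, pow_one, QuotientGroup.eq_one_iff] at this
    exact this
  have hWcard : Nat.card W = 4 := by
    rw [hW, ← hS.card_V0 T, ← Nat.card_congr (subgroupOfEquivOfLe hVC).toEquiv]
    refine Nat.card_congr (Equiv.ofBijective (fun v => (⟨q v.1, v.1, v.2, rfl⟩ : W)) ⟨?_, ?_⟩).symm
    · rintro ⟨v, hv⟩ ⟨v', hv'⟩ e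
      obtain ⟨c, hc, e'⟩ := hqeq v v' (congrArg Subtype.val e)
      exact Subtype.ext (Subtype.ext (hb.lift_eq7 T hS (n := 2) (by norm_num)
        (by rw [pow_two]; exact (hS.isFour T).sq _ hv) (by rw [pow_two]; exact (hS.isFour T).sq _ hv') hc
        (hcomm v) e').symm)
    · rintro ⟨_, v, hv, rfl⟩
      exact ⟨⟨v, hv⟩, rfl⟩
  have hW2 : IsPGroup 2 W := IsPGroup.of_card (n := 2) (by rw [hWcard]; rfl)
  -- elements centralising the image of the four group
  have hcentW : ∀ x : CB, (∀ w ∈ W, q x * w = w * q x) → q x ∈ W := by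
    intro x hx
    have hxV : (x : G) ∈ centralizer (hS.V0 T : Set G) := mem_centralizer_iff.2 fun v hv => by
      have hv' : (⟨v, hVC hv⟩ : CB) ∈ (hS.V0 T).subgroupOf CB := hv
      have h1 := hx _ ⟨_, hv', rfl⟩
      obtain ⟨c, hc, e⟩ := hqeq ⟨v, hVC hv⟩ (x * ⟨v, hVC hv⟩ * x⁻¹)
        (by rw [map_mul, map_mul, map_inv, h1, mul_inv_cancel_right])
      have h2 : (x : G) * v * (x : G)⁻¹ = v := hb.lift_eq7 T hS (n := 2) (by norm_num)
        (by rw [pow_two]; exact (hS.isFour T).sq _ hv)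
        (by rw [pow_two, show (x : G) * v * (x : G)⁻¹ * ((x : G) * v * (x : G)⁻¹) = (x : G) * (v * v) * (x : G)⁻¹
          by group, (hS.isFour T).sq _ hv]; group) hc (hb.V0_b T hS hv) e
      exact (mul_inv_eq_iff_eq_mul.1 h2).symm
    obtain ⟨v, hv, c, hc, e⟩ := hb.cent_V0_b T hS P hxV (hcomm x)
    refine ⟨⟨v, hVC hv⟩, hv, QuotientGroup.eq.2 ?_⟩
    show v⁻¹ * (x : G) ∈ zpowers (b : G)
    rw [e, inv_mul_cancel_left]
    exact hc
  -- the complement is a 2-group
  have hN2 : IsPGroup 2 N := by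
    rintro ⟨k, hk⟩
    obtain ⟨a, c, hc, hac⟩ := Nat.exists_eq_two_pow_mul_odd (orderOf_pos k).ne'
    refine ⟨a, Subtype.ext ?_⟩
    show k ^ 2 ^ a = 1
    obtain ⟨x, hx⟩ := QuotientGroup.mk'_surjective Bs (k ^ 2 ^ a)
    have hord : (orderOf (k ^ 2 ^ a)).Coprime 2 := by
      refine Nat.Coprime.coprime_dvd_left (orderOf_dvd_of_pow_eq_one ?_) hc.coprime_two_right
      rw [← pow_mul, ← hac, pow_orderOf_eq_one]
    have hmem : k ^ 2 ^ a ∈ W := by
      rw [← hx]
      refine hcentW x fun w hw => ?_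
      change q x * w = w * q x
      rw [hx]
      exact (CfsgLib.NilpotentPart.commute_part hnil (pow_mem hk _)
        (CfsgLib.NilpotentPart.le_part hnil hWN hW2 hw) hord).eq
    obtain ⟨i, hi⟩ := IsPGroup.iff_orderOf.1 hW2 ⟨_, hmem⟩
    rw [Subgroup.orderOf_mk] at hi
    rw [← orderOf_eq_one_iff]
    rw [hi] at hord ⊢
    rcases Nat.eq_zero_or_pos i with e | e
    · rw [e, pow_zero]
    · exact absurd hord (by rw [Nat.coprime_pow_left_iff e]; norm_num)
  -- the normaliser of the four group in it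
  set U1 := N ⊓ normalizer (W : Set (CB ⧸ Bs)) with hU1
  have hWU : W ≤ U1 := le_inf hWN le_normalizer
  set y'' := q y' with hy''
  have hyW : y'' ∈ normalizer (W : Set (CB ⧸ Bs)) := by
    rw [mem_normalizer_iff_map_conj_eq]
    refine eq_of_le_of_card_ge ?_ (le_of_eq (card_map_of_injective (MulAut.conj y'').injective).symm)
    rintro _ ⟨_, ⟨v, hv, rfl⟩, rfl⟩
    refine ⟨y' * v * y'⁻¹, hS.y_norm T hv, ?_⟩
    show q (y' * v * y'⁻¹) = q y' * q v * (q y')⁻¹
    rw [map_mul, map_mul, map_inv]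
  have hU1inv : CfsgLib.SelfThree.Inv y'' U1 := by
    refine ⟨fun h => hN3' (h.trans (card_dvd_of_le inf_le_left)), ?_⟩
    rw [mem_normalizer_iff]
    intro a
    rw [hU1, mem_inf, mem_inf]
    exact and_congr (mem_normalizer_iff.1 hInv.2 a) ⟨fun h => mul_mem (mul_mem hyW h) (inv_mem hyW), fun h => by
      have := mul_mem (mul_mem (inv_mem hyW) h) hyW
      rwa [show y''⁻¹ * (y'' * a * y''⁻¹) * y'' = a by group] at this⟩
  have hU1W : U1 ≤ W := by
    intro u hu
    obtain ⟨w, hw, hwu⟩ := hSC.exists_twist hU1inv hu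
    set ρ := normalizerMonoidHom W with hρ
    obtain ⟨v₀, hv₀, hv₀1⟩ : ∃ v ∈ hS.V0 T, v ≠ 1 := ⟨t, hS.t_mem T, (hS.distinct T).1⟩
    have hyρ : ρ ⟨y'', hyW⟩ ≠ 1 := by
      intro e
      have h1 : (⟨y'', hyW⟩ : normalizer (W : Set (CB ⧸ Bs))) ∈ ρ.ker := e
      rw [hρ, normalizerMonoidHom_ker, mem_subgroupOf] at h1
      have hv' : (⟨v₀, hVC hv₀⟩ : CB) ∈ (hS.V0 T).subgroupOf CB := hv₀
      have h2 := mem_centralizer_iff.1 h1 _ ⟨_, hv', rfl⟩
      obtain ⟨c, hc, e'⟩ := hqeq ⟨v₀, hVC hv₀⟩ (y' * ⟨v₀, hVC hv₀⟩ * y'⁻¹)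
        (by rw [map_mul, map_mul, map_inv]; change q _ = y'' * q _ * y''⁻¹; rw [← h2, mul_inv_cancel_right])
      refine hv₀1 ((hS.isFour T).fpf v₀ hv₀ (hb.lift_eq7 T hS (n := 2) (by norm_num)
        (by rw [pow_two]; exact (hS.isFour T).sq _ hv₀)
        (by rw [pow_two]; exact (hS.isFour T).sq _ (hS.y_norm T hv₀)) hc (hb.V0_b T hS hv₀) e'))
    haveI : Finite (MulAut W) := Finite.of_injective (fun f => (f : W → W)) DFunLike.coe_injective
    have haut : Nat.card (MulAut W) ≤ 6 := by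
      obtain ⟨w1, hw1⟩ : ∃ w : W, w ≠ 1 := by
        haveI : Nontrivial W := Finite.one_lt_card_iff_nontrivial.1 (by rw [hWcard]; norm_num)
        exact exists_ne 1
      obtain ⟨w2, hw2, hw21⟩ : ∃ w : W, w ≠ 1 ∧ w ≠ w1 := by
        by_contra hh
        push_neg at hh
        have : Nat.card W ≤ Nat.card (({1, w1} : Set W)) :=
          (Nat.card_congr (Equiv.Set.univ W)).symm.le.trans (Nat.card_mono (Set.toFinite _) fun a _ => by
            by_cases ha : a = 1
            · exact Or.inl ha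
            · exact Or.inr (hh a ha))
        rw [hWcard, Nat.card_coe_set_eq, Set.ncard_pair (fun e => hw1 e.symm)] at this
        omega
      have hsq : ∀ w : W, w * w = 1 := by
        rintro ⟨_, v, hv, rfl⟩
        refine Subtype.ext ?_
        show q v * q v = 1
        rw [← map_mul, show v * v = 1 from Subtype.ext ((hS.isFour T).sq _ hv), map_one]
      have hspan : ∀ a : W, a = 1 ∨ a = w1 ∨ a = w2 ∨ a = w1 * w2 := by
        intro a
        have hset : ({1, w1, w2, w1 * w2} : Set W) = Set.univ := by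
          refine Set.eq_of_subset_of_ncard_le (Set.subset_univ _) ?_
          rw [Set.ncard_univ, hWcard, Set.ncard_insert_of_notMem, Set.ncard_insert_of_notMem, Set.ncard_pair]
          · intro e; exact hw1 (mul_eq_right.1 e.symm)
          · simp only [Set.mem_insert_iff, Set.mem_singleton_iff, not_or]
            exact ⟨hw21.symm, fun e => hw2 (mul_eq_left.1 e.symm)⟩
          · simp only [Set.mem_insert_iff, Set.mem_singleton_iff, not_or]
            refine ⟨hw1.symm, hw2.symm, fun e => hw21 ?_⟩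
            exact (mul_left_cancel ((hsq w1).trans e)).symm
        have := hset ▸ Set.mem_univ a
        simpa using this
      let f : MulAut W → {p : ({1}ᶜ : Set W) × ({1}ᶜ : Set W) // p.1 ≠ p.2} := fun φ =>
        ⟨(⟨φ w1, by simpa using hw1⟩, ⟨φ w2, by simpa using hw2⟩), fun e => hw21 (φ.injective (congrArg Subtype.val e)).symm⟩
      have hf : Function.Injective f := fun φ ψ e => by
        have e1 : φ w1 = ψ w1 := congrArg (fun p => (p.1.1 : W)) e
        have e2 : φ w2 = ψ w2 := congrArg (fun p => (p.1.2 : W)) e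
        refine MulEquiv.ext fun a => ?_
        rcases hspan a with rfl | rfl | rfl | rfl
        · rw [map_one, map_one]
        · exact e1
        · exact e2
        · rw [map_mul, map_mul, e1, e2]
      refine (Nat.card_le_card_of_injective f hf).trans ?_
      haveI := Fintype.ofFinite W
      rw [Nat.card_eq_fintype_card, Fintype.card_subtype]
      have h3 : Fintype.card ({1}ᶜ : Set W) = 3 := by
        rw [Fintype.card_compl_set, ← Nat.card_eq_fintype_card, hWcard]; simp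
      calc (Finset.univ.filter fun p : ({1}ᶜ : Set W) × ({1}ᶜ : Set W) => p.1 ≠ p.2).card
          = (Finset.univ.offDiag : Finset (({1}ᶜ : Set W) × ({1}ᶜ : Set W))).card := by
            congr 1; ext p; simp [Finset.mem_offDiag]
        _ ≤ 6 := by rw [Finset.offDiag_card, Finset.card_univ, h3]
    have h3dvd : 3 ∣ Nat.card (MulAut W) := by
      have : orderOf (ρ ⟨y'', hyW⟩) = 3 := orderOf_eq_prime
        (by rw [← map_pow, show (⟨y'', hyW⟩ : normalizer (W : Set (CB ⧸ Bs))) ^ 3 = 1 from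
          Subtype.ext hSC.pow_three, map_one]) hyρ
      rw [← this]; exact orderOf_dvd_natCard _
    -- the image is small
    set I := (U1.subgroupOf (normalizer (W : Set (CB ⧸ Bs)))).map ρ with hI
    have hI2 : IsPGroup 2 I := by
      refine IsPGroup.map ?_ ρ
      exact (hN2.to_le inf_le_left).of_equiv (subgroupOfEquivOfLe (inf_le_right : U1 ≤ _)).symm
    obtain ⟨i, hi⟩ := IsPGroup.iff_card.1 hI2
    have hI' : Nat.card I ≤ 2 := by
      have hd := card_subgroup_dvd_card I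
      rw [hi] at hd ⊢
      have hpos : 0 < Nat.card (MulAut W) := Nat.card_pos
      rcases i with _ | _ | i
      · norm_num
      · norm_num
      · exfalso
        have h4 : 4 ∣ Nat.card (MulAut W) := Dvd.dvd.trans ⟨2 ^ i, by ring⟩ hd
        have h12 : 12 ∣ Nat.card (MulAut W) := Nat.Coprime.mul_dvd_of_dvd_of_dvd (by norm_num : Nat.Coprime 4 3) h4 h3dvd
        have := Nat.le_of_dvd hpos h12
        omega
    have hwI : ρ ⟨w, (mem_inf.1 hw).2⟩ ∈ I := ⟨_, hw, rfl⟩
    obtain ⟨a, ha⟩ : ∃ a, a = ρ ⟨w, (mem_inf.1 hw).2⟩ := ⟨_, rfl⟩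
    obtain ⟨cρ, hcρ⟩ : ∃ cρ, cρ = ρ ⟨y'', hyW⟩ := ⟨_, rfl⟩
    have haI : a ∈ I := ha ▸ hwI
    have hcI : cρ * a⁻¹ * cρ⁻¹ ∈ I := by
      refine ⟨⟨y'', hyW⟩ * (⟨w, (mem_inf.1 hw).2⟩)⁻¹ * (⟨y'', hyW⟩)⁻¹,
        CfsgLib.SelfThree.mem_normalizer_conj hU1inv.2 (inv_mem hw), ?_⟩
      rw [map_mul, map_mul, map_inv, map_inv, hcρ, ha]
    have hone : a * (cρ * a⁻¹ * cρ⁻¹) = 1 := by
      by_cases ha1 : a = 1
      · rw [ha1]; group
      have hs : ({1, a} : Set (MulAut W)) = I := by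
        refine Set.eq_of_subset_of_ncard_le ?_ ?_
        · intro s hs
          rcases hs with rfl | rfl
          exacts [one_mem _, haI]
        · rw [Set.ncard_pair (Ne.symm ha1), ← Nat.card_coe_set_eq, SetLike.coe_sort_coe]; exact hI'
      have h2 : cρ * a⁻¹ * cρ⁻¹ ∈ ({1, a} : Set (MulAut W)) := hs.symm ▸ hcI
      have h3 : a * a ∈ ({1, a} : Set (MulAut W)) := hs.symm ▸ mul_mem haI haI
      simp only [Set.mem_insert_iff, Set.mem_singleton_iff] at h2 h3
      rcases h2 with e | e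
      · exact absurd (inv_eq_one.1 (conj_eq_one_iff.1 e)) ha1
      · rw [e]
        rcases h3 with e3 | e3
        · exact e3
        · exact absurd (mul_eq_left.1 e3) ha1
    have huN : u ∈ normalizer (W : Set (CB ⧸ Bs)) := (mem_inf.1 hu).2
    have hker : (⟨u, huN⟩ : normalizer (W : Set (CB ⧸ Bs))) ∈ ρ.ker := by
      show ρ ⟨u, huN⟩ = 1
      rw [show (⟨u, huN⟩ : normalizer (W : Set (CB ⧸ Bs))) = ⟨w, (mem_inf.1 hw).2⟩ * (⟨y'', hyW⟩ *
        (⟨w, (mem_inf.1 hw).2⟩)⁻¹ * (⟨y'', hyW⟩)⁻¹) from Subtype.ext hwu.symm, map_mul, map_mul, map_mul, map_inv,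
        map_inv, ← ha, ← hcρ, hone]
    rw [hρ, normalizerMonoidHom_ker, mem_subgroupOf] at hker
    obtain ⟨x, rfl⟩ := QuotientGroup.mk'_surjective Bs u
    exact hcentW x fun w hw => (mem_centralizer_iff.1 hker w hw).symm
  have hNW : N = W := by
    refine le_antisymm ?_ hWN
    haveI := hnil
    have hcond := Group.normalizerCondition_of_isNilpotent (G := N)
    by_contra hne
    have hlt : W.subgroupOf N < ⊤ := lt_top_iff_ne_top.2 fun e => hne (subgroupOf_eq_top.1 e)
    obtain ⟨n, hn, hn'⟩ := SetLike.exists_of_lt (hcond _ hlt)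
    refine hn' (mem_subgroupOf.2 (hU1W (mem_inf.2 ⟨n.2, ?_⟩)))
    rw [mem_normalizer_iff]
    intro a
    constructor
    · intro ha
      exact ((mem_normalizer_iff.1 hn ⟨a, hWN ha⟩).1 ha :)
    · intro ha
      have haN : a ∈ N := by
        have := mul_mem (mul_mem (inv_mem n.2) (hWN ha)) n.2
        rwa [show (n : CB ⧸ Bs)⁻¹ * ((n : CB ⧸ Bs) * a * (n : CB ⧸ Bs)⁻¹) * n = a by group] at this
      exact ((mem_normalizer_iff.1 hn ⟨a, haN⟩).2 ha :)
  rw [card_eq_card_quotient_mul_card_subgroup Bs, hcardK, hNW, hWcard, hBcard]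

end CfsgLib.SuzSeven
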