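import Cfsg.Agent.SuzSeven.Four

/-!
The Sylow 2-subgroup of the centraliser of the four group and the involutions inverting the element of
order three.
-/

set_option autoImplicit false
set_option linter.style.haveILetI false
set_option maxRecDepth 100000
set_option synthInstance.maxSize 4096
set_option synthInstance.maxHeartbeats 200000
set_option maxHeartbeats 1000000

namespace CfsgLib.SuzSeven

open CfsgLib CfsgLib.Quad CfsgLib.SuzInvol CfsgLib.SuzThree Subgroup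

variable {G : Type*} [Group G] [Finite G] {z : G} {D : Dat z} {B : Base D} {y t : G}

/-- The subgroup of the four elements common to the two radicals. -/
def Zv (B : Base D) : Subgroup G where
  carrier := {i | B.InV i}
  one_mem' := inV_one (B := B)
  mul_mem' := fun h h' => inV_mul (B := B) h h'
  inv_mem' := fun h => inV_inv (B := B) h

theorem card_Zv : Nat.card (Zv B) = 4 := by
  have h : (Zv B : Set G) = {1, z, B.s, z * B.s} := by
    ext i
    simp only [SetLike.mem_coe, Set.mem_insert_iff, Set.mem_singleton_iff]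
    exact ⟨B.inV_cases, fun h => (B.inV_of h).1⟩
  have hz := D.pre.gen.ne_one
  have hs := B.s_ne
  have hzs := B.ne
  rw [← SetLike.coe_sort_coe, Nat.card_coe_set_eq, h, Set.ncard_insert_of_notMem, Set.ncard_insert_of_notMem,
    Set.ncard_pair]
  · intro e; exact hz (mul_eq_right.1 e.symm)
  · simp only [Set.mem_insert_iff, Set.mem_singleton_iff, not_or]
    exact ⟨hzs.symm, fun e => hs (mul_eq_left.1 e.symm)⟩
  · simp only [Set.mem_insert_iff, Set.mem_singleton_iff, not_or]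
    refine ⟨hz.symm, hs.symm, fun e => hzs ?_⟩
    calc B.s = z * z * B.s := by rw [D.pre.gen.sq, one_mul]
      _ = z := by rw [mul_assoc, ← e, mul_one]

theorem card_repSet {m : ℕ} (L : Fin m → M6) (hL : ∀ i, L i ∈ wList) (hi : Function.Injective L) :
    Nat.card {x : G // ∃ i j, Rep B x (L i) (L j)} = m * m * 4 := by
  choose r hr using fun p : Fin m × Fin m => exists_rep (B := B) (hL p.1) (hL p.2)
  have hzero : ∀ p : (Fin m × Fin m) × Zv B, Rep B (r p.1 * (p.2 : G)) (L p.1.1) (L p.1.2) := fun p => by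
    have h := (hr p.1).mul (rep_inV p.2.2)
    rwa [add_zero, add_zero] at h
  let f : (Fin m × Fin m) × Zv B → {x : G // ∃ i j, Rep B x (L i) (L j)} := fun p =>
    ⟨_, p.1.1, p.1.2, hzero p⟩
  have hf : Function.Bijective f := by
    constructor
    · intro p p' e
      have e' : r p.1 * (p.2 : G) = r p'.1 * (p'.2 : G) := congrArg Subtype.val e
      obtain ⟨e1, e2⟩ := (hzero p).unique (e' ▸ hzero p')
      have hp : p.1 = p'.1 := Prod.ext (hi e1) (hi e2)
      rw [hp] at e'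
      exact Prod.ext hp (Subtype.ext (mul_left_cancel e'))
    · rintro ⟨x, i, j, h⟩
      obtain ⟨v, hv, e⟩ := (hr (i, j)).eq_mul h
      exact ⟨((i, j), ⟨v, hv⟩), Subtype.ext e.symm⟩
  rw [← Nat.card_eq_of_bijective f hf, Nat.card_prod, Nat.card_prod, Nat.card_fin, card_Zv]

/-- The two coordinates of a maximal elementary abelian subgroup. -/
def eF (l : Fin 4) : Fin 2 → M6 := ![0, kF l]

theorem eF_add : ∀ l, ∀ i j : Fin 2, eF l (i + j) = eF l i + eF l j := by decide +kernel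

theorem eF_zero : ∀ l, eF l 0 = 0 := by decide +kernel

/-- The elementary abelian subgroups of order sixteen. -/
def Ek (B : Base D) (l : Fin 4) : Subgroup G where
  carrier := {x | ∃ i j, Rep B x (eF l i) (eF l j)}
  one_mem' := ⟨0, 0, by rw [eF_zero]; exact rep_inV inV_one⟩
  mul_mem' := by
    rintro x x' ⟨i, j, h⟩ ⟨i', j', h'⟩
    exact ⟨i + i', j + j', by rw [eF_add, eF_add]; exact h.mul h'⟩
  inv_mem' := by
    rintro x ⟨i, j, h⟩
    exact ⟨i, j, h.sq_zero⟩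

theorem e_facts : (∀ l ∈ ([1, 2] : List (Fin 4)), (∀ i, eF l i ∈ wList ∧ ∃ k, kF k = eF l i) ∧
      (eF l 0 ≠ eF l 1) ∧ ∀ i j, bS (eF l i) (eF l j) = 0 ∧ bT (eF l i) (eF l j) = 0) ∧
    (∀ i, kF i ∈ wList) ∧ (∀ i j, kF i = kF j → i = j) ∧
    (∀ i j, bS (kF i) (kF j) = 0 → bT (kF i) (kF j) = 0 → ∃ a b : Fin 2,
      (kF i = eF 1 a ∧ kF j = eF 1 b) ∨ (kF i = eF 2 a ∧ kF j = eF 2 b)) ∧
    (∀ p ∈ ([(1, 2), (2, 1)] : List (Fin 4 × Fin 4)), ∀ i j a b : Fin 2,
      bS (eF p.1 i + eF p.2 a) (eF p.1 j + eF p.2 b) = bS (eF p.1 i) (eF p.1 j) + bS (eF p.2 a) (eF p.2 b) →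
      bT (eF p.1 i + eF p.2 a) (eF p.1 j + eF p.2 b) = bT (eF p.1 i) (eF p.1 j) + bT (eF p.2 a) (eF p.2 b) →
      (a = 0 ∧ b = 0) ∨ (i = 0 ∧ j = 0)) ∧
    (∀ i j a b : Fin 2, eF 1 i = eF 2 a → eF 1 j = eF 2 b → i = 0 ∧ j = 0) := by decide +kernel

theorem mem_Zv {x : G} : x ∈ Zv B ↔ Rep B x 0 0 := ⟨rep_inV, Rep.inV_of_zero⟩

theorem z_Zv : z ∈ Zv B := inV_z (B := B)

variable {l : Fin 4} (hl : l ∈ ([1, 2] : List (Fin 4)))
include hl

theorem card_Ek : Nat.card (Ek B l) = 16 := by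
  obtain ⟨h1, h2, -⟩ := e_facts.1 l hl
  refine (card_repSet (B := B) (eF l) (fun i => (h1 i).1) ?_).trans (by norm_num)
  intro a b e
  fin_cases a <;> fin_cases b
  exacts [rfl, absurd e h2, absurd e.symm h2, rfl]

theorem Ek_sq {x : G} (hx : x ∈ Ek B l) : x * x = 1 := by
  obtain ⟨i, j, h⟩ := hx
  exact h.invol_iff.2 ((e_facts.1 l hl).2.2 i j)

omit hl in
theorem Zv_le_Ek (l : Fin 4) : Zv B ≤ Ek B l := fun x hx =>
  ⟨0, 0, by rw [eF_zero]; exact mem_Zv.1 hx⟩

omit hl in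
theorem Ek_inf : Ek B 1 ⊓ Ek B 2 = Zv B := by
  refine le_antisymm ?_ (le_inf (Zv_le_Ek 1) (Zv_le_Ek 2))
  rintro x ⟨⟨i, j, h⟩, a, b, h'⟩
  obtain ⟨e1, e2⟩ := h.unique h'
  obtain ⟨rfl, rfl⟩ := e_facts.2.2.2.2.2 i j a b e1 e2
  rw [eF_zero] at h
  exact mem_Zv.2 h

omit hl in
theorem Ek_cross {l l' : Fin 4} (hp : (l, l') ∈ ([(1, 2), (2, 1)] : List (Fin 4 × Fin 4))) {x e : G}
    (he : e ∈ Ek B l) (hx : x ∈ Ek B l') (hxZ : x ∉ Zv B) (hc : e * x = x * e) : e ∈ Zv B := by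
  obtain ⟨i, j, h⟩ := he
  obtain ⟨a, b, h'⟩ := hx
  obtain ⟨c1, c2⟩ := (h.comm_iff h').1 hc
  rcases e_facts.2.2.2.2.1 (l, l') hp i j a b c1 c2 with ⟨rfl, rfl⟩ | ⟨rfl, rfl⟩
  · rw [eF_zero] at h'
    exact absurd (mem_Zv.2 h') hxZ
  · rw [eF_zero] at h
    exact mem_Zv.2 h

variable (T : Three D y) (hS : Seed B y t)
include T hS

theorem Ek_le_S : Ek B l ≤ hS.S T := by
  rintro x ⟨i, j, h⟩
  obtain ⟨a, ha⟩ := ((e_facts.1 l hl).1 i).2
  obtain ⟨b, hb⟩ := ((e_facts.1 l hl).1 j).2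
  exact (hS.mem_S T).2 ⟨a, b, by rw [ha, hb]; exact h⟩

omit hl in
theorem Seed.card_S : Nat.card (hS.S T) = 64 := by
  rw [show (64 : ℕ) = 4 * 4 * 4 by norm_num, ← card_repSet (B := B) kF e_facts.2.1 fun a b e => e_facts.2.2.1 a b e]
  exact Nat.card_congr (Equiv.subtypeEquivRight fun x => hS.mem_S T)

omit hl in
theorem Seed.involution {x : G} (hx : x ∈ hS.S T) (h2 : x * x = 1) : x ∈ Ek B 1 ∨ x ∈ Ek B 2 := by
  obtain ⟨i, j, h⟩ := (hS.mem_S T).1 hx
  obtain ⟨c1, c2⟩ := h.invol_iff.1 h2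
  obtain ⟨a, b, ⟨e1, e2⟩ | ⟨e1, e2⟩⟩ := e_facts.2.2.2.1 i j c1 c2
  · exact Or.inl ⟨a, b, e1 ▸ e2 ▸ h⟩
  · exact Or.inr ⟨a, b, e1 ▸ e2 ▸ h⟩

omit hl in
theorem Seed.Zv_central {i x : G} (hi : i ∈ Zv B) (hx : x ∈ hS.S T) : x * i = i * x := by
  obtain ⟨a, b, h⟩ := (hS.mem_S T).1 hx
  exact h.comm_inV hi

/-! ### Involutions inverting the element of order three -/

omit hl T hS in
theorem sigma_facts : (∀ u ∈ ([[16, 17], [32, 33], [48, 49]] : List (List ℕ)), okL u = true ∧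
      ∀ n : Fin 64, qN (aN u n.val ^^^ n.val) = false → aN u n.val ^^^ n.val ∈ ([0, 1] : List ℕ)) ∧
    (∀ n : Fin 64, bN n.val 1 = false →
      ∀ p ∈ ([(vec 16, vec 32), (vec 32, vec 48), (vec 48, vec 16)] : List (M6 × M6)),
      red (vec n.val) = p.1 → red (vec (aN (w0 ++ w0) n.val)) ≠ p.2) ∧
    aN w0 16 = 32 ∧
    (∀ i : Fin 108, aN (el i.val ++ wJ) 1 = 1 →
      red (vec (aN (el i.val ++ wJ) 2)) = vec 8 ∧ red (vec (aN (el i.val ++ wJ) 8)) = vec 2) ∧
    sameW (wJ ++ wJ) [] = true ∧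
    (∀ i j, bS (kF i) (kF j) = 0 → bT (kF i) (kF j) = 0 → (kF i = 0 ∧ kF j = 0) ∨
      ∃ p ∈ ([(1, 2), (2, 1)] : List (Fin 4 × Fin 4)),
        (bS (kF i + 0) (kF j + kF p.1) = bS (kF i) (kF j) + bS 0 (kF p.1) ∧
          bT (kF i + 0) (kF j + kF p.1) = bT (kF i) (kF j) + bT 0 (kF p.1)) ∧
        ¬ (bS (kF i + 0) (kF j + kF p.2) = bS (kF i) (kF j) + bS 0 (kF p.2) ∧
          bT (kF i + 0) (kF j + kF p.2) = bT (kF i) (kF j) + bT 0 (kF p.2))) ∧
    (∀ l, bf (kF l) e0 = 0 ∧ red (kF l) = kF l) ∧ kF 1 = vec 2 ∧ kF 2 = vec 8 ∧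
    bf (vec 16) e0 = 0 ∧ aN (w0 ++ w0) 1 = 1 := by decide +kernel

omit hl in
/-- An involution inverting the element of order three and normalising the four group fixes only the central
involution among the involutions of the Sylow subgroup. -/
theorem Seed.outer {σ : G} (hσC : σ ∈ centralizer ({z} : Set G)) (hσ2 : σ * σ = 1) (hinv : σ * y * σ⁻¹ = y⁻¹)
    (hnorm : ∀ v ∈ hS.V0 T, σ * v * σ⁻¹ ∈ hS.V0 T) {x : G} (hx : x ∈ hS.S T) (hx2 : x * x = 1) (hx1 : x ≠ 1)
    (hxσ : σ * x = x * σ) : x = z := by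
  obtain ⟨sf1, sf2, sf3, sf4, sf5, sf6, sf7, k1e, k2e, b16, f1⟩ := sigma_facts
  set h := actG D σ with hh
  have σinv : σ⁻¹ = σ := inv_eq_of_mul_eq_one_right hσ2
  have hσz : σ * z = z * σ := mem_centralizer_singleton_iff.1 hσC
  have htC := hS.rep.mem_C
  have hne : σ * t * σ⁻¹ ≠ 1 := fun e => (hS.distinct T).1 (conj_eq_one_iff.1 e)
  -- the axis is fixed
  obtain ⟨p, hp, -, hrp, -⟩ := hS.rep_cases T (hnorm t (hS.t_mem T)) hne
  have he : h.1 e0 = e0 := by
    obtain ⟨u, hu, hact⟩ : ∃ u ∈ ([[16, 17], [32, 33], [48, 49]] : List (List ℕ)),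
        actG D (σ * t * σ⁻¹) = oW u := by
      simp only [List.mem_cons, List.not_mem_nil, or_false] at hp
      rcases hp with rfl | rfl | rfl
      · exact ⟨_, List.Mem.head _, act_of_rep hrp u_words.1 u_words.2.2.1 u_words.2.2.2.1 u_words.2.2.2.2.2.2.1⟩
      · exact ⟨_, List.Mem.tail _ (List.Mem.head _),
          act_of_rep hrp u_words.2.1 u_words.2.2.2.2.1 u_words.2.2.2.2.2.1 u_words.2.2.2.2.2.2.2⟩
      · exact ⟨_, List.Mem.tail _ (List.Mem.tail _ (List.Mem.head _)),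
          act_of_rep (w' := vec 49) hrp turn_table.2.2.1 (by decide +kernel) (by decide +kernel) (by decide +kernel)⟩
    obtain ⟨okU, haxis⟩ := sf1 u hu
    rw [actG_mul D (mul_mem hσC htC) (inv_mem hσC), actG_mul D hσC htC, actG_inv D hσC, hS.act_t T, ← hh,
      mul_inv_eq_iff_eq_mul] at hact
    obtain ⟨k, hk, ek⟩ := exists_code (h.1 (vec 32))
    have hlt : aN u k ^^^ k < 64 := Nat.xor_lt_two_pow (n := 6) (aN_lt okU hk) hk
    have h1 : h.1 e0 = vec (aN u k ^^^ k) := by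
      rw [← vec1, ← u_axis.2.2.2.1, ← vec_add ⟨_, aN_lt u_words.1 (by norm_num : 32 < 64)⟩ ⟨32, by norm_num⟩,
        ← vec_add ⟨_, aN_lt okU hk⟩ ⟨k, hk⟩, map_add, ← oW_apply u_words.1 (by norm_num : 32 < 64),
        ← oW_apply okU hk, ek]
      show (h * oW [16, 17]).1 (vec 32) + _ = (oW u * h).1 (vec 32) + _
      rw [hact]
    have hq : qN (aN u k ^^^ k) = false := by
      have h2 := qf_oGroup h e0
      rw [h1, q_e0, vec_facts.2 ⟨_, hlt⟩] at h2
      revert h2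
      cases qN (aN u k ^^^ k) <;> decide
    have hm := haxis ⟨k, hk⟩ hq
    simp only [List.mem_cons, List.not_mem_nil, or_false] at hm
    rcases hm with e' | e'
    · rw [e', show vec 0 = 0 by decide +kernel] at h1
      exact absurd (h.1.injective (h1.trans (map_zero _).symm)) base_facts.2.2.2
    · rw [h1, e', vec1]
  have hhy : h * oW w0 = oW (w0 ++ w0) * h := by
    rw [hh, oW_append, ← T.act, ← actG_mul D hσC T.mem, ← actG_mul D T.mem T.mem,
      ← actG_mul D (mul_mem T.mem T.mem) hσC]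
    congr 1
    have hy2 : y * y = y⁻¹ := by
      rw [eq_comm, inv_eq_iff_mul_eq_one]
      calc y * (y * y) = y ^ 3 := by simp only [pow_succ, pow_zero, one_mul, mul_assoc]
        _ = 1 := T.three
    rw [hy2, ← hinv]; group
  -- the second involution is moved
  have hσs : σ * B.s * σ⁻¹ = B.s * z := by
    rcases eq_of_π D B.sQ (conj_mem_Q D hσC B.sQ) (by rw [actG_π D hσC B.sQ, B.πs, ← hh, he]) with e | e
    · exfalso
      have hrt := hS.rep.conj hσz (mul_inv_eq_iff_eq_mul.1 e)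
      obtain ⟨ep1, ep2⟩ := hrt.unique hrp
      obtain ⟨n, hn, en⟩ := exists_code (h.1 (vec 16))
      have hb : bN n 1 = false := by
        have h2 := bf_oGroup h (vec 16) e0
        rw [he, ← en, b16, ← vec1, bf_vec ⟨n, hn⟩ ⟨1, by norm_num⟩] at h2
        revert h2
        cases bN n 1 <;> decide
      refine sf2 ⟨n, hn⟩ hb p hp ?_ ?_
      · show red (vec n) = p.1
        rw [en]; exact ep1
      · show red (vec (aN (w0 ++ w0) n)) = p.2
        rw [← oW_apply (by rw [okL_append, okL_small.1]; rfl : okL (w0 ++ w0) = true) hn, en]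
        show red ((oW (w0 ++ w0) * h).1 (vec 16)) = p.2
        rw [← hhy]
        show red (h.1 ((oW w0).1 (vec 16))) = p.2
        rw [oW_apply okL_small.1 (by norm_num : 16 < 64), sf3]
        exact ep2
    · exact e
  -- the lines are exchanged
  have hswap : red (h.1 (vec 2)) = vec 8 ∧ red (h.1 (vec 8)) = vec 2 := by
    have okJ : okL wJ = true := okL_small.2.2.2.2.2.2
    have ok0 := okL_small.1
    have oks : ∀ {u v : List ℕ}, okL u = true → okL v = true → okL (u ++ v) = true := fun hu hv => by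
      rw [okL_append, hu, hv]; rfl
    obtain ⟨i, hi⟩ : ∃ i : Fin 108, h * oW wJ = oW (el i.val) := by
      refine mem_centraliser_comm (mul_mem (actG_mem D) ((parity_mem okJ).2 (by decide))) ?_
      have e1 : oW wJ * oW w0 = oW w0 * oW w0 * oW wJ := by
        rw [← oW_append, ← oW_append, ← oW_append]
        exact oW_eq (oks okJ ok0) (oks (oks ok0 ok0) okJ) (by simpa using wJ_facts.2.1)
      have y3' : oW w0 * oW w0 * oW w0 = 1 := by
        rw [← T.act, ← actG_mul D T.mem T.mem, ← actG_mul D (mul_mem T.mem T.mem) T.mem, ← actG_one D]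
        congr 1
        calc y * y * y = y ^ 3 := by simp only [pow_succ, pow_zero, one_mul]
          _ = 1 := T.three
      rw [oW_append] at hhy
      calc h * oW wJ * oW w0 = h * (oW wJ * oW w0) := mul_assoc _ _ _
        _ = (h * oW w0) * oW w0 * oW wJ := by rw [e1]; group
        _ = oW w0 * oW w0 * (h * oW w0) * oW wJ := by nth_rewrite 1 [hhy]; simp only [mul_assoc]
        _ = oW w0 * oW w0 * (oW w0 * oW w0 * h) * oW wJ := by rw [hhy]
        _ = (oW w0 * oW w0 * oW w0) * oW w0 * h * oW wJ := by group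
        _ = oW w0 * (h * oW wJ) := by rw [y3']; group
    have hW : h = oW (el i.val ++ wJ) := by
      have e2 : oW wJ * oW wJ = 1 := by
        rw [← oW_append, ← oW_nil]; exact oW_eq (oks okJ okJ) rfl sf5
      rw [oW_append, ← hi, mul_assoc, e2, mul_one]
    have okW : okL (el i.val ++ wJ) = true := oks (el_facts i).1 okJ
    have h1 : aN (el i.val ++ wJ) 1 = 1 := by
      refine vec_inj (aN_lt okW (by norm_num)) (by norm_num) ?_
      rw [← oW_apply okW (by norm_num : 1 < 64), ← hW, vec1, he]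
    obtain ⟨s1, s2⟩ := sf4 i h1
    rw [hW, oW_apply okW (by norm_num : 2 < 64), oW_apply okW (by norm_num : 8 < 64)]
    exact ⟨s1, s2⟩
  obtain ⟨i, j, hr⟩ := (hS.mem_S T).1 hx
  obtain ⟨c1, c2⟩ := hr.invol_iff.1 hx2
  rcases sf6 i j c1 c2 with ⟨z1, z2⟩ | ⟨p, hp, hcom, hncom⟩
  · rw [z1, z2] at hr
    rcases B.inV_cases hr.inV_of_zero with e | e | e | e
    · exact absurd e hx1
    · exact e
    · rw [e] at hxσ
      exfalso
      rw [hxσ, mul_inv_cancel_right] at hσs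
      exact D.pre.gen.ne_one (mul_eq_left.1 hσs.symm)
    · exfalso
      rw [e] at hxσ
      have h1 : σ * (z * B.s) * σ⁻¹ = z * B.s := by rw [hxσ, mul_inv_cancel_right]
      rw [show σ * (z * B.s) * σ⁻¹ = σ * z * σ⁻¹ * (σ * B.s * σ⁻¹) by group, hσs, hσz, mul_inv_cancel_right,
        ← mul_assoc] at h1
      exact D.pre.gen.ne_one (mul_eq_left.1 h1)
  · exfalso
    obtain ⟨a, ha, haπ⟩ := D.π_surj (kF p.1)
    have haA : a ∈ B.A := B.mem_A.2 ⟨ha, by rw [haπ]; exact (sf7 p.1).1⟩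
    have hra := rep_A (B := B) haA
    rw [haπ, (sf7 p.1).2] at hra
    have hxa : x * a = a * x := (hr.comm_iff hra).2 hcom
    have ha' : σ * a * σ⁻¹ ∈ B.A := by
      refine B.mem_A.2 ⟨conj_mem_Q D hσC ha, ?_⟩
      rw [actG_π D hσC ha, haπ]
      conv_lhs => arg 2; rw [← he]
      rw [bf_oGroup]
      exact (sf7 p.1).1
    have hra' := rep_A (B := B) ha'
    rw [actG_π D hσC ha, haπ, ← hh] at hra'
    have hval : red (h.1 (kF p.1)) = kF p.2 := by
      simp only [List.mem_cons, List.not_mem_nil, or_false] at hp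
      rcases hp with rfl | rfl
      · rw [k1e, k2e]; exact hswap.1
      · rw [k1e, k2e]; exact hswap.2
    rw [hval] at hra'
    refine hncom ((hr.comm_iff hra').1 ?_)
    have hxx : σ * x * σ⁻¹ = x := by rw [hxσ, mul_inv_cancel_right]
    calc x * (σ * a * σ⁻¹) = σ * x * σ⁻¹ * (σ * a * σ⁻¹) := by rw [hxx]
      _ = σ * (x * a) * σ⁻¹ := by group
      _ = σ * (a * x) * σ⁻¹ := by rw [hxa]
      _ = σ * a * σ⁻¹ * (σ * x * σ⁻¹) := by group
      _ = _ := by rw [hxx]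

end CfsgLib.SuzSeven
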