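import Mathlib.GroupTheory.Sylow
import Mathlib.GroupTheory.GroupAction.Quotient
import Mathlib.Tactic.Group
import Mathlib.GroupTheory.IndexNormal
import Mathlib.Combinatorics.Enumerative.DoubleCounting
import Mathlib.GroupTheory.SpecificGroups.Cyclic

/-!
A group with one class of involutions whose Sylow 2-subgroup has order 64 with two elementary abelian
subgroups of order 16: counting with the conjugates of one of them.
-/

set_option autoImplicit false
set_option linter.style.haveILetI false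

namespace CfsgLib.SuzSeven

open Subgroup

/-- The configuration. -/
structure Conf {K : Type*} [Group K] (z : K) (S E E' Z : Subgroup K) : Prop where
  cent : centralizer ({z} : Set K) = S
  cardS : Nat.card S = 64
  cardE : Nat.card E = 16
  cardE' : Nat.card E' = 16
  cardZ : Nat.card Z = 4
  sqE : ∀ e ∈ E, e * e = 1
  sqE' : ∀ e ∈ E', e * e = 1
  leE : E ≤ S
  leE' : E' ≤ S
  inf : E ⊓ E' = Z
  zZ : z ∈ Z
  zne : z ≠ 1
  invol : ∀ x ∈ S, x * x = 1 → x ∈ E ∨ x ∈ E'
  cross : ∀ e ∈ E, ∀ x ∈ E', x ∉ Z → e * x = x * e → e ∈ Z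
  central : ∀ i ∈ Z, ∀ x ∈ S, x * i = i * x
  normE : ∀ s ∈ S, ∀ e ∈ E, s * e * s⁻¹ ∈ E
  normE' : ∀ s ∈ S, ∀ e ∈ E', s * e * s⁻¹ ∈ E'
  one : ∀ x : K, x * x = 1 → x ≠ 1 → IsConj z x

/-- A class and a centraliser. -/
theorem card_class {M : Type*} [Group M] [Finite M] (x : M) :
    Nat.card {y // IsConj x y} * Nat.card (centralizer ({x} : Set M)) = Nat.card M := by
  have h := card_mul_index (MulAction.stabilizer (ConjAct M) x)
  rw [MulAction.index_stabilizer, ← Nat.card_coe_set_eq, Nat.card_congr ConjAct.ofConjAct.toEquiv] at h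
  rw [← h, mul_comm, Nat.card_congr (Equiv.subtypeEquivRight (fun y => by
    rw [isConj_comm, ← ConjAct.mem_orbit_conjAct]) : {y // IsConj x y} ≃ MulAction.orbit (ConjAct M) x)]
  congr 1
  refine Nat.card_congr (ConjAct.toConjAct.toEquiv.subtypeEquiv fun a => ?_)
  simp only [mem_centralizer_singleton_iff, MulAction.mem_stabilizer_iff, MulEquiv.toEquiv_eq_coe, MulEquiv.coe_toEquiv,
    ConjAct.toConjAct_smul, mul_inv_eq_iff_eq_mul]

variable {K : Type*} [Group K] [Finite K] {z : K} {S E E' Z : Subgroup K} (C : Conf z S E E' Z)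
include C

theorem Conf.ne : E ≠ E' := fun e => by
  have h := C.inf
  rw [← e, inf_idem] at h
  have := C.cardE
  rw [h, C.cardZ] at this
  omega

omit [Finite K] in
theorem Conf.commE {a b : K} (ha : a ∈ E) (hb : b ∈ E) : a * b = b * a := by
  have h1 := inv_eq_of_mul_eq_one_right (C.sqE _ ha)
  have h2 := inv_eq_of_mul_eq_one_right (C.sqE _ hb)
  have h3 := inv_eq_of_mul_eq_one_right (C.sqE _ (mul_mem ha hb))
  rw [mul_inv_rev, h1, h2] at h3
  exact h3.symm

theorem Conf.elem {A : Subgroup K} (hA : A ≤ S) (hsq : ∀ a ∈ A, a * a = 1) (hc : Nat.card A = 16) :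
    A = E ∨ A = E' := by
  by_cases h1 : A ≤ E
  · exact Or.inl (eq_of_le_of_card_ge h1 (by rw [hc, C.cardE]))
  by_cases h2 : A ≤ E'
  · exact Or.inr (eq_of_le_of_card_ge h2 (by rw [hc, C.cardE']))
  exfalso
  obtain ⟨a, ha, hane⟩ := SetLike.not_le_iff_exists.1 h1
  obtain ⟨b, hb, hbne⟩ := SetLike.not_le_iff_exists.1 h2
  have haE : a ∈ E' := (C.invol a (hA ha) (hsq a ha)).resolve_left hane
  have hbE : b ∈ E := (C.invol b (hA hb) (hsq b hb)).resolve_right hbne
  rcases C.invol _ (hA (mul_mem ha hb)) (hsq _ (mul_mem ha hb)) with h | h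
  · exact hane ((mul_mem_cancel_right hbE).1 h)
  · exact hbne ((mul_mem_cancel_left haE).1 h)

/-- Every 2-subgroup containing the centraliser equals it. -/
theorem Conf.sylow_max {P : Subgroup K} (hP : IsPGroup 2 P) (hSP : S ≤ P) : P = S := by
  haveI : Fact (Nat.Prime 2) := ⟨Nat.prime_two⟩
  have hzS : z ∈ S := C.leE (by rw [← C.inf] at *; exact (C.inf.symm ▸ C.zZ : z ∈ E ⊓ E').1)
  haveI : Nontrivial P := (nontrivial_iff_exists_ne_one _).2 ⟨z, hSP hzS, C.zne⟩
  haveI := hP.center_nontrivial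
  obtain ⟨w, hw⟩ := exists_ne (1 : center P)
  obtain ⟨n, hn⟩ := (hP.to_subgroup (center P)) w
  obtain ⟨u, hu, hu2, hu1⟩ : ∃ u ∈ center P, u * u = 1 ∧ u ≠ 1 := by
    induction n generalizing w with
    | zero => exact absurd (by rw [pow_zero, pow_one] at hn; exact hn) hw
    | succ n ih =>
      by_cases h2 : w * w = 1
      · exact ⟨w, w.2, congrArg Subtype.val h2, fun e => hw (Subtype.ext e)⟩
      · exact ih (w * w) h2 (by rw [← pow_two, ← pow_mul, ← pow_succ']; exact hn)
  obtain ⟨g, hg⟩ := isConj_iff.1 (C.one (u : K) (congrArg Subtype.val hu2) (fun e => hu1 (Subtype.ext e)))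
  have hle : P ≤ centralizer ({(u : K)} : Set K) := fun p hp =>
    mem_centralizer_singleton_iff.2 (congrArg Subtype.val (mem_center_iff.1 hu ⟨p, hp⟩))
  have hmap : centralizer ({(u : K)} : Set K) ≤ S.map (MulAut.conj g).toMonoidHom := by
    intro p hp
    refine ⟨g⁻¹ * p * g, ?_, by show g * (g⁻¹ * p * g) * g⁻¹ = p; group⟩
    rw [SetLike.mem_coe, ← C.cent, mem_centralizer_singleton_iff]
    have h := mem_centralizer_singleton_iff.1 hp
    rw [← hg] at h
    calc g⁻¹ * p * g * z = g⁻¹ * (p * (g * z * g⁻¹)) * g := by group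
      _ = g⁻¹ * (g * z * g⁻¹ * p) * g := by rw [h]
      _ = z * (g⁻¹ * p * g) := by group
  refine (eq_of_le_of_card_ge hSP ?_).symm
  calc Nat.card P ≤ Nat.card (S.map (MulAut.conj g).toMonoidHom) :=
        Nat.le_of_dvd Nat.card_pos (card_dvd_of_le (hle.trans hmap))
    _ = Nat.card S := card_map_of_injective (MulAut.conj g).injective

/-- An element normalising the Sylow subgroup does not exchange the two subgroups. -/
theorem Conf.fix_pair {g : K} (hg : S.map (MulAut.conj g).toMonoidHom = S) :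
    E.map (MulAut.conj g).toMonoidHom = E := by
  haveI : Fact (Nat.Prime 2) := ⟨Nat.prime_two⟩
  set f : K → Subgroup K → Subgroup K := fun g A => A.map (MulAut.conj g).toMonoidHom with hf
  have hcomp : ∀ (a b : K) (A : Subgroup K), f a (f b A) = f (a * b) A := fun a b A => by
    simp only [hf, Subgroup.map_map]
    congr 1
    ext x
    simp [mul_assoc]
  have himg : ∀ k : K, f k S = S → f k E = E ∨ f k E = E' := by
    intro k hk
    refine C.elem ?_ ?_ ?_
    · calc f k E ≤ f k S := map_mono C.leE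
        _ = S := hk
    · rintro _ ⟨e, he, rfl⟩
      show (MulAut.conj k) e * (MulAut.conj k) e = 1
      rw [← map_mul, C.sqE e he, map_one]
    · show Nat.card (E.map _) = 16
      rw [card_map_of_injective (MulAut.conj k).injective, C.cardE]
  have himg' : ∀ k : K, f k S = S → f k E' = E ∨ f k E' = E' := by
    intro k hk
    refine C.elem ?_ ?_ ?_
    · calc f k E' ≤ f k S := map_mono C.leE'
        _ = S := hk
    · rintro _ ⟨e, he, rfl⟩
      show (MulAut.conj k) e * (MulAut.conj k) e = 1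
      rw [← map_mul, C.sqE' e he, map_one]
    · show Nat.card (E'.map _) = 16
      rw [card_map_of_injective (MulAut.conj k).injective, C.cardE']
  rcases himg g hg with h | h
  · exact h
  exfalso
  have h' : f g E' = E := by
    rcases himg' g hg with h' | h'
    · exact h'
    · exact absurd (map_injective (MulAut.conj g).injective (h.trans h'.symm)) C.ne
  have hpow : ∀ n : ℕ, f (g ^ n) S = S ∧ f (g ^ n) E = if Even n then E else E' := by
    intro n
    induction n with
    | zero => constructor <;> ext <;> simp [hf]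
    | succ n ih =>
      rw [pow_succ', ← hcomp, ← hcomp, ih.1, ih.2]
      refine ⟨hg, ?_⟩
      rcases Nat.even_or_odd n with hn | hn
      · rw [if_pos hn, if_neg (Nat.not_even_iff_odd.2 hn.add_one)]; exact h
      · rw [if_neg (Nat.not_even_iff_odd.2 hn), if_pos hn.add_one]; exact h'
  obtain ⟨a, b, hb, hab⟩ := Nat.exists_eq_two_pow_mul_odd (orderOf_pos g).ne'
  obtain ⟨q, hq⟩ : ∃ q, q = g ^ b := ⟨_, rfl⟩
  have hqS : f q S = S := hq ▸ (hpow b).1
  have hqE : f q E = E' := by rw [hq, (hpow b).2, if_neg (Nat.not_even_iff_odd.2 hb)]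
  have hqn : q ∈ normalizer (S : Set K) := by
    rw [mem_normalizer_iff]
    intro x
    constructor
    · intro hx; rw [← hqS]; exact ⟨x, hx, rfl⟩
    · intro hx
      rw [← hqS] at hx
      obtain ⟨x', hx', e⟩ := hx
      have : x' = x := (MulAut.conj q).injective e
      exact this ▸ hx'
  have hq2 : IsPGroup 2 (zpowers q) := by
    refine IsPGroup.of_card (n := Nat.log 2 (Nat.card (zpowers q))) ?_
    have hd : Nat.card (zpowers q) ∣ 2 ^ a := by
      rw [Nat.card_zpowers]
      refine orderOf_dvd_of_pow_eq_one ?_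
      rw [hq, ← pow_mul, mul_comm, ← hab, pow_orderOf_eq_one]
    obtain ⟨k, -, hk⟩ := (Nat.dvd_prime_pow Nat.prime_two).1 hd
    rw [hk, Nat.log_pow (by norm_num)]
  have hP : IsPGroup 2 ↥(zpowers q ⊔ S) :=
    hq2.to_sup_of_normal_right' (IsPGroup.of_card (n := 6) (by rw [C.cardS]; rfl)) (zpowers_le.2 hqn)
  have hmem : q ∈ S := by rw [← C.sylow_max hP le_sup_right]; exact mem_sup_left (mem_zpowers q)
  refine C.ne (Eq.trans ?_ hqE)
  refine (eq_of_le_of_card_ge ?_ (le_of_eq (card_map_of_injective (MulAut.conj q).injective).symm)).symm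
  rintro _ ⟨e, he, rfl⟩
  exact C.normE q hmem e he

omit [Finite K] in
theorem Conf.zS : z ∈ S := by rw [← C.cent, mem_centralizer_singleton_iff]

omit [Finite K] in
theorem Conf.zE : z ∈ E := (C.inf.symm ▸ C.zZ : z ∈ E ⊓ E').1

omit [Finite K] in
theorem Conf.zz : z * z = 1 := C.sqE z C.zE

omit [Finite K] in
theorem Conf.le_norm {A : Subgroup K} (hA : ∀ s ∈ S, ∀ e ∈ A, s * e * s⁻¹ ∈ A) : S ≤ normalizer (A : Set K) := by
  intro s hs
  rw [mem_normalizer_iff]
  refine fun x => ⟨hA s hs x, fun h => ?_⟩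
  have := hA s⁻¹ (inv_mem hs) _ h
  convert this using 1
  group

/-- In a subgroup containing the Sylow subgroup, the subgroups of order 64 are conjugate to it. -/
theorem Conf.conj_in {M T : Subgroup K} (hSM : S ≤ M) (hTM : T ≤ M) (hT : Nat.card T = 64) :
    ∃ n ∈ M, T.map (MulAut.conj n).toMonoidHom = S := by
  haveI : Fact (Nat.Prime 2) := ⟨Nat.prime_two⟩
  have hp : ∀ {A : Subgroup K}, A ≤ M → Nat.card A = 64 → ∃ P : Sylow 2 M, A.subgroupOf M ≤ P := fun hA hc =>
    (IsPGroup.of_card (n := 6) (by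
      rw [Nat.card_congr (subgroupOfEquivOfLe hA).toEquiv, hc]; rfl)).exists_le_sylow
  obtain ⟨P0, hP0⟩ := hp hSM C.cardS
  obtain ⟨P, hP⟩ := hp hTM hT
  have h0 : (P0 : Subgroup M).map M.subtype = S :=
    C.sylow_max (P0.isPGroup'.map _) (fun s hs => ⟨⟨s, hSM hs⟩, hP0 (mem_subgroupOf.2 hs), rfl⟩)
  obtain ⟨n, hn⟩ := MulAction.exists_smul_eq M P P0
  refine ⟨n, n.2, eq_of_le_of_card_ge ?_ ?_⟩
  · rintro _ ⟨t, ht, rfl⟩
    rw [← h0]
    refine ⟨n * ⟨t, hTM ht⟩ * n⁻¹, ?_, rfl⟩
    rw [SetLike.mem_coe, ← hn]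
    exact ⟨⟨t, hTM ht⟩, hP (mem_subgroupOf.2 ht), rfl⟩
  · rw [card_map_of_injective (MulAut.conj (n : K)).injective, hT, C.cardS]

theorem Conf.noswap (g : K) : E'.map (MulAut.conj g).toMonoidHom ≠ E := by
  intro hg
  have hTN : S.map (MulAut.conj g).toMonoidHom ≤ normalizer (E : Set K) := by
    rintro _ ⟨s, hs, rfl⟩
    rw [mem_normalizer_iff]
    intro x
    have h := (mem_normalizer_iff.1 (C.le_norm C.normE' hs)) (g⁻¹ * x * g)
    constructor
    · intro hx
      rw [← hg] at hx
      obtain ⟨e, he, rfl⟩ := hx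
      rw [← hg]
      exact ⟨s * e * s⁻¹, C.normE' s hs e he, by simp [mul_assoc]⟩
    · intro hx
      rw [← hg] at hx
      obtain ⟨e, he, hex⟩ := hx
      have hex' : g * e * g⁻¹ = g * s * g⁻¹ * x * (g * s * g⁻¹)⁻¹ := hex
      have hse : e = s * (g⁻¹ * x * g) * s⁻¹ := by
        calc e = g⁻¹ * (g * e * g⁻¹) * g := by group
          _ = _ := by rw [hex']; group
      rw [← hg]
      exact ⟨g⁻¹ * x * g, h.2 (hse ▸ he), by simp [mul_assoc]⟩
  obtain ⟨n, hn, hns⟩ := C.conj_in (C.le_norm C.normE) hTN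
    ((card_map_of_injective (MulAut.conj g).injective).trans C.cardS)
  have hcomp : ∀ A : Subgroup K, (A.map (MulAut.conj g).toMonoidHom).map (MulAut.conj n).toMonoidHom
      = A.map (MulAut.conj (n * g)).toMonoidHom := fun A => by
    rw [Subgroup.map_map]; congr 1; ext x; simp [mul_assoc]
  rw [hcomp] at hns
  have h1 := C.fix_pair hns
  have h2 : E'.map (MulAut.conj (n * g)).toMonoidHom = E := by
    rw [← hcomp, hg]
    refine eq_of_le_of_card_ge ?_ (le_of_eq (card_map_of_injective (MulAut.conj n).injective).symm)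
    rintro _ ⟨e, he, rfl⟩
    exact (mem_normalizer_iff.1 hn e).1 he
  exact C.ne (map_injective (MulAut.conj (n * g)).injective (h1.trans h2.symm))

/-- The centraliser of a conjugate of `z`. -/
theorem Conf.cent_conj {g e : K} (hg : g * z * g⁻¹ = e) :
    centralizer ({e} : Set K) = S.map (MulAut.conj g).toMonoidHom := by
  subst hg
  ext p
  constructor
  · intro hp
    refine ⟨g⁻¹ * p * g, ?_, by show g * (g⁻¹ * p * g) * g⁻¹ = p; group⟩
    rw [SetLike.mem_coe, ← C.cent, mem_centralizer_singleton_iff]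
    have h := mem_centralizer_singleton_iff.1 hp
    calc g⁻¹ * p * g * z = g⁻¹ * (p * (g * z * g⁻¹)) * g := by group
      _ = g⁻¹ * (g * z * g⁻¹ * p) * g := by rw [h]
      _ = z * (g⁻¹ * p * g) := by group
  · rintro ⟨s, hs, rfl⟩
    rw [SetLike.mem_coe, ← C.cent, mem_centralizer_singleton_iff] at hs
    rw [mem_centralizer_singleton_iff]
    show g * s * g⁻¹ * (g * z * g⁻¹) = g * z * g⁻¹ * (g * s * g⁻¹)
    calc g * s * g⁻¹ * (g * z * g⁻¹) = g * (s * z) * g⁻¹ := by group
      _ = g * (z * s) * g⁻¹ := by rw [hs]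
      _ = _ := by group

theorem Conf.card_cent {e : K} (h : e * e = 1) (h1 : e ≠ 1) :
    Nat.card (centralizer ({e} : Set K)) = 64 := by
  obtain ⟨g, hg⟩ := isConj_iff.1 (C.one e h h1)
  rw [C.cent_conj hg, card_map_of_injective (MulAut.conj g).injective, C.cardS]

/-- The normaliser of `E` is transitive on the involutions of `E`. -/
theorem Conf.fusion {e : K} (he : e ∈ E) (h1 : e ≠ 1) :
    ∃ n ∈ normalizer (E : Set K), n * z * n⁻¹ = e := by
  obtain ⟨g, hg⟩ := isConj_iff.1 (C.one e (C.sqE e he) h1)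
  refine ⟨g, ?_, hg⟩
  have hE : E ≤ S.map (MulAut.conj g).toMonoidHom := by
    rw [← C.cent_conj hg]
    exact fun x hx => mem_centralizer_singleton_iff.2 (C.commE hx he)
  obtain ⟨A, hA⟩ : ∃ A, A = E.map (MulAut.conj g⁻¹).toMonoidHom := ⟨_, rfl⟩
  have hback : A.map (MulAut.conj g).toMonoidHom = E := by
    rw [hA, Subgroup.map_map]
    ext x
    simp [mul_assoc]
  rcases C.elem (A := A) (by
      rintro _ hx
      rw [hA] at hx
      obtain ⟨x, hx, rfl⟩ := hx
      obtain ⟨s, hs, hsx⟩ := hE hx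
      rw [← hsx]
      show g⁻¹ * (g * s * g⁻¹) * g⁻¹⁻¹ ∈ S
      rw [show g⁻¹ * (g * s * g⁻¹) * g⁻¹⁻¹ = s by group]
      exact hs)
    (by
      intro a ha
      rw [hA] at ha
      obtain ⟨x, hx, rfl⟩ := ha
      show (MulAut.conj g⁻¹) x * (MulAut.conj g⁻¹) x = 1
      rw [← map_mul, C.sqE x hx, map_one])
    (by rw [hA, card_map_of_injective (MulAut.conj g⁻¹).injective, C.cardE]) with h | h
  · rw [mem_normalizer_iff]
    intro x
    rw [h] at hback
    constructor
    · intro hx
      rw [← hback]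
      exact ⟨x, hx, rfl⟩
    · intro hx
      rw [← hback] at hx
      obtain ⟨x', hx', hxx⟩ := hx
      exact (MulAut.conj g).injective hxx ▸ hx'
  · exact absurd (h ▸ hback) (C.noswap g)

theorem Conf.card_star {A : Subgroup K} {n : ℕ} (h : Nat.card A = n + 1) :
    Nat.card {e : K // e ∈ A ∧ e ≠ 1} = n := by
  have h2 := Set.ncard_diff_singleton_of_mem (s := (A : Set K)) A.one_mem
  rw [← Nat.card_coe_set_eq (A : Set K), SetLike.coe_sort_coe, h, Nat.add_sub_cancel,
    ← Nat.card_coe_set_eq] at h2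
  exact h2

theorem Conf.card_N : Nat.card (normalizer (E : Set K)) = 960 := by
  set N := normalizer (E : Set K) with hN
  have hSN : S ≤ N := C.le_norm C.normE
  have h := card_class (⟨z, hSN C.zS⟩ : N)
  have h1 : Nat.card {y // IsConj (⟨z, hSN C.zS⟩ : N) y} = 15 := by
    rw [← C.card_star (A := E) (n := 15) C.cardE]
    refine Nat.card_eq_of_bijective (fun y => ⟨y.1.1, ?_⟩) ⟨?_, ?_⟩
    · obtain ⟨c, hc⟩ := isConj_iff.1 y.2
      have hc' : (c : K) * z * (c : K)⁻¹ = y.1.1 := congrArg Subtype.val hc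
      rw [← hc']
      refine ⟨(mem_normalizer_iff.1 c.2 z).1 C.zE, fun e => C.zne ?_⟩
      rwa [conj_eq_one_iff] at e
    · intro a b hab
      exact Subtype.ext (Subtype.ext (congrArg Subtype.val hab :))
    · rintro ⟨e, he, he1⟩
      obtain ⟨n, hn, hne⟩ := C.fusion he he1
      exact ⟨⟨⟨e, hSN (C.leE he)⟩, isConj_iff.2 ⟨⟨n, hn⟩, Subtype.ext hne⟩⟩, rfl⟩
  have h2 : Nat.card (centralizer ({⟨z, hSN C.zS⟩} : Set N)) = 64 := by
    rw [← C.cardS]
    refine Nat.card_eq_of_bijective (fun c => (⟨c.1.1, ?_⟩ : S)) ⟨?_, ?_⟩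
    · have h : (c.1.1 : K) * z = z * c.1.1 := congrArg Subtype.val (mem_centralizer_singleton_iff.1 c.2)
      rw [← mem_centralizer_singleton_iff, C.cent] at h
      exact h
    · intro a b hab
      exact Subtype.ext (Subtype.ext (congrArg Subtype.val hab :))
    · rintro ⟨s, hs⟩
      refine ⟨⟨⟨s, hSN hs⟩, mem_centralizer_singleton_iff.2 (Subtype.ext ?_)⟩, rfl⟩
      exact mem_centralizer_singleton_iff.1 (C.cent.symm ▸ hs)
  rw [h1, h2] at h
  omega

/-- The involutions of `N`. -/
theorem Conf.card_invol :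
    Nat.card {x : K // x ∈ normalizer (E : Set K) ∧ x * x = 1 ∧ x ≠ 1} = 75 := by
  classical
  haveI := Fintype.ofFinite K
  set N := normalizer (E : Set K) with hN
  have hSN : S ≤ N := C.le_norm C.normE
  have hZE : Z ≤ E := C.inf ▸ inf_le_left
  have hZE' : Z ≤ E' := C.inf ▸ inf_le_right
  obtain ⟨s, hs⟩ : ∃ s, s = Finset.univ.filter fun x : K => x ∈ N ∧ x ∉ E ∧ x * x = 1 := ⟨_, rfl⟩
  obtain ⟨t, ht⟩ : ∃ t, t = Finset.univ.filter fun e : K => e ∈ E ∧ e ≠ 1 := ⟨_, rfl⟩
  have hms : ∀ x, x ∈ s ↔ x ∈ N ∧ x ∉ E ∧ x * x = 1 := by simp [hs]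
  have hmt : ∀ e, e ∈ t ↔ e ∈ E ∧ e ≠ 1 := by simp [ht]
  have htc : t.card = 15 := by
    rw [ht, ← Fintype.card_subtype, ← Nat.card_eq_fintype_card, C.card_star C.cardE]
  -- moving to the fixed Sylow subgroup
  have hmove : ∀ x ∈ s, ∀ n ∈ N, x * (n * z * n⁻¹) = n * z * n⁻¹ * x →
      ∃ x0, x0 ∈ E' ∧ x0 ∉ Z ∧ n * x0 * n⁻¹ = x := by
    intro x hx n hn hc
    obtain ⟨hxN, hxE, hxx⟩ := (hms x).1 hx
    have hx' : x ∈ centralizer ({n * z * n⁻¹} : Set K) := mem_centralizer_singleton_iff.2 hc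
    rw [C.cent_conj rfl] at hx'
    obtain ⟨x0, hx0, rfl⟩ := hx'
    have hxE' : n * x0 * n⁻¹ ∉ E := hxE
    have h0 : x0 * x0 = 1 := (MulAut.conj n).injective (by rw [map_mul, map_one]; exact hxx)
    have hE : x0 ∉ E := fun he => hxE' ((mem_normalizer_iff.1 hn x0).1 he)
    exact ⟨x0, (C.invol x0 hx0 h0).resolve_left hE, fun hz => hE (hZE hz), rfl⟩
  have habove : ∀ x ∈ s, (t.bipartiteAbove (fun x e => x * e = e * x) x).card = 3 := by
    intro x hx
    obtain ⟨hxN, hxE, hxx⟩ := (hms x).1 hx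
    obtain ⟨e0, he0, he01, hc0⟩ : ∃ e0, e0 ∈ E ∧ e0 ≠ 1 ∧ x * e0 = e0 * x := by
      by_cases hall : ∀ e ∈ E, x * e = e * x
      · exact ⟨z, C.zE, C.zne, hall z C.zE⟩
      push_neg at hall
      obtain ⟨e, he, hne⟩ := hall
      have hxi : x⁻¹ = x := inv_eq_of_mul_eq_one_right hxx
      have hcj : x * e * x⁻¹ ∈ E := (mem_normalizer_iff.1 hxN e).1 he
      refine ⟨e * (x * e * x⁻¹), mul_mem he hcj, fun h => hne ?_, ?_⟩
      · have h1 : x * e * x⁻¹ = e := (eq_inv_of_mul_eq_one_right h).trans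
          (inv_eq_of_mul_eq_one_right (C.sqE e he))
        calc x * e = (x * e * x⁻¹) * x := by group
          _ = e * x := by rw [h1]
      · calc x * (e * (x * e * x⁻¹)) = (x * e * x⁻¹) * (x * (x * e * x⁻¹)) := by group
          _ = (x * e * x⁻¹) * (e * x) := by
            congr 1
            rw [hxi, show x * (x * e * x) = x * x * (e * x) by group, hxx, one_mul]
          _ = ((x * e * x⁻¹) * e) * x := by group
          _ = e * (x * e * x⁻¹) * x := by rw [C.commE hcj he]
    obtain ⟨n, hn, hne⟩ := C.fusion he0 he01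
    obtain ⟨x0, hx0, hx0Z, rfl⟩ := hmove x hx n hn (by rw [hne]; exact hc0)
    have heq : t.bipartiteAbove (fun x e => x * e = e * x) (n * x0 * n⁻¹) =
        (Finset.univ.filter fun i : K => i ∈ Z ∧ i ≠ 1).image (MulAut.conj n) := by
      ext e
      simp only [Finset.mem_bipartiteAbove, hmt, Finset.mem_image, Finset.mem_filter, Finset.mem_univ,
        true_and, MulAut.conj_apply]
      constructor
      · rintro ⟨⟨he, he1⟩, hc⟩
        have he' : n⁻¹ * e * n ∈ E := by
          rw [mem_normalizer_iff.1 hn]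
          convert he using 1
          group
        refine ⟨n⁻¹ * e * n, ⟨C.cross _ he' x0 hx0 hx0Z ?_, ?_⟩, by group⟩
        · calc n⁻¹ * e * n * x0 = n⁻¹ * (e * (n * x0 * n⁻¹)) * n := by group
            _ = n⁻¹ * ((n * x0 * n⁻¹) * e) * n := by rw [hc]
            _ = x0 * (n⁻¹ * e * n) := by group
        · intro h
          apply he1
          calc e = n * (n⁻¹ * e * n) * n⁻¹ := by group
            _ = 1 := by rw [h]; group
      · rintro ⟨i, ⟨hi, hi1⟩, rfl⟩
        refine ⟨⟨(mem_normalizer_iff.1 hn i).1 (hZE hi), fun h => hi1 (conj_eq_one_iff.1 h)⟩, ?_⟩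
        calc n * x0 * n⁻¹ * (n * i * n⁻¹) = n * (x0 * i) * n⁻¹ := by group
          _ = n * (i * x0) * n⁻¹ := by rw [C.central i hi x0 (C.leE' hx0)]
          _ = _ := by group
    rw [heq, Finset.card_image_of_injective _ (MulAut.conj n).injective, ← Fintype.card_subtype,
      ← Nat.card_eq_fintype_card, C.card_star C.cardZ]
  have hbelow : ∀ e ∈ t, (s.bipartiteBelow (fun x e => x * e = e * x) e).card = 12 := by
    intro e he
    obtain ⟨n, hn, hne⟩ := C.fusion ((hmt e).1 he).1 ((hmt e).1 he).2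
    subst hne
    have heq : s.bipartiteBelow (fun x e => x * e = e * x) (n * z * n⁻¹) =
        (Finset.univ.filter fun a : K => a ∈ E' ∧ a ∉ Z).image (MulAut.conj n) := by
      ext x
      simp only [Finset.mem_bipartiteBelow, Finset.mem_image, Finset.mem_filter, Finset.mem_univ,
        true_and, MulAut.conj_apply]
      constructor
      · rintro ⟨hx, hc⟩
        obtain ⟨x0, h1, h2, h3⟩ := hmove x hx n hn hc
        exact ⟨x0, ⟨h1, h2⟩, h3⟩
      · rintro ⟨a, ⟨ha, haZ⟩, rfl⟩
        refine ⟨(hms _).2 ⟨mul_mem (mul_mem hn (hSN (C.leE' ha))) (inv_mem hn), fun h => haZ ?_, ?_⟩, ?_⟩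
        · rw [← C.inf]
          exact ⟨(mem_normalizer_iff.1 hn a).2 h, ha⟩
        · rw [show n * a * n⁻¹ * (n * a * n⁻¹) = n * (a * a) * n⁻¹ by group, C.sqE' a ha]; group
        · have hc := C.leE' ha
          rw [← C.cent, mem_centralizer_singleton_iff] at hc
          calc n * a * n⁻¹ * (n * z * n⁻¹) = n * (a * z) * n⁻¹ := by group
            _ = n * (z * a) * n⁻¹ := by rw [hc]
            _ = _ := by group
    rw [heq, Finset.card_image_of_injective _ (MulAut.conj n).injective]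
    have hd : (Finset.univ.filter fun a : K => a ∈ E' ∧ a ∉ Z) =
        (Finset.univ.filter fun a : K => a ∈ E') \ Finset.univ.filter fun a : K => a ∈ Z := by
      ext a; simp
    rw [hd, Finset.card_sdiff_of_subset (fun a ha => by simpa using hZE' (by simpa using ha)),
      ← Fintype.card_subtype, ← Fintype.card_subtype, ← Nat.card_eq_fintype_card, ← Nat.card_eq_fintype_card]
    show Nat.card E' - Nat.card Z = 12
    rw [C.cardE', C.cardZ]
  have hsc := Finset.card_mul_eq_card_mul _ habove hbelow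
  have hu : (Finset.univ.filter fun x : K => x ∈ N ∧ x * x = 1 ∧ x ≠ 1) = s ∪ t := by
    ext x
    simp only [Finset.mem_union, hms, hmt, Finset.mem_filter, Finset.mem_univ, true_and]
    constructor
    · rintro ⟨h1, h2, h3⟩
      by_cases h : x ∈ E
      · exact Or.inr ⟨h, h3⟩
      · exact Or.inl ⟨h1, h, h2⟩
    · rintro (⟨h1, h2, h3⟩ | ⟨h1, h2⟩)
      · exact ⟨h1, h3, fun e => h2 (e ▸ E.one_mem)⟩
      · exact ⟨hSN (C.leE h1), C.sqE x h1, h2⟩
  rw [Nat.card_eq_fintype_card, Fintype.card_subtype, hu, Finset.card_union_of_disjoint ?_]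
  · omega
  · rw [Finset.disjoint_left]
    exact fun a h1 h2 => ((hms a).1 h1).2.1 ((hmt a).1 h2).1

/-- An involution fixes five cosets of `N`. -/
theorem Conf.card_fix {x : K} (hx : x * x = 1) (hx1 : x ≠ 1) :
    Nat.card (MulAction.fixedBy (K ⧸ normalizer (E : Set K)) x) = 5 := by
  classical
  haveI := Fintype.ofFinite K
  set N := normalizer (E : Set K) with hN
  set F := MulAction.fixedBy (K ⧸ N) x with hF
  have hpre : Nat.card (QuotientGroup.mk ⁻¹' F : Set K) = 4800 := by
    have hmem : ∀ g : K, g ∈ (QuotientGroup.mk ⁻¹' F : Set K) ↔ g⁻¹ * x * g ∈ N := fun g => by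
      simp only [hF, Set.mem_preimage, MulAction.mem_fixedBy, MulAction.Quotient.smul_mk, smul_eq_mul]
      rw [eq_comm, QuotientGroup.eq, mul_assoc]
    rw [Nat.card_congr (Equiv.subtypeEquivRight hmem), Nat.card_eq_fintype_card, Fintype.card_subtype]
    have hmaps : ((Finset.univ.filter fun g : K => g⁻¹ * x * g ∈ N) : Set K).MapsTo (fun g => g⁻¹ * x * g)
        (Finset.univ.filter fun y : K => y ∈ N ∧ y * y = 1 ∧ y ≠ 1) := by
      intro g hg
      simp only [Finset.coe_filter, Finset.mem_univ, true_and, Set.mem_setOf_eq] at hg ⊢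
      refine ⟨hg, ?_, ?_⟩
      · rw [show g⁻¹ * x * g * (g⁻¹ * x * g) = g⁻¹ * (x * x) * g by group, hx]; group
      · intro h
        apply hx1
        calc x = g * (g⁻¹ * x * g) * g⁻¹ := by group
          _ = 1 := by rw [h]; group
    rw [Finset.card_eq_sum_card_fiberwise hmaps, Finset.sum_const_nat (m := 64)]
    · rw [← Fintype.card_subtype, ← Nat.card_eq_fintype_card, C.card_invol]
    intro y hy
    simp only [Finset.mem_filter, Finset.mem_univ, true_and] at hy
    obtain ⟨u, hu⟩ := isConj_iff.1 ((C.one x hx hx1).symm.trans (C.one y hy.2.1 hy.2.2))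
    have heq : ((Finset.univ.filter fun g : K => g⁻¹ * x * g ∈ N).filter fun g => g⁻¹ * x * g = y) =
        (Finset.univ.filter fun c : K => c ∈ centralizer ({x} : Set K)).image (· * u⁻¹) := by
      ext g
      simp only [Finset.mem_filter, Finset.mem_univ, true_and, Finset.mem_image]
      constructor
      · rintro ⟨-, hgy⟩
        refine ⟨g * u, mem_centralizer_singleton_iff.2 ?_, by group⟩
        calc g * u * x = g * (u * x * u⁻¹) * u := by group
          _ = g * (g⁻¹ * x * g) * u := by rw [hu, hgy]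
          _ = x * (g * u) := by group
      · rintro ⟨c, hc, rfl⟩
        have hc' := mem_centralizer_singleton_iff.1 hc
        have : (c * u⁻¹)⁻¹ * x * (c * u⁻¹) = y := by
          calc (c * u⁻¹)⁻¹ * x * (c * u⁻¹) = u * c⁻¹ * (x * c) * u⁻¹ := by group
            _ = u * c⁻¹ * (c * x) * u⁻¹ := by rw [hc']
            _ = u * x * u⁻¹ := by group
            _ = y := hu
        exact ⟨this.symm ▸ hy.1, this⟩
    rw [heq, Finset.card_image_of_injective _ (mul_left_injective u⁻¹), ← Fintype.card_subtype,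
      ← Nat.card_eq_fintype_card]
    exact C.card_cent hx hx1
  have h := Nat.card_congr (QuotientGroup.preimageMkEquivSubgroupProdSet N F)
  rw [hpre, Nat.card_prod, C.card_N] at h
  omega

theorem Conf.card_eq : Nat.card K = 960 * (normalizer (E : Set K)).index := by
  rw [← C.card_N, card_mul_index]

theorem Conf.index_mod : (normalizer (E : Set K)).index % 16 = 5 := by
  classical
  haveI := Fintype.ofFinite K
  set N := normalizer (E : Set K) with hN
  haveI := Fintype.ofFinite E
  haveI := Fintype.ofFinite (Quotient (MulAction.orbitRel E (K ⧸ N)))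
  have h := MulAction.sum_card_fixedBy_eq_card_orbits_mul_card_group E (K ⧸ N)
  have hval : ∀ e : E, Fintype.card (MulAction.fixedBy (K ⧸ N) e) = if e = 1 then N.index else 5 := by
    intro e
    rw [← Nat.card_eq_fintype_card]
    split_ifs with he
    · subst he
      rw [Nat.card_congr (Equiv.subtypeUnivEquiv (fun q => by simp)), index_eq_card]
    · exact C.card_fix (x := (e : K)) (C.sqE e e.2) (fun h => he (Subtype.ext h))
  simp only [hval] at h
  rw [Finset.sum_ite, Finset.filter_eq' _ (1 : E), if_pos (Finset.mem_univ _), Finset.sum_singleton,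
    Finset.filter_ne' _ (1 : E), Finset.sum_const, Finset.card_erase_of_mem (Finset.mem_univ _),
    Finset.card_univ, ← Nat.card_eq_fintype_card, C.cardE, smul_eq_mul] at h
  omega

theorem Conf.class_card : Nat.card {x : K // x * x = 1 ∧ x ≠ 1} * 64 = Nat.card K := by
  have h1 : Nat.card {x : K // x * x = 1 ∧ x ≠ 1} = Nat.card {x : K // IsConj z x} := by
    refine Nat.card_congr (Equiv.subtypeEquivRight fun x => ⟨fun h => C.one x h.1 h.2, ?_⟩)
    intro h
    obtain ⟨g, rfl⟩ := isConj_iff.1 h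
    refine ⟨?_, fun e => C.zne (conj_eq_one_iff.1 e)⟩
    rw [show g * z * g⁻¹ * (g * z * g⁻¹) = g * (z * z) * g⁻¹ by group, C.zz]; group
  have h2 := card_class (M := K) z
  rw [C.cent, C.cardS, ← h1] at h2
  exact h2

theorem Conf.class_odd : Odd (Nat.card {x : K // x * x = 1 ∧ x ≠ 1}) := by
  have h := C.class_card
  rw [C.card_eq] at h
  have := C.index_mod
  rw [Nat.odd_iff]
  omega

/-- There is no odd subgroup of index at most 64. -/
theorem Conf.no_odd (h53 : ∀ a b : K, orderOf a = 5 → orderOf b = 3 → a * b ≠ b * a) (D : Subgroup K)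
    (hD : Odd (Nat.card D)) (hbig : Nat.card K ≤ 64 * Nat.card D) : False := by
  set N := normalizer (E : Set K) with hN
  haveI : Fact (Nat.Prime 5) := ⟨Nat.prime_five⟩
  haveI : Fact (Nat.Prime 3) := ⟨Nat.prime_three⟩
  have hi := index_inf_le (H := D) (K := N)
  have e1 := card_mul_index D
  have e2 := card_mul_index (D ⊓ N)
  have hKK := C.card_eq
  rw [← hN] at hKK
  have hdle : Nat.card D ≤ Nat.card (D ⊓ N : Subgroup K) * N.index := by
    have h3 : Nat.card D * (D ⊓ N).index ≤ Nat.card K * N.index := by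
      calc Nat.card D * (D ⊓ N).index ≤ Nat.card D * (D.index * N.index) := Nat.mul_le_mul_left _ hi
        _ = _ := by rw [← mul_assoc, e1]
    have hpos : 0 < (D ⊓ N).index := Nat.pos_of_ne_zero index_ne_zero_of_finite
    rw [← e2] at h3
    refine Nat.le_of_mul_le_mul_right ?_ hpos
    calc Nat.card D * (D ⊓ N).index ≤ Nat.card (D ⊓ N : Subgroup K) * (D ⊓ N).index * N.index := h3
      _ = _ := by ring
  obtain ⟨d, hd⟩ : ∃ d, d = Nat.card (D ⊓ N : Subgroup K) := ⟨_, rfl⟩
  have hdN : d ∣ 960 := by rw [hd, ← C.card_N]; exact card_dvd_of_le inf_le_right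
  have hdo : Odd d := hd ▸ hD.of_dvd_nat (card_dvd_of_le inf_le_left)
  have hd15 : d = 15 := by
    have hge : 15 ≤ d := by
      have hm : 0 < N.index := Nat.pos_of_ne_zero index_ne_zero_of_finite
      rw [← hd] at hdle
      by_contra hc
      have : d * N.index ≤ 14 * N.index := Nat.mul_le_mul_right _ (by omega)
      omega
    have h15 : d ∣ 15 := by
      have hc : Nat.Coprime d 64 := by
        rw [show 64 = 2 ^ 6 by norm_num]
        exact Nat.Coprime.pow_right _ hdo.coprime_two_right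
      exact hc.dvd_of_dvd_mul_left hdN
    exact le_antisymm (Nat.le_of_dvd (by norm_num) h15) hge
  obtain ⟨T, hT⟩ : ∃ T, T = D ⊓ N := ⟨_, rfl⟩
  have hTc : Nat.card T = 15 := by rw [hT, ← hd, hd15]
  obtain ⟨a, ha⟩ := exists_prime_orderOf_dvd_card' (G := T) 5 (by rw [hTc]; norm_num)
  obtain ⟨b, hb⟩ := exists_prime_orderOf_dvd_card' (G := T) 3 (by rw [hTc]; norm_num)
  have hidx : (zpowers a).index = 3 := by
    have := card_mul_index (zpowers a)
    rw [Nat.card_zpowers, ha, hTc] at this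
    omega
  haveI hnorm : (zpowers a).Normal := normal_of_index_eq_minFac_card (by
    rw [hidx, hTc]
    refine le_antisymm ?_ (Nat.minFac_le_of_dvd (by omega) ⟨5, rfl⟩)
    have h2 := Nat.minFac_dvd 15
    have h4 := (Nat.minFac_prime (n := 15) (by omega)).two_le
    by_contra hlt
    rw [show Nat.minFac 15 = 2 by omega] at h2
    omega)
  obtain ⟨k, hk⟩ := mem_zpowers_iff.1 (hnorm.conj_mem a (mem_zpowers a) b)
  have hit : ∀ n : ℕ, b ^ n * a * (b ^ n)⁻¹ = a ^ (k ^ n) := by
    intro n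
    induction n with
    | zero => simp
    | succ n ih =>
      calc b ^ (n + 1) * a * (b ^ (n + 1))⁻¹ = b * (b ^ n * a * (b ^ n)⁻¹) * b⁻¹ := by
            rw [pow_succ']; group
        _ = (b * a * b⁻¹) ^ (k ^ n) := by rw [ih, conj_zpow]
        _ = _ := by rw [← hk, ← zpow_mul, pow_succ']
  have hb3 : b ^ 3 = 1 := hb ▸ pow_orderOf_eq_one b
  have h3 := hit 3
  rw [hb3, inv_one, mul_one, one_mul] at h3
  have hd5 : (5 : ℤ) ∣ k ^ 3 - 1 := by
    have h := orderOf_dvd_sub_iff_zpow_eq_zpow (x := a) (a := k ^ 3) (b := 1)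
    rw [ha] at h
    exact_mod_cast h.2 (by rw [zpow_one]; exact h3.symm)
  have hk1 : (5 : ℤ) ∣ k - 1 := by
    have h0 : ((k : ZMod 5)) ^ 3 = 1 := by
      have := (ZMod.intCast_zmod_eq_zero_iff_dvd (k ^ 3 - 1) 5).2 hd5
      push_cast at this
      exact sub_eq_zero.1 this
    have : ∀ c : ZMod 5, c ^ 3 = 1 → c = 1 := by decide
    have h1 := this _ h0
    exact (ZMod.intCast_zmod_eq_zero_iff_dvd (k - 1) 5).1 (by push_cast; rw [h1, sub_self])
  have hcomm : b * a * b⁻¹ = a := by
    rw [← hk]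
    obtain ⟨q, hq⟩ := hk1
    rw [show k = 5 * q + 1 by omega, zpow_add, zpow_mul, zpow_one]
    rw [show (5 : ℤ) = ((5 : ℕ) : ℤ) by rfl, zpow_natCast, ← ha, pow_orderOf_eq_one, one_zpow, one_mul]
  refine h53 (a : K) (b : K) (orderOf_coe a ▸ ha) (orderOf_coe b ▸ hb) (congrArg Subtype.val (?_ : a * b = b * a))
  calc a * b = (b * a * b⁻¹) * b := by rw [hcomm]
    _ = b * a := by group

end CfsgLib.SuzSeven
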