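import Cfsg.Agent.SuzThree.Fuse
import Cfsg.Agent.SuzInvol.Main

/-!
Coordinates on the product of the two radical parts attached to a pair of commuting conjugate involutions
in a group of Suzuki-sporadic type.
-/

set_option autoImplicit false
set_option linter.style.haveILetI false
set_option maxRecDepth 100000

namespace CfsgLib.SuzSeven

open CfsgLib CfsgLib.Quad CfsgLib.SuzInvol CfsgLib.SuzThree Subgroup

variable {G : Type*} [Group G] [Finite G] {z : G} {D : Dat z} {B : Base D}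

/-- A point of the product: an element of the radical times an element of the kernel. -/
def Rep (B : Base D) (x : G) (w v : M6) : Prop :=
  ∃ b a : G, b ∈ B.P ∧ a ∈ B.A ∧ x = b * a ∧ red (B.wv b) = w ∧ red (D.π a) = v

/-- The first bit of a square. -/
def bS (w v : M6) : ZMod 2 := bf v w + qf w

/-- The second bit of a square. -/
def bT (w v : M6) : ZMod 2 := bf v w + qf v

theorem inV_one : B.InV 1 := (B.inV_of (Or.inl rfl)).1

theorem inV_z : B.InV z := (B.inV_of (Or.inr (Or.inl rfl))).1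

theorem inV_mem {i : G} (h : B.InV i) : i ∈ B.P ∧ i ∈ B.A ∧ red (D.π i) = 0 := by
  have h' := (B.inV_of (B.inV_cases h)).2
  refine ⟨⟨h', mem_C D h.1⟩, B.mem_A.2 ⟨h.1, ?_⟩, ?_⟩
  · rcases h.2 with e | e <;> rw [e]
    exacts [bf_zero_left _, bf_self _]
  · rcases h.2 with e | e <;> rw [e]
    exacts [red_zero, red_e0]

theorem inV_mul {i j : G} (hi : B.InV i) (hj : B.InV j) : B.InV (i * j) :=
  B.meet (mul_mem hi.1 hj.1) (mul_mem (B.inV_of (B.inV_cases hi)).2 (B.inV_of (B.inV_cases hj)).2)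

theorem inV_inv {i : G} (hi : B.InV i) : B.InV i⁻¹ :=
  B.meet (inv_mem hi.1) (inv_mem (B.inV_of (B.inV_cases hi)).2)

theorem inV_sq {i : G} (hi : B.InV i) : i * i = 1 := by
  rcases B.inV_cases hi with e | e | e | e <;> rw [e]
  · exact one_mul 1
  · exact D.pre.gen.sq
  · exact B.s_sq
  · rw [mul_assoc, ← mul_assoc B.s z, (D.pre.gen.comm_z _ B.sQ).eq, mul_assoc, B.s_sq, mul_one, D.pre.gen.sq]

theorem inV_ext {i j : G} (hi : B.InV i) (hj : B.InV j) (h1 : B.σ i = B.σ j) (h2 : B.ζ i = B.ζ j) : i = j := by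
  obtain ⟨b1, b2⟩ := B.bits_add hi hj
  have h := B.eq_of_bits (inV_mul hi hj) 0 (by rw [b1, h1]; exact CharTwo.add_self_eq_zero _)
    (by rw [b2, h2]; exact CharTwo.add_self_eq_zero _)
  rw [if_pos rfl] at h
  rw [eq_inv_of_mul_eq_one_left h, inv_eq_of_mul_eq_one_right (inV_sq hj)]

theorem wv_mul {b b' : G} (hb : b ∈ B.P) (hb' : b' ∈ B.P) :
    red (B.wv (b * b')) = red (B.wv b) + red (B.wv b') := by
  obtain ⟨hw, hu⟩ := B.act_P hb
  obtain ⟨hw', hu'⟩ := B.act_P hb'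
  have e1 : (D.act ⟨b', hb'.2⟩).1 f0 = f0 + B.wv b' := by
    rw [B.wv_eq hb'.2, add_comm f0, add_assoc, add_self, add_zero]
  rw [B.wv_eq (mul_mem hb.2 hb'.2),
    show (⟨b * b', mul_mem hb.2 hb'.2⟩ : centralizer ({z} : Set G)) = ⟨b, hb.2⟩ * ⟨b', hb'.2⟩ from rfl, map_mul]
  show red ((D.act ⟨b, hb.2⟩).1 ((D.act ⟨b', hb'.2⟩).1 f0) + f0) = _
  rw [e1, hu]
  simp only [uMap, bf_add_left, b_fe, hw'.1, add_zero, one_smul, red_add, red_smul_e0]
  generalize red f0 = a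
  generalize red (B.wv b) = c
  generalize red (B.wv b') = d
  rw [show a + d + c + a = (a + a) + (c + d) by abel, add_self, zero_add]

theorem wv_one : B.wv 1 = 0 := by
  rw [B.wv_eq (one_mem _), show (⟨1, one_mem _⟩ : centralizer ({z} : Set G)) = 1 from rfl, map_one]
  exact add_self f0

theorem wv_inV {i : G} (h : B.InV i) : red (B.wv i) = 0 := by
  obtain ⟨hP, -, -⟩ := inV_mem h
  rw [B.wv_eq hP.2, (D.act_eq_one ⟨i, hP.2⟩).2 h.1]
  show red (f0 + f0) = 0
  rw [add_self, red_zero]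

theorem rep_inV {i : G} (h : B.InV i) : Rep B i 0 0 :=
  ⟨i, 1, (inV_mem h).1, one_mem _, (mul_one i).symm, wv_inV h, by rw [π_one, red_zero]⟩

theorem rep_P {b : G} (hb : b ∈ B.P) : Rep B b (red (B.wv b)) 0 :=
  ⟨b, 1, hb, one_mem _, (mul_one b).symm, rfl, by rw [π_one, red_zero]⟩

theorem rep_A {a : G} (ha : a ∈ B.A) : Rep B a 0 (red (D.π a)) :=
  ⟨1, a, one_mem _, ha, (one_mul a).symm, by rw [wv_one, red_zero], rfl⟩

theorem Rep.mem_C {x : G} {w v : M6} (h : Rep B x w v) : x ∈ centralizer ({z} : Set G) := by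
  obtain ⟨b, a, hb, ha, rfl, -, -⟩ := h
  exact mul_mem hb.2 (SuzInvol.mem_C D ha.1)

theorem Rep.mem_list {x : G} {w v : M6} (h : Rep B x w v) : w ∈ wList ∧ v ∈ wList := by
  obtain ⟨b, a, hb, ha, -, rfl, rfl⟩ := h
  exact ⟨red_mem _ (B.act_P hb).1.1, red_mem _ (B.mem_A.1 ha).2⟩

theorem Rep.mul {x x' : G} {w v w' v' : M6} (h : Rep B x w v) (h' : Rep B x' w' v') :
    Rep B (x * x') (w + w') (v + v') := by
  obtain ⟨b, a, hb, ha, rfl, rfl, rfl⟩ := h
  obtain ⟨b', a', hb', ha', rfl, rfl, rfl⟩ := h'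
  have hc := B.cm_mem (inv_mem hb') ha
  obtain ⟨-, hcA, hcr⟩ := inV_mem hc
  refine ⟨b * b', cm b'⁻¹ a * a * a', mul_mem hb hb', mul_mem (mul_mem hcA ha) ha', ?_, wv_mul hb hb', ?_⟩
  · simp only [cm]; group
  · rw [D.π_mul _ (mul_mem hcA.1 ha.1) _ ha'.1, D.π_mul _ hcA.1 _ ha.1, red_add, red_add, hcr, zero_add]

theorem Rep.sq {x : G} {w v : M6} (h : Rep B x w v) :
    B.InV (x * x) ∧ B.σ (x * x) = bS w v ∧ B.ζ (x * x) = bT w v := by
  obtain ⟨b, a, hb, ha, rfl, rfl, rfl⟩ := h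
  obtain ⟨he, -⟩ := B.prod_sq hb ha
  obtain ⟨hV1, hs1, hz1⟩ := B.sq_P hb
  obtain ⟨hV2, hs2, hz2⟩ := B.sq_A ha
  have hV0 := B.cm_mem hb ha
  have hw := (B.act_P hb).1.1
  have hv := (B.mem_A.1 ha).2
  rw [he]
  refine ⟨inV_mul (inV_mul hV0 hV1) hV2, ?_, ?_⟩
  · rw [(B.bits_add (inV_mul hV0 hV1) hV2).1, (B.bits_add hV0 hV1).1, B.σ_cm hb ha, hs1, hs2, add_zero,
      bS, bf_red hv hw, qf_red hw]
  · rw [(B.bits_add (inV_mul hV0 hV1) hV2).2, (B.bits_add hV0 hV1).2, B.ζ_cm_eq hb a ha, hz1, hz2, add_zero,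
      bT, bf_red hv hw, qf_red hv]

theorem Rep.inV_of_zero {x : G} (h : Rep B x 0 0) : B.InV x := by
  obtain ⟨b, a, hb, ha, rfl, hw, hv⟩ := h
  have hb0 : B.wv b = 0 := adm_eq (B.act_P hb).1
    ⟨bf_zero_left _, by rw [bf_zero_right]; decide +kernel⟩ (hw.trans red_zero.symm)
  have hbQ : b ∈ D.Q := by
    refine (D.act_eq_one ⟨b, hb.2⟩).1 (Subtype.ext (LinearEquiv.ext fun m => ?_))
    rw [(B.act_P hb).2, hb0]
    simp [uMap, bf_zero_right]
  refine inV_mul (B.meet hbQ hb.1) ⟨ha.1, ?_⟩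
  rcases red_cases (D.π a) with e | e <;> rw [hv] at e
  · exact Or.inl e
  · exact Or.inr (e.trans (zero_add _))

theorem Rep.unique_one {w v : M6} (h : Rep B (1 : G) w v) : w = 0 ∧ v = 0 := by
  obtain ⟨b, a, hb, ha, he, rfl, rfl⟩ := h
  have hba : b = a⁻¹ := eq_inv_of_mul_eq_one_left he.symm
  have hV : B.InV b := B.meet (hba ▸ inv_mem ha.1) hb.1
  refine ⟨wv_inV hV, ?_⟩
  have : a = b⁻¹ := by rw [hba, inv_inv]
  rw [this]
  exact (inV_mem (inV_inv hV)).2.2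

theorem Rep.sq_zero {x : G} {w v : M6} (h : Rep B x w v) : Rep B x⁻¹ w v := by
  have h2 := (rep_inV (inV_inv h.sq.1)).mul h
  rw [zero_add, zero_add, show (x * x)⁻¹ * x = x⁻¹ by group] at h2
  exact h2

theorem Rep.unique {x : G} {w v w' v' : M6} (h : Rep B x w v) (h' : Rep B x w' v') : w = w' ∧ v = v' := by
  have h2 := h.sq_zero.mul h'
  rw [inv_mul_cancel] at h2
  obtain ⟨e1, e2⟩ := h2.unique_one
  have key : ∀ {a b : M6}, a + b = 0 → a = b := fun {a b} e => by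
    calc a = a + (b + b) := by rw [add_self, add_zero]
      _ = b := by rw [← add_assoc, e, zero_add]
  exact ⟨key e1, key e2⟩

theorem Rep.eq_mul {x x' : G} {w v : M6} (h : Rep B x w v) (h' : Rep B x' w v) :
    ∃ i, B.InV i ∧ x' = x * i := by
  refine ⟨x⁻¹ * x', ?_, by group⟩
  have h2 := h.sq_zero.mul h'
  rw [add_self, add_self] at h2
  exact h2.inV_of_zero

theorem Rep.comm_inV {x : G} {w v : M6} (h : Rep B x w v) {i : G} (hi : B.InV i) : x * i = i * x := by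
  obtain ⟨b, a, hb, ha, rfl, -, -⟩ := h
  rw [mul_assoc, B.A_comm_V ha hi, ← mul_assoc, B.P_comm_V hb hi, mul_assoc]

/-- The commutation rule. -/
theorem Rep.comm_iff {x x' : G} {w v w' v' : M6} (h : Rep B x w v) (h' : Rep B x' w' v') :
    x * x' = x' * x ↔ bS (w + w') (v + v') = bS w v + bS w' v' ∧ bT (w + w') (v + v') = bT w v + bT w' v' := by
  obtain ⟨V1, s1, t1⟩ := h.sq
  obtain ⟨V2, s2, t2⟩ := h'.sq
  obtain ⟨V, s, t⟩ := (h.mul h').sq
  obtain ⟨b1, b2⟩ := B.bits_add V1 V2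
  constructor
  · intro e
    have e2 : x * x' * (x * x') = x * x * (x' * x') := by
      calc x * x' * (x * x') = x * (x' * x) * x' := by group
        _ = x * x * (x' * x') := by rw [← e]; group
    rw [e2] at s t
    rw [← s, ← t, b1, b2, s1, s2, t1, t2]
    exact ⟨rfl, rfl⟩
  · rintro ⟨hs, ht⟩
    have e2 := inV_ext V (inV_mul V1 V2) (by rw [s, b1, s1, s2, hs]) (by rw [t, b2, t1, t2, ht])
    calc x * x' = x⁻¹ * (x * x * (x' * x')) * x'⁻¹ := by group
      _ = x' * x := by rw [← e2]; group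

theorem Rep.invol_iff {x : G} {w v : M6} (h : Rep B x w v) : x * x = 1 ↔ bS w v = 0 ∧ bT w v = 0 := by
  obtain ⟨V, s, t⟩ := h.sq
  constructor
  · intro e
    rw [e, B.bits.2.2.2.2.1] at s
    rw [e, B.bits.2.2.2.2.2] at t
    exact ⟨s.symm, t.symm⟩
  · rintro ⟨hs, ht⟩
    exact inV_ext V inV_one (by rw [s, hs, B.bits.2.2.2.2.1]) (by rw [t, ht, B.bits.2.2.2.2.2])

theorem red_app {g : O6} (he : g.1 e0 = e0) (m : M6) : red (g.1 (red m)) = red (g.1 m) := by
  rcases red_cases m with e | e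
  · rw [← e]
  · conv_rhs => rw [e, map_add, he, red_add, red_e0, add_zero]

theorem Rep.conj {x : G} {w v : M6} (h : Rep B x w v) {c : G} (hz : c * z = z * c) (hs : c * B.s = B.s * c) :
    Rep B (c * x * c⁻¹) (red ((actG D c).1 w)) (red ((actG D c).1 v)) := by
  obtain ⟨b, a, hb, ha, rfl, rfl, rfl⟩ := h
  have hzc : c * z * c⁻¹ = z := by rw [hz, mul_inv_cancel_right]
  have hsc : c * B.s * c⁻¹ = B.s := by rw [hs, mul_inv_cancel_right]
  have hc : c ∈ centralizer ({z} : Set G) := mem_centralizer_singleton_iff.2 hz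
  have he : (actG D c).1 e0 = e0 := by rw [← B.πs, ← actG_π D hc B.sQ, hsc]
  obtain ⟨hP, hw⟩ := B.red_wv_conj hb hzc hsc
  have haQ : c * a * c⁻¹ ∈ D.Q := conj_mem_Q D hc ha.1
  have hA : c * a * c⁻¹ ∈ B.A := by
    refine B.mem_A.2 ⟨haQ, ?_⟩
    rw [actG_π D hc ha.1]
    conv_lhs => arg 2; rw [← he]
    rw [bf_oGroup]
    exact (B.mem_A.1 ha).2
  exact ⟨_, _, hP, hA, by group, by rw [hw hc, red_app he, actG_eq D hc], by rw [actG_π D hc ha.1, red_app he]⟩

/-- The code of a vector. -/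
def cd (m : M6) : ℕ :=
  ((List.range 64).find? fun n => decide (vec n = m)).getD 0

theorem cd_vec : ∀ n : Fin 64, cd (vec n.val) = n.val := by decide +kernel

/-- The rotation, computably. -/
def rot (m : M6) : M6 := vec (aN w0 (cd m))

theorem oW_code {u : List ℕ} (hu : okL u = true) (m : M6) : (oW u).1 m = vec (aN u (cd m)) := by
  obtain ⟨n, hn, rfl⟩ := exists_code m
  rw [oW_apply hu hn, cd_vec ⟨n, hn⟩]

theorem rot_eq (m : M6) : (oW w0).1 m = rot m := oW_code okL_small.1 m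

theorem Rep.conj_y {y : G} (T : Three D y) (hys : y * B.s = B.s * y) {x : G} {w v : M6} (h : Rep B x w v) :
    Rep B (y * x * y⁻¹) (red (rot w)) (red (rot v)) := by
  have h1 := h.conj (mem_centralizer_singleton_iff.1 T.mem) hys
  rwa [T.act, rot_eq, rot_eq] at h1

theorem Three.y_s {y : G} (T : Three D y) (B : Base D) : y * B.s = B.s * y :=
  comm_of_fixed D T.mem T.three B.sQ (by
    rw [T.act, B.πs, ← vec1, oW_apply okL_small.1 (by norm_num), wJ_facts.2.2.2.2.2])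

/-- Fixed coordinates give elements centralised by the element of order three. -/
theorem Rep.comm_y {y : G} (T : Three D y) {x : G} {w v : M6} (h : Rep B x w v) (hw : red (rot w) = w)
    (hv : red (rot v) = v) : x * y = y * x := by
  have h1 := h.conj_y T (Three.y_s T B)
  rw [hw, hv] at h1
  obtain ⟨i, hi, he⟩ := h.eq_mul h1
  have hyi : y * i * y⁻¹ = i := B.fix_V
    (by rw [mem_centralizer_singleton_iff.1 T.mem, mul_inv_cancel_right])
    (by rw [Three.y_s T B, mul_inv_cancel_right]) hi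
  have h3 : y ^ 3 * x * (y ^ 3)⁻¹ = x * (i * i * i) := by
    calc y ^ 3 * x * (y ^ 3)⁻¹ = y * (y * (y * x * y⁻¹) * y⁻¹) * y⁻¹ := by
          simp only [pow_succ, pow_zero, one_mul, mul_inv_rev, mul_assoc]
      _ = y * (y * (x * i) * y⁻¹) * y⁻¹ := by rw [he]
      _ = y * (y * x * y⁻¹ * (y * i * y⁻¹)) * y⁻¹ := by group
      _ = y * (x * i * i) * y⁻¹ := by rw [he, hyi]
      _ = y * x * y⁻¹ * (y * i * y⁻¹) * (y * i * y⁻¹) := by group
      _ = x * (i * i * i) := by rw [he, hyi]; group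
  rw [T.three, one_mul, inv_one, mul_one, inV_sq hi, one_mul] at h3
  have hi1 : i = 1 := mul_eq_left.1 h3.symm
  rw [hi1, mul_one] at he
  exact (mul_inv_eq_iff_eq_mul.1 he).symm

theorem exists_rep {w v : M6} (hw : w ∈ wList) (hv : v ∈ wList) : ∃ x : G, Rep B x w v := by
  obtain ⟨hadm, hred⟩ := adm_rep hw
  obtain ⟨b, hb, hbw⟩ := B.wv_surj hadm
  obtain ⟨a, ha, haπ⟩ := D.π_surj v
  exact ⟨b * a, b, a, hb, B.mem_A.2 ⟨ha, by rw [haπ]; exact (wList_perp v hv).1⟩, rfl, by rw [hbw, hred],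
    by rw [haπ, red_wList hv]⟩

end CfsgLib.SuzSeven
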