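import Cfsg.Agent.SuzSeven.Group

/-!
The element of order seven and the centraliser of the four group.
-/

set_option autoImplicit false
set_option linter.style.haveILetI false
set_option maxRecDepth 100000

namespace CfsgLib.SuzSeven

open CfsgLib CfsgLib.SuzInvol CfsgLib.SuzThree Subgroup
open CfsgLib.SuzEleven (cX mem_cX card_PSU4)
open Cfsg.Agent.McLU43 (K9)

local notation "PSU4" => Cfsg.PSU 4 K9 3

variable {G : Type*} [Group G] [Finite G] {z : G} {D : Dat z} {B : Base D} {y t : G}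

/-- The chosen element of order seven. -/
structure IsSeven (T : Three D y) (hS : Seed B y t) (b : hS.H T) : Prop where
  ord : orderOf b = 7
  card_H : Nat.card (hS.H T) = 20160
  sylow : ∃ P : Sylow 7 (hS.H T), (P : Subgroup (hS.H T)) = zpowers b
  ncard : Nat.card (normalizer ((zpowers b : Subgroup (hS.H T)) : Set (hS.H T))) = 21

variable (T : Three D y) (hS : Seed B y t) {π : cX y →* PSU4} (P : SuzEleven.Pi T π)
include T hS P

theorem Seed.exists_seven : ∃ b, IsSeven T hS b := by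
  haveI : Fact (Nat.Prime 7) := ⟨by norm_num⟩
  obtain ⟨h, Q, hQ, hN⟩ := hS.card_H T P
  obtain ⟨⟨b, hb⟩, hb7⟩ := exists_prime_orderOf_dvd_card' (G := (Q : Subgroup (hS.H T))) 7 (dvd_of_eq hQ.symm)
  rw [Subgroup.orderOf_mk] at hb7
  have hQb : (Q : Subgroup (hS.H T)) = zpowers b :=
    (eq_of_le_of_card_ge (zpowers_le.2 hb) (by rw [Nat.card_zpowers, hb7]; exact hQ.le)).symm
  exact ⟨b, hb7, h, ⟨Q, hQb⟩, hQb ▸ hN⟩

variable {b : hS.H T} (hb : IsSeven T hS b)
include hb

omit P in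
theorem IsSeven.ord_coe : orderOf (b : G) = 7 := (orderOf_coe b).trans hb.ord

omit P in
/-- Elements of order seven of the centraliser of the four group move to the chosen one. -/
theorem IsSeven.conj_into {b' : hS.H T} (h' : orderOf b' = 7) :
    ∃ h : hS.H T, h * b' * h⁻¹ ∈ zpowers b := by
  haveI : Fact (Nat.Prime 7) := ⟨by norm_num⟩
  obtain ⟨Q, hQ⟩ := hb.sylow
  obtain ⟨Q', hQ'⟩ := (IsPGroup.of_card (n := 1) (by rw [Nat.card_zpowers, h', pow_one]) :
    IsPGroup 7 (zpowers b')).exists_le_sylow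
  obtain ⟨h, hh⟩ := MulAction.exists_smul_eq (hS.H T) Q' Q
  refine ⟨h, ?_⟩
  rw [← hQ, ← hh, Sylow.coe_subgroup_smul]
  exact ⟨b', hQ' (mem_zpowers b'), rfl⟩

/-- An element of order three normalising the subgroup. -/
theorem IsSeven.exists_move_seven : ∃ h : hS.H T, h * b * h⁻¹ ∈ zpowers b ∧ h * b ≠ b * h ∧ orderOf h = 3 := by
  haveI : Fact (Nat.Prime 3) := ⟨Nat.prime_three⟩
  obtain ⟨⟨h, hh⟩, h3⟩ := exists_prime_orderOf_dvd_card'
    (G := normalizer ((zpowers b : Subgroup (hS.H T)) : Set (hS.H T))) 3 (by rw [hb.ncard]; norm_num)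
  rw [Subgroup.orderOf_mk] at h3
  refine ⟨h, (mem_normalizer_iff.1 hh b).1 (mem_zpowers b), fun e => ?_, h3⟩
  have h1 := orderOf_dvd_natCard (⟨h, hS.cent_prime T P (Or.inl hb.ord) e⟩ : zpowers b)
  rw [Subgroup.orderOf_mk, Nat.card_zpowers, hb.ord, h3] at h1
  norm_num at h1

theorem IsSeven.cent_cX {x : G} (hx : x ∈ cX y) (hxb : x * b = b * x) :
    ∃ c ∈ zpowers (b : G), ∃ e : Fin 3, x = c * y ^ e.val := by
  have hbX : (b : G) ∈ cX y := hS.H_le T b.2
  have h := centralizer_prime (b := π ⟨b, hbX⟩) (x := π ⟨x, hx⟩) (Or.inl (by rw [hS.orderOf_π T P]; exact hb.ord))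
    (by rw [← map_mul, ← map_mul]; exact congrArg π (Subtype.ext hxb))
  obtain ⟨n, hn⟩ := mem_zpowers_iff.1 h
  rw [← map_zpow] at hn
  obtain ⟨e, he⟩ := P.eq_iff.1 hn
  exact ⟨_, zpow_mem (mem_zpowers _) n, e, he⟩

omit hb in
/-- The projection of the normaliser. -/
theorem Seed.norm_V0_of_seven {b : hS.H T} (hb : IsSeven T hS b) {c : G} (hc : c ∈ cX y)
    (hcb : c * b * c⁻¹ ∈ zpowers (b : G)) {v : G} (hv : v ∈ hS.V0 T) : c * v * c⁻¹ ∈ hS.V0 T := by
  haveI : Fact (Nat.Prime 7) := ⟨by norm_num⟩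
  haveI : Finite PSU4 := Nat.finite_of_card_ne_zero (by rw [card_PSU4]; norm_num)
  set ψ := π.comp (inclusion (hS.H_le T)) with hψ
  have hψb : orderOf (ψ b) = 7 := (orderOf_injective ψ (hS.π_inj T P) b).trans hb.ord
  have hmap : (zpowers b).map ψ = zpowers (ψ b) := MonoidHom.map_zpowers ψ b
  set N := normalizer ((zpowers (ψ b) : Subgroup PSU4) : Set PSU4) with hN
  have hNcard : Nat.card N = 21 := by
    have hf : Nat.card (zpowers (ψ b)) = 7 ^ (Nat.card PSU4).factorization 7 := by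
      rw [Nat.card_zpowers, hψb, card_PSU4, show (3265920 : ℕ) = 7 * 466560 by norm_num,
        Nat.factorization_mul (by norm_num) (by norm_num), Finsupp.add_apply,
        Nat.Prime.factorization_self (by norm_num), Nat.factorization_eq_zero_of_not_dvd (by norm_num)]
      norm_num
    obtain ⟨-, e, n, he, hNe, hne, hn⟩ := seven_norm (r := 466560) (by rw [card_PSU4]) (by norm_num)
      (fun b x hb hx => centralizer_prime (Or.inl hb) hx) (Sylow.ofCard (zpowers (ψ b)) hf)
    have := Nat.le_of_dvd (by norm_num) he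
    rw [Sylow.coe_ofCard, ← hN] at hNe
    interval_cases e <;> omega
  have heq : (normalizer ((zpowers b : Subgroup (hS.H T)) : Set (hS.H T))).map ψ = N := by
    refine eq_of_le_of_card_ge ?_ ?_
    · rw [hN, ← hmap]
      exact le_normalizer_map ψ
    · rw [hNcard, card_map_of_injective (hS.π_inj T P), hb.ncard]
  have hcN : π ⟨c, hc⟩ ∈ N := by
    have hle : ∀ x ∈ zpowers (ψ b), π ⟨c, hc⟩ * x * (π ⟨c, hc⟩)⁻¹ ∈ zpowers (ψ b) := by
      intro x hx
      obtain ⟨n, rfl⟩ := mem_zpowers_iff.1 hx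
      rw [← conj_zpow]
      refine zpow_mem ?_ n
      obtain ⟨m, hm⟩ := mem_zpowers_iff.1 hcb
      refine mem_zpowers_iff.2 ⟨m, ?_⟩
      show ψ b ^ m = π ⟨c, hc⟩ * π ⟨b, _⟩ * (π ⟨c, hc⟩)⁻¹
      rw [← map_inv, ← map_mul, ← map_mul, ← map_zpow]
      exact congrArg π (Subtype.ext (by simpa using hm))
    rw [hN, mem_normalizer_iff_map_conj_eq]
    refine eq_of_le_of_card_ge ?_ (le_of_eq (card_map_of_injective (MulAut.conj (π ⟨c, hc⟩)).injective).symm)
    rintro _ ⟨x, hx, rfl⟩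
    exact hle x hx
  rw [← heq] at hcN
  obtain ⟨h, -, hh⟩ := hcN
  obtain ⟨e, he⟩ := P.eq_iff.1 hh
  have he' : c = (h : G) * y ^ e.val := he
  rw [he', show (h : G) * y ^ e.val * v * ((h : G) * y ^ e.val)⁻¹ = (h : G) * (y ^ e.val * v * (y ^ e.val)⁻¹) * (h : G)⁻¹
    by group]
  have hpow : ∀ k : ℕ, y ^ k * v * (y ^ k)⁻¹ ∈ hS.V0 T := by
    intro k
    induction k with
    | zero => simpa using hv
    | succ k ih =>
      rw [pow_succ', show y * y ^ k * v * (y * y ^ k)⁻¹ = y * (y ^ k * v * (y ^ k)⁻¹) * y⁻¹ by group]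
      exact hS.y_norm T ih
  rw [← mem_centralizer_iff.1 h.2.2 _ (hpow e.val), mul_inv_cancel_right]
  exact hpow e.val

/-- The centraliser of the four group. -/
theorem IsSeven.cent_V0 {x : G} (hx : x ∈ centralizer (hS.V0 T : Set G)) :
    ∃ v ∈ hS.V0 T, ∃ h ∈ hS.H T, x = v * h := by
  set L := centralizer (hS.V0 T : Set G) with hL
  have hV : hS.V0 T ≤ L := fun v hv => mem_centralizer_iff.2 fun w hw => hS.V0_comm T hw hv
  have hH : hS.H T ≤ L := inf_le_right
  have hzL : z ∈ L := hH (hS.z_H T)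
  have hcV : Nat.card ((hS.V0 T).subgroupOf L) = 4 := by
    rw [Nat.card_congr (subgroupOfEquivOfLe hV).toEquiv, hS.card_V0 T]
  have hcH : Nat.card ((hS.H T).subgroupOf L) = 20160 := by
    rw [Nat.card_congr (subgroupOfEquivOfLe hH).toEquiv, hb.card_H]
  have key := split_top (L := L) (V := (hS.V0 T).subgroupOf L) (H := (hS.H T).subgroupOf L) (z := ⟨z, hzL⟩)
    (c := 64) (by norm_num)
    (fun v hv x => Subtype.ext (mem_centralizer_iff.1 x.2 (v : G) hv))
    (fun v hv => Subtype.ext ((hS.isFour T).sq _ hv))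
    (eq_bot_iff.2 fun v hv => mem_bot.2 (Subtype.ext ((mem_bot.1 (hS.V0_inf_H T ▸ mem_inf.2
      ⟨(mem_inf.1 hv).1, (mem_inf.1 hv).2⟩ : (v : G) ∈ (⊥ : Subgroup G))))))
    (hS.z_H T) (Subtype.ext D.pre.gen.sq) (fun e => D.pre.gen.ne_one (congrArg Subtype.val e))
    (fun x hx => by
      obtain ⟨v, hv, hs⟩ := hS.cent_split T (mem_centralizer_singleton_iff.2 (congrArg Subtype.val hx)) x.2
      refine ⟨⟨v, hV hv⟩, hv, ⟨(x : G) * v, mul_mem x.2 (hV hv)⟩, hS.S_le_H T hs, Subtype.ext ?_⟩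
      show (x : G) = v * ((x : G) * v)
      rw [← mem_centralizer_iff.1 x.2 v hv, ← mul_assoc, (hS.isFour T).sq v hv, one_mul])
    (by
      rw [hcV, show 64 * 4 = Nat.card (hS.S T × hS.V0 T) by rw [Nat.card_prod, hS.card_S T, hS.card_V0 T]]
      refine Nat.card_le_card_of_injective (fun x =>
        ((⟨(x.1.1 : G) * (Classical.choose (hS.cent_split T (mem_centralizer_singleton_iff.2 (congrArg Subtype.val
          (mem_centralizer_singleton_iff.1 x.2))) x.1.2) : G),
          (Classical.choose_spec (hS.cent_split T (mem_centralizer_singleton_iff.2 (congrArg Subtype.val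
          (mem_centralizer_singleton_iff.1 x.2))) x.1.2)).2⟩ : hS.S T),
         (⟨Classical.choose (hS.cent_split T (mem_centralizer_singleton_iff.2 (congrArg Subtype.val
          (mem_centralizer_singleton_iff.1 x.2))) x.1.2),
          (Classical.choose_spec (hS.cent_split T (mem_centralizer_singleton_iff.2 (congrArg Subtype.val
          (mem_centralizer_singleton_iff.1 x.2))) x.1.2)).1⟩ : hS.V0 T))) ?_
      intro a a' e
      simp only [Prod.mk.injEq, Subtype.mk.injEq] at e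
      rw [e.2] at e
      exact Subtype.ext (Subtype.ext (mul_right_cancel e.1)))
    (fun x hx hx2 hx1 => by
      obtain ⟨h, hh, e⟩ := hS.one_class T P (x := (x : G)) hx (congrArg Subtype.val hx2)
        (fun e => hx1 (Subtype.ext e))
      exact ⟨⟨h, hH hh⟩, hh, Subtype.ext e⟩)
    (fun v hv hc => by
      obtain ⟨g, hg⟩ := isConj_iff.1 hc
      have hg' : (g : G) * z * (g : G)⁻¹ = v := congrArg Subtype.val hg
      refine (hS.isFour T).cls _ hv (fun e => ?_) (isConj_iff.2 ⟨_, hg'⟩)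
      rw [show (v : G) = 1 from e, conj_eq_one_iff] at hg'
      exact D.pre.gen.ne_one hg')
    (fun v hv hv1 hc => by
      obtain ⟨g, hg⟩ := isConj_iff.1 hc
      exact hS.z_mul_cls T hv (fun e => hv1 (Subtype.ext e)) (isConj_iff.2 ⟨_, congrArg Subtype.val hg⟩))
    (by
      rw [hcH, ← hb.card_H, ← (hS.conf T P).class_card, mul_comm]
      congr 1
      refine Nat.card_congr ((subgroupOfEquivOfLe hH).toEquiv.subtypeEquiv fun a => ?_)
      simp only [MulEquiv.toEquiv_eq_coe, EquivLike.coe_coe, ne_eq, ← map_mul, map_eq_one_iff _ (MulEquiv.injective _)])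
    (fun Dd hD hodd hbig => by
      have hle : Dd.map L.subtype ≤ hS.H T := by rintro _ ⟨d, hd, rfl⟩; exact hD hd
      have hc : Nat.card ((Dd.map L.subtype).subgroupOf (hS.H T)) = Nat.card Dd := by
        rw [Nat.card_congr (subgroupOfEquivOfLe hle).toEquiv, card_map_of_injective L.subtype_injective]
      refine (hS.conf T P).no_odd (hS.h53 T P) _ (hc.symm ▸ hodd) ?_
      rw [hc, hb.card_H, ← hcH]
      exact hbig)
  obtain ⟨v, hv, h, hh, e⟩ := key ⟨x, hx⟩
  exact ⟨v, hv, h, hh, congrArg Subtype.val e⟩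

/-- Centralisers of both. -/
theorem IsSeven.cent_V0_b {x : G} (hx : x ∈ centralizer (hS.V0 T : Set G)) (hxb : x * b = b * x) :
    ∃ v ∈ hS.V0 T, ∃ c ∈ zpowers (b : G), x = v * c := by
  obtain ⟨v, hv, h, hh, rfl⟩ := hb.cent_V0 T hS P hx
  have hvb : v * (b : G) = b * v := mem_centralizer_iff.1 b.2.2 v hv
  have hhb : (⟨h, hh⟩ : hS.H T) * b = b * ⟨h, hh⟩ := by
    refine Subtype.ext (mul_left_cancel (a := v) ?_)
    calc v * (h * (b : G)) = v * h * b := by group
      _ = b * (v * h) := hxb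
      _ = v * ((b : G) * h) := by rw [← mul_assoc, ← hvb, mul_assoc]
  obtain ⟨n, hn⟩ := mem_zpowers_iff.1 (hS.cent_prime T P (Or.inl hb.ord) hhb)
  exact ⟨v, hv, _, zpow_mem (mem_zpowers _) n, by rw [show h = (b : G) ^ n from (congrArg Subtype.val hn).symm]⟩

end CfsgLib.SuzSeven
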