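import Cfsg.Agent.SuzEleven.Model

/-!
Enumerations for centralisers of elements of order seven and five in the four-dimensional unitary group over nine elements.
-/

set_option autoImplicit false
set_option maxRecDepth 100000
set_option linter.style.haveILetI false

namespace CfsgLib.SuzSeven

open CfsgLib.U43Type CfsgLib.U43Type.Mats Matrix CfsgLib.Coset
open Cfsg.Agent.McLU43 (K9 dec fadd fmul fadd_lt fmul_lt dec_add dec_mul dec_inj dec_zero dec_one)
open CfsgLib.SuzEleven (card_PSU4)

local notation "SU4" => Cfsg.SU 4 K9 3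
local notation "PSU4" => Cfsg.PSU 4 K9 3

/-- An entry of a polynomial in a matrix. -/
def cEnt (M : Nat) (c : Fin 4 → Nat) (n : Nat) : Nat :=
  fadd (fadd (fadd (fmul (c 0) (oneC / 9 ^ n % 9)) (fmul (c 1) (M / 9 ^ n % 9)))
    (fmul (c 2) (mC M M / 9 ^ n % 9))) (fmul (c 3) (mC M (mC M M) / 9 ^ n % 9))

/-- The code of a polynomial in a matrix. -/
def cC (M : Nat) (c : Fin 4 → Nat) : Nat := ((List.range 16).map fun n => cEnt M c n * 9 ^ n).sum

/-- Unitarity of a code. -/
def uOK (X : Nat) : Bool :=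
  (List.range 4).all fun k => (List.range 4).all fun m =>
    fadd (fadd (fadd (fmul (ent X 0 k) (fmul (ent X 0 m) (fmul (ent X 0 m) (ent X 0 m))))
      (fmul (ent X 1 k) (fmul (ent X 1 m) (fmul (ent X 1 m) (ent X 1 m)))))
      (fmul (ent X 2 k) (fmul (ent X 2 m) (fmul (ent X 2 m) (ent X 2 m)))))
      (fmul (ent X 3 k) (fmul (ent X 3 m) (fmul (ent X 3 m) (ent X 3 m)))) == if k == m then 1 else 0

/-- The determinant in four rows. -/
def det4 (M : Matrix (Fin 4) (Fin 4) K9) : K9 :=
    M 0 0 * (M 1 1 * (M 2 2 * M 3 3 - M 2 3 * M 3 2) - M 1 2 * (M 2 1 * M 3 3 - M 2 3 * M 3 1) +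
      M 1 3 * (M 2 1 * M 3 2 - M 2 2 * M 3 1)) -
    M 0 1 * (M 1 0 * (M 2 2 * M 3 3 - M 2 3 * M 3 2) - M 1 2 * (M 2 0 * M 3 3 - M 2 3 * M 3 0) +
      M 1 3 * (M 2 0 * M 3 2 - M 2 2 * M 3 0)) +
    M 0 2 * (M 1 0 * (M 2 1 * M 3 3 - M 2 3 * M 3 1) - M 1 1 * (M 2 0 * M 3 3 - M 2 3 * M 3 0) +
      M 1 3 * (M 2 0 * M 3 1 - M 2 1 * M 3 0)) -
    M 0 3 * (M 1 0 * (M 2 1 * M 3 2 - M 2 2 * M 3 1) - M 1 1 * (M 2 0 * M 3 2 - M 2 2 * M 3 0) +
      M 1 2 * (M 2 0 * M 3 1 - M 2 1 * M 3 0))

/-- The powers of a matrix code. -/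
def powC (M : Nat) : Nat → Nat
  | 0 => oneC
  | n + 1 => mC M (powC M n)

/-- The certificate of a cyclic vector. -/
def cycOK (M K L : Nat) : Bool :=
  mC K L == oneC && (List.range 4).all fun i => (List.range 4).all fun j => ent K i j == ent (powC M j) i 0

/-- The seventh word. -/
def seven : List Nat := (List.replicate 4 sevenW).flatten

/-- The fifth word. -/
def five : List Nat := (List.replicate 4 fiveW).flatten

theorem seven_ok : powC (codeW seven) 7 = oneC ∧ noncentral seven 0 = true ∧
    cycOK (codeW seven) 920381320096714 892395220561480 = true := by decide +kernel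

theorem five_ok : powC (codeW five) 5 = oneC ∧ noncentral five 0 = true ∧
    cycOK (codeW five) 1187116855519618 1659879872963488 = true := by decide +kernel

/-- The table of sums. -/
def tAdd (x y : Nat) : Nat := 96051920073429517465643282160833405478053728016721738867077621179668491191620 / 9 ^ (9 * x + y) % 9

/-- The table of products. -/
def tMul (x y : Nat) : Nat := 134933521601014739983835492958995385744646755219336662194622111016280497100512 / 9 ^ (9 * x + y) % 9

/-- The table of terms of the hermitian product. -/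
def tHerm (x y : Nat) : Nat := 53050630273456212027215293247896030246788347905947991934583274436471706723552 / 9 ^ (9 * x + y) % 9

theorem table_ok : ∀ x y : Fin 9, tAdd x.val y.val = fadd x.val y.val ∧ tMul x.val y.val = fmul x.val y.val ∧
    tHerm x.val y.val = fmul x.val (fmul y.val (fmul y.val y.val)) := by decide +kernel

/-- An entry from the stored powers. -/
def eC (M A C a b c d n : Nat) : Nat :=
  tAdd (tAdd (tAdd (tMul a (oneC / 9 ^ n % 9)) (tMul b (M / 9 ^ n % 9))) (tMul c (A / 9 ^ n % 9)))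
    (tMul d (C / 9 ^ n % 9))

/-- Unitarity from the stored powers. -/
def preOK (M A C a b c d : Nat) : Bool :=
  (List.range 4).all fun k => (List.range 4).all fun m =>
    tAdd (tAdd (tAdd (tHerm (eC M A C a b c d k) (eC M A C a b c d m))
      (tHerm (eC M A C a b c d (4 + k)) (eC M A C a b c d (4 + m))))
      (tHerm (eC M A C a b c d (8 + k)) (eC M A C a b c d (8 + m))))
      (tHerm (eC M A C a b c d (12 + k)) (eC M A C a b c d (12 + m))) == if k == m then 1 else 0

/-- The body of the search. -/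
def bodyOK (W p : Nat) (c : Fin 4 → Nat) : Bool :=
  !(uOK (cC W c) && decide (det4 (toM (cC W c)) = 1)) ||
    (List.range p).any fun e => isScal (mC (powC W e) (cC W c))

/-- The search. -/
def searchOK (W M A C p : Nat) : Bool :=
  (List.range 9).all fun a => (List.range 9).all fun b => (List.range 9).all fun c => (List.range 9).all fun d =>
    !(preOK M A C a b c d) || bodyOK W p ![a, b, c, d]

theorem pre_of_uOK {W M A C : Nat} (h1 : W = M) (h2 : mC W W = A) (h3 : mC W (mC W W) = C) {a b c d : Nat}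
    (ha : a < 9) (hb : b < 9) (hc : c < 9) (hd : d < 9) (h : uOK (cC W ![a, b, c, d]) = true) :
    preOK M A C a b c d = true := by
  have tA : ∀ {x y : Nat}, x < 9 → y < 9 → tAdd x y = fadd x y := fun {x y} hx hy => (table_ok ⟨x, hx⟩ ⟨y, hy⟩).1
  have tM : ∀ {x y : Nat}, x < 9 → y < 9 → tMul x y = fmul x y := fun {x y} hx hy => (table_ok ⟨x, hx⟩ ⟨y, hy⟩).2.1
  have hm : ∀ x : Nat, x % 9 < 9 := fun x => Nat.mod_lt _ (by norm_num)
  have he : ∀ i k, i < 4 → k < 4 → ent (cC W ![a, b, c, d]) i k = eC M A C a b c d (4 * i + k) := fun i k hi hk => by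
    rw [ent, cC, ent_sum (fun n => cEnt W ![a, b, c, d] n) (fun n => fadd_lt _ _) 16 _ (by omega), cEnt, eC,
      h3, h2, h1, tM ha (hm _), tM hb (hm _), tM hc (hm _), tM hd (hm _), tA (fmul_lt _ _) (fmul_lt _ _),
      tA (fadd_lt _ _) (fmul_lt _ _), tA (fadd_lt _ _) (fmul_lt _ _)]
    rfl
  have tH : ∀ {x y : Nat}, x < 9 → y < 9 → tHerm x y = fmul x (fmul y (fmul y y)) :=
    fun {x y} hx hy => (table_ok ⟨x, hx⟩ ⟨y, hy⟩).2.2
  have e4 : ∀ i k, i < 4 → k < 4 → eC M A C a b c d (4 * i + k) < 9 := fun i k _ _ => Nat.mod_lt _ (by norm_num)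
  simp only [uOK, List.all_eq_true, List.mem_range] at h
  simp only [preOK, List.all_eq_true, List.mem_range]
  intro k hk m hm'
  have h0 := h k hk m hm'
  have g : ∀ i j l, i < 4 → j < 4 → l < 4 →
      fmul (ent (cC W ![a, b, c, d]) i j) (fmul (ent (cC W ![a, b, c, d]) i l)
        (fmul (ent (cC W ![a, b, c, d]) i l) (ent (cC W ![a, b, c, d]) i l))) =
      tHerm (eC M A C a b c d (4 * i + j)) (eC M A C a b c d (4 * i + l)) := fun i j l hi hj hl => by
    rw [he i j hi hj, he i l hi hl, tH (e4 i j hi hj) (e4 i l hi hl)]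
  rw [g 0 k m (by norm_num) hk hm', g 1 k m (by norm_num) hk hm', g 2 k m (by norm_num) hk hm',
    g 3 k m (by norm_num) hk hm'] at h0
  have hlt : ∀ x y, tHerm x y < 9 := fun _ _ => Nat.mod_lt _ (by norm_num)
  rw [tA (hlt _ _) (hlt _ _), tA (fadd_lt _ _) (hlt _ _), tA (fadd_lt _ _) (hlt _ _)]
  simpa only [mul_zero, zero_add, mul_one, show 4 * 2 = 8 from rfl, show 4 * 3 = 12 from rfl] using h0

theorem of_searchOK {W M A C p : Nat} (h1 : W = M) (h2 : mC W W = A) (h3 : mC W (mC W W) = C)
    (hs : searchOK W M A C p = true) : ∀ a b c d : Fin 9, uOK (cC W ![a.val, b.val, c.val, d.val]) = true →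
    det4 (toM (cC W ![a.val, b.val, c.val, d.val])) = 1 →
    ((List.range p).any fun e => isScal (mC (powC W e) (cC W ![a.val, b.val, c.val, d.val]))) = true := by
  intro a b c d hu hdet
  simp only [searchOK, List.all_eq_true, List.mem_range, Bool.or_eq_true, Bool.not_eq_true'] at hs
  rcases hs a.val a.isLt b.val b.isLt c.val c.isLt d.val d.isLt with h | h
  · rw [pre_of_uOK h1 h2 h3 a.isLt b.isLt c.isLt d.isLt hu] at h; exact absurd h (by simp)
  · simpa [bodyOK, hu, hdet] using h

theorem seven_powers : codeW seven = 572717815937424 ∧ mC (codeW seven) (codeW seven) = 723146362784444 ∧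
    mC (codeW seven) (mC (codeW seven) (codeW seven)) = 143669780528136 := by decide +kernel

theorem five_powers : codeW five = 1771577744387466 ∧ mC (codeW five) (codeW five) = 1849825945262002 ∧
    mC (codeW five) (mC (codeW five) (codeW five)) = 1112368014740896 := by decide +kernel

theorem seven_enum : ∀ a b c d : Fin 9, uOK (cC (codeW seven) ![a.val, b.val, c.val, d.val]) = true →
    det4 (toM (cC (codeW seven) ![a.val, b.val, c.val, d.val])) = 1 →
    ((List.range 7).any fun e => isScal (mC (powC (codeW seven) e)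
      (cC (codeW seven) ![a.val, b.val, c.val, d.val]))) = true :=
  of_searchOK seven_powers.1 seven_powers.2.1 seven_powers.2.2 (by decide +kernel)

theorem five_enum : ∀ a b c d : Fin 9, uOK (cC (codeW five) ![a.val, b.val, c.val, d.val]) = true →
    det4 (toM (cC (codeW five) ![a.val, b.val, c.val, d.val])) = 1 →
    ((List.range 5).any fun e => isScal (mC (powC (codeW five) e)
      (cC (codeW five) ![a.val, b.val, c.val, d.val]))) = true :=
  of_searchOK five_powers.1 five_powers.2.1 five_powers.2.2 (by decide +kernel)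

end CfsgLib.SuzSeven
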